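import Cfsg.Agent.Lib.OmegaEightCent.Sub

/-!
The involutions of the subgroup generated by the root involutions, and the fusion of `z` in it.
-/

set_option autoImplicit false
set_option linter.unusedSectionVars false
set_option linter.style.haveILetI false
set_option maxHeartbeats 1000000
set_option synthInstance.maxSize 2000

open Cfsg CfsgLib.Extraspecial
open Equiv (Perm swap)

namespace CfsgLib.OmegaEightCent

variable {G : Type*} [Group G]

/-- two involutions: conjugate, or with a third commuting with both -/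
theorem two_invols [Finite G] {y u : G} (hy : y * y = 1) (hu : u * u = 1) :
    (∃ g, g * y * g⁻¹ = u ∧ ∀ t, Commute t y → Commute t u → Commute t g) ∨
      ∃ e, e * e = 1 ∧ e ≠ 1 ∧ Commute e y ∧ Commute e u ∧
        (IsConj y (y * e) ∧ IsConj u (u * e) ∨ IsConj u (y * e) ∧ IsConj y (u * e)) ∧
        ∀ t, Commute t y → Commute t u → Commute t e := by
  set x := y * u with hx
  have hyi : y⁻¹ = y := inv_eq_of_mul_eq_one_right hy
  have hui : u⁻¹ = u := inv_eq_of_mul_eq_one_right hu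
  have hflip : ∀ n : ℕ, y * x ^ n * y = (x ^ n)⁻¹ := by
    intro n
    have e : y * x * y⁻¹ = x⁻¹ := by
      rw [hx, mul_inv_rev, hui, hyi, ← mul_assoc y y, hy, one_mul]
    rw [← inv_pow, ← e, conj_pow, hyi]
  have hflip' : ∀ n : ℕ, y * x ^ n = (x ^ n)⁻¹ * y := fun n => by
    rw [← hflip n, mul_assoc, hy, mul_one]
  have hu' : u = y * x := by rw [hx, ← mul_assoc, hy, one_mul]
  have hstep : ∀ n : ℕ, (x ^ n)⁻¹ * y * x ^ n = y * x ^ (2 * n) := fun n => by
    rw [← hflip' n, mul_assoc, ← pow_add, ← two_mul]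
  have hx1 : x ^ orderOf x = 1 := pow_orderOf_eq_one x
  have hpos : 0 < orderOf x := orderOf_pos x
  rcases Nat.even_or_odd' (orderOf x) with ⟨k, hk | hk⟩
  · right
    have hk0 : k ≠ 0 := by omega
    have he2 : x ^ k * x ^ k = 1 := by rw [← pow_add, ← two_mul, ← hk, hx1]
    have hei : (x ^ k)⁻¹ = x ^ k := inv_eq_of_mul_eq_one_right he2
    have hey : Commute (x ^ k) y := by
      show x ^ k * y = y * x ^ k
      rw [hflip', hei]
    refine ⟨x ^ k, he2, fun e => ?_, hey, ?_, ?_, fun t h1 h2 => ((h1.mul_right h2)).pow_right k⟩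
    · exact absurd (orderOf_dvd_of_pow_eq_one e) (fun h => by
        have := Nat.le_of_dvd (by omega) h
        omega)
    · show x ^ k * u = u * x ^ k
      rw [hu', ← mul_assoc, hey.eq, mul_assoc, mul_assoc, ← pow_succ, ← pow_succ']
    · have hyk : ∀ n : ℕ, IsConj y (y * x ^ (2 * n)) := fun n =>
        isConj_iff.2 ⟨(x ^ n)⁻¹, by rw [inv_inv, hstep]⟩
      have huk : ∀ n : ℕ, IsConj u (y * x ^ (2 * n + 1)) := fun n =>
        isConj_iff.2 ⟨(x ^ n)⁻¹, by
          rw [inv_inv, hu', pow_succ, ← mul_assoc y (x ^ (2 * n)) x, ← hstep,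
            show (x ^ n)⁻¹ * (y * x) * x ^ n = (x ^ n)⁻¹ * y * (x * x ^ n) by group, ← pow_succ', pow_succ]
          group⟩
      have hue : u * x ^ k = y * x ^ (k + 1) := by rw [hu', mul_assoc, ← pow_succ']
      rcases Nat.even_or_odd' k with ⟨j, hj | hj⟩
      · left; rw [hue, hj]; exact ⟨hyk j, huk j⟩
      · right; rw [hue, hj]; exact ⟨huk j, hyk (j + 1)⟩
  · left
    refine ⟨x ^ k, ?_, fun t h1 h2 => (h1.mul_right h2).pow_right k⟩
    have e1 : (x ^ k)⁻¹ = x ^ (k + 1) := inv_eq_of_mul_eq_one_right (by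
      rw [← pow_add, show k + (k + 1) = orderOf x by omega, hx1])
    calc x ^ k * y * (x ^ k)⁻¹ = x ^ k * (y * x ^ k) * (x ^ k)⁻¹ * (x ^ k)⁻¹ := by group
      _ = x ^ k * ((x ^ k)⁻¹ * y) * x ^ (k + 1) * x ^ (k + 1) := by rw [hflip', e1]
      _ = y * x * x ^ orderOf x := by
          rw [show orderOf x = k + (k + 1) by omega]
          group
      _ = u := by rw [hx1, mul_one, hu']

/-- the list of the symmetric group of degree three -/
def s3List : List S3 := [1, tt, tt', tt * tt', tt' * tt, tt * tt' * tt]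

/-- the representatives of the singular classes -/
def repList : List V8 :=
  [pnt 0, pnt 0 + pnt (xC 0), pnt 0 + pnt (xC 1), pnt 0 + pnt (xC 2),
    pnt (xA 0) + pnt (xA 1) + pnt (xA 2)]

theorem orbit_reps : ∀ x : V8, qV x = 0 → x ≠ 0 →
    (s3List.any fun p => s3List.any fun q => s3List.any fun o =>
      repList.contains (act ![p, q, o] x)) = true := by decide +kernel

/-- products of standard transpositions -/
def mS (b : Fin 3 → Bool) : M0 := fun l => bif b l then tt else 1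

/-- the class of a product of the `eff` -/
def cS (b : Fin 3 → Bool) : V8 :=
  (bif b 0 then pnt (xC 0) else 0) + (bif b 1 then pnt (xC 1) else 0) + (bif b 2 then pnt (xC 2) else 0)

theorem fixed_image : ∀ (b : Fin 3 → Bool) (x : V8), b ≠ (fun _ => false) → act (mS b) x = x →
    ∃ y, act (mS b) y + y = x := by decide +kernel

theorem not_single : ∀ (b : Fin 3 → Bool), b ≠ (fun _ => false) → (∀ i, b ≠ fun l => decide (l = i)) →
    (∀ a, cS b ≠ pnt a) ∧ (∀ a, pnt 0 + cS b ≠ pnt a) ∧ cS b ≠ 0 ∧ pnt 0 + cS b ≠ 0 := by decide +kernel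

theorem rep_not_point : ∀ a : Fin 3 → Fin 3, (∀ i, pnt 0 + pnt (xC i) ≠ pnt a) ∧
    pnt (xA 0) + pnt (xA 1) + pnt (xA 2) ≠ pnt a ∧ pnt (xA 0) + pnt (xA 1) + pnt (xA 2) ≠ 0 := by
  decide +kernel

theorem pair_not_point : ∀ (i j : Fin 3) (a : Fin 3 → Fin 3), i ≠ j →
    pnt (xA i) + pnt (xA j) ≠ pnt a ∧ pnt (xA i) + pnt (xA j) ≠ 0 := by decide +kernel

/-- the three representatives of rank two -/
abbrev qrep (z v : G) (c : Fin 3 → G) (i : Fin 3) : G := z * v * c i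

/-- the representative of the last class -/
abbrev wrep (a : Fin 3 → G) : G := a 0 * a 1 * a 2

namespace Fr

variable [Finite G] {z : G} {Q : Subgroup G} {π : ↥(Cz z) →* M0} {κ : V8 → T Q} {v u r s : G}
  {a c : Fin 3 → G} (F : Fr z Q π κ v u r s a c)
include F

theorem qrep_Q (i : Fin 3) : qrep z v c i ∈ Q := Q.mul_mem (Q.mul_mem F.H.zQ F.A.vQ) (F.B.aQ i)

theorem qrep_cl (i : Fin 3) : cl Q (qrep z v c i) = κ (pnt 0 + pnt (xC i)) := by
  rw [cl_mul (Q.mul_mem F.H.zQ F.A.vQ) (F.B.aQ i), cl_mul F.H.zQ F.A.vQ, F.H.cl_z, one_mul, F.A.cv,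
    F.cc, F.C.add]

theorem qrep_not (i : Fin 3) : ¬ IsConj z (qrep z v c i) :=
  F.not_conj_of_class (F.qrep_Q i) (F.qrep_cl i) (fun b => (zp_not_point i b).1) (zp_not_point i 0).2

theorem wrep_Q : wrep a ∈ Q := Q.mul_mem (Q.mul_mem (F.A.aQ 0) (F.A.aQ 1)) (F.A.aQ 2)

theorem wrep_cl : cl Q (wrep a) = κ (pnt (xA 0) + pnt (xA 1) + pnt (xA 2)) := by
  rw [cl_mul (Q.mul_mem (F.A.aQ 0) (F.A.aQ 1)) (F.A.aQ 2), cl_mul (F.A.aQ 0) (F.A.aQ 1), F.A.ca, F.A.ca,
    F.A.ca, F.C.add, F.C.add]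

theorem wrep_not : ¬ IsConj z (wrep a) :=
  F.not_conj_of_class F.wrep_Q F.wrep_cl (fun b => (rep_not_point b).2.1) (rep_not_point 0).2.2

theorem r_eq : u * ww r u = r := by
  have h : u * ww r u = (u * r * u) * r⁻¹ := by rw [ww]; group
  rw [h, F.A.ru]
  have rri : r * r = r⁻¹ := eq_inv_of_mul_eq_one_left F.A.r3
  calc r⁻¹ * r⁻¹ = (r * r)⁻¹ := by group
    _ = r := by rw [rri, inv_inv]

theorem r_mem : r ∈ KK r s u a c := by
  have := (KK r s u a c).mul_mem (u_mem (r := r) (s := s) (u := u) (a := a) (c := c)).1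
    (u_mem (r := r) (s := s) (u := u) (a := a) (c := c)).2
  rwa [F.r_eq] at this

theorem conj_z_class {p q : G} {x : V8} (hp : p ∈ Q) (hq : q ∈ Q) (hx : cl Q p = κ x) (hy : cl Q q = κ x)
    (h0 : x ≠ 0) : ∃ k ∈ Cz z, k * p * k⁻¹ = q := by
  rcases F.C.eq_or F.H hq hp hy hx with e | e
  · exact ⟨1, one_mem _, by rw [e]; group⟩
  · have h1 : p ≠ 1 := fun e1 => h0 (F.C.bij.1 (by rw [← hx, e1, cl_one, F.C.zero F.H]))
    have h2 : p ≠ z := fun e1 => h0 (F.C.bij.1 (by rw [← hx, e1, F.H.cl_z, F.C.zero F.H]))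
    obtain ⟨o, ho, hoe⟩ := F.H.st.exists_move hp h1 h2
    exact ⟨o, F.H.QC ho, hoe.trans e.symm⟩

/-- an involution of the centraliser outside `Q` -/
theorem normal_form {t : G} (ht : t ∈ Cz z) (ht2 : t * t = 1) (htQ : t ∉ Q) :
    ∃ b : Fin 3 → Bool, b ≠ (fun _ => false) ∧ ∃ k ∈ Cz z,
      (∃ P : G, P * P = 1 ∧ P ∈ Cz z ∧ img z π P = mS b ∧ r⁻¹ * P * r ∈ Q ∧
        cl Q (r⁻¹ * P * r) = κ (cS b) ∧ (k * t * k⁻¹ = P ∨ k * t * k⁻¹ = z * P) ∧
        (∀ i, b = (fun l => decide (l = i)) → P = nn r c i)) := by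
  classical
  set m := img z π t with hm
  have hm2 : ∀ i, m i * m i = 1 := fun i => by
    have : m * m = 1 := by rw [hm, ← F.H.img_mul ht ht, ht2, F.H.img_one]
    exact congrFun this i
  have hex : ∀ i, ∃ o : S3, o * m i * o⁻¹ = 1 ∨ o * m i * o⁻¹ = tt := fun i => by
    by_cases h : m i = 1
    · exact ⟨1, Or.inl (by rw [h]; group)⟩
    · obtain ⟨o, ho⟩ := s3_conj (m i) (hm2 i) h
      exact ⟨o, Or.inr ho⟩
  choose o ho using hex
  obtain ⟨k, hk, hki⟩ := F.H.lift o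
  set t' := k * t * k⁻¹ with ht'
  have ht'C : t' ∈ Cz z := (Cz z).mul_mem ((Cz z).mul_mem hk ht) ((Cz z).inv_mem hk)
  let b : Fin 3 → Bool := fun i => decide (o i * m i * (o i)⁻¹ = tt)
  have him : img z π t' = mS b := by
    rw [ht', F.H.img_conj hk ht, hki]
    funext i
    show o i * m i * (o i)⁻¹ = bif b i then tt else 1
    rcases ho i with e | e <;> simp [b, e, Ne.symm tt_facts.2.1]
  have hb : b ≠ fun _ => false := by
    intro e
    refine htQ ?_
    have h1 : img z π t' = 1 := by rw [him, e]; rfl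
    have h2 := F.H.conjQ ((Cz z).inv_mem hk) ((F.H.img_eq_one ht'C).1 h1)
    rw [inv_inv, ht'] at h2
    convert h2 using 1
    group
  let n : Fin 3 → G := fun i => bif b i then nn r c i else 1
  have hnn : ∀ i j, Commute (nn r c i) (nn r c j) := fun i j => by
    rcases eq_or_ne j i with rfl | h
    · exact Commute.refl _
    · exact (F.levi i j h).2.1
  have hc01 : ∀ i j, Commute (n i) (n j) := fun i j => by
    show Commute (bif b i then nn r c i else 1) (bif b j then nn r c j else 1)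
    cases b i <;> cases b j <;> simp [hnn]
  have hn2 : ∀ i, n i * n i = 1 := fun i => by
    show (bif b i then nn r c i else 1) * _ = 1
    cases hbi : b i
    · simp [n, hbi]
    · simp [n, hbi, (F.tn i).two]
  have hnC : ∀ i, n i ∈ Cz z := fun i => by
    show (bif b i then nn r c i else 1) ∈ Cz z
    cases b i
    · exact one_mem _
    · exact F.n_C i
  have hni : ∀ i, img z π (n i) = bif b i then sgl i tt else 1 := fun i => by
    show img z π (bif b i then nn r c i else 1) = _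
    cases b i
    · exact F.H.img_one
    · exact F.n_img i
  set P := n 0 * n 1 * n 2 with hP
  have hPC : P ∈ Cz z := (Cz z).mul_mem ((Cz z).mul_mem (hnC 0) (hnC 1)) (hnC 2)
  have hP2 : P * P = 1 := by
    calc n 0 * n 1 * n 2 * (n 0 * n 1 * n 2) = (n 0 * n 1) * (n 0 * n 1) * (n 2 * n 2) :=
          Commute.mul_mul_mul_comm ((hc01 2 0).mul_right (hc01 2 1)) _ _
      _ = (n 0 * n 0) * (n 1 * n 1) * (n 2 * n 2) := by rw [(hc01 1 0).mul_mul_mul_comm]
      _ = 1 := by rw [hn2, hn2, hn2, one_mul, one_mul]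
  have hPimg : img z π P = mS b := by
    rw [hP, F.H.img_mul ((Cz z).mul_mem (hnC 0) (hnC 1)) (hnC 2), F.H.img_mul (hnC 0) (hnC 1), hni, hni, hni]
    funext l
    simp only [Pi.mul_apply, mS]
    fin_cases l <;> cases hb0 : b 0 <;> cases hb1 : b 1 <;> cases hb2 : b 2 <;>
      simp [hb0, hb1, hb2, sgl]
  let cq : Fin 3 → G := fun i => bif b i then c i else 1
  have hcq : ∀ i, cq i ∈ Q := fun i => by
    show (bif b i then c i else 1) ∈ Q
    cases b i
    · exact one_mem _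
    · exact F.B.aQ i
  have hcl : ∀ i, cl Q (cq i) = κ (bif b i then pnt (xC i) else 0) := fun i => by
    show cl Q (bif b i then c i else 1) = _
    cases b i
    · exact (cl_one Q).trans (F.C.zero F.H).symm
    · exact F.cc i
  have hrP : r⁻¹ * P * r = cq 0 * cq 1 * cq 2 := by
    have e : ∀ i, r⁻¹ * n i * r = cq i := fun i => by
      show r⁻¹ * (bif b i then nn r c i else 1) * r = (bif b i then c i else 1)
      cases b i
      · simp
      · show r⁻¹ * nn r c i * r = c i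
        rw [nn]; group
    rw [← e, ← e, ← e, hP]; group
  set q := P * t' with hq
  have hqQ : q ∈ Q := by
    rw [← F.H.img_eq_one ((Cz z).mul_mem hPC ht'C), F.H.img_mul hPC ht'C, hPimg, him]
    funext l
    show (bif b l then tt else 1) * (bif b l then tt else 1) = 1
    cases b l <;> simp [tt_facts.1]
  have ht'2 : t' * t' = 1 := by
    rw [ht']
    calc k * t * k⁻¹ * (k * t * k⁻¹) = k * (t * t) * k⁻¹ := by group
      _ = 1 := by rw [ht2]; group
  have hPi : P⁻¹ = P := inv_eq_of_mul_eq_one_right hP2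
  obtain ⟨x, hx⟩ := F.C.exists_x F.H (q := q)
  have hfix : act (mS b) x = x := by
    have h1 := F.C.conj_cl F.H hPC hqQ hx
    rw [hPimg] at h1
    refine F.C.bij.1 (h1.symm.trans (?_ : cl Q (P * q * P⁻¹) = κ x))
    have e : P * q * P⁻¹ = q⁻¹ := by
      rw [hq, hPi, mul_inv_rev, inv_eq_of_mul_eq_one_right ht'2, hPi]
      calc P * (P * t') * P = (P * P) * t' * P := by group
        _ = t' * P := by rw [hP2, one_mul]
    rw [e, ← hx, ← F.H.T_mul_eq_one, ← cl_mul (Q.inv_mem hqQ) hqQ, inv_mul_cancel, cl_one]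
  obtain ⟨y, hy⟩ := fixed_image b x hb hfix
  obtain ⟨p, hp, hpy⟩ : ∃ p ∈ Q, cl Q p = κ y := ⟨rep Q (κ y), rep_mem Q _, cl_rep Q _⟩
  have hpinv : cl Q p⁻¹ = κ y := by
    rw [← hpy, ← F.H.T_mul_eq_one, ← cl_mul (Q.inv_mem hp) hp, inv_mul_cancel, cl_one]
  have hPp : P * p * P ∈ Q := by have := F.H.conjQ hPC hp; rwa [hPi] at this
  have hz' : cl Q (P * p * P * q * p⁻¹) = κ 0 := by
    have e1 : cl Q (P * p * P) = κ (act (mS b) y) := by
      have := F.C.conj_cl F.H hPC hp hpy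
      rwa [hPi, hPimg] at this
    rw [cl_mul (Q.mul_mem hPp hqQ) (Q.inv_mem hp), cl_mul hPp hqQ, e1, hx, hpinv, ← F.C.add, ← F.C.add, ← hy]
    congr 1
    calc act (mS b) y + (act (mS b) y + y) + y = (act (mS b) y + act (mS b) y) + (y + y) := by abel
      _ = 0 := by rw [two8, two8, add_zero]
  have heq : (p * k) * t * (p * k)⁻¹ = P * (P * p * P * q * p⁻¹) := by
    calc (p * k) * t * (p * k)⁻¹ = p * t' * p⁻¹ := by rw [ht']; group
      _ = (P * P) * p * ((P * P) * t') * p⁻¹ := by rw [hP2, one_mul, one_mul]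
      _ = _ := by rw [hq]; group
  refine ⟨b, hb, p * k, (Cz z).mul_mem (F.H.QC hp) hk, P, hP2, hPC, hPimg, ?_, ?_, ?_, ?_⟩
  · rw [hrP]; exact Q.mul_mem (Q.mul_mem (hcq 0) (hcq 1)) (hcq 2)
  · rw [hrP, cl_mul (Q.mul_mem (hcq 0) (hcq 1)) (hcq 2), cl_mul (hcq 0) (hcq 1), hcl, hcl, hcl, ← F.C.add,
      ← F.C.add]
    rfl
  · rcases (F.C.zero_iff F.H (Q.mul_mem (Q.mul_mem hPp hqQ) (Q.inv_mem hp))).1 hz' with e | e
    · left; rw [heq, e, mul_one]
    · right; rw [heq, e, mem_Cz.1 hPC]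
  · intro i hbi
    rw [hP]
    show (bif b 0 then nn r c 0 else 1) * (bif b 1 then nn r c 1 else 1) * (bif b 2 then nn r c 2 else 1) = _
    rw [hbi]
    fin_cases i <;> simp

/-- every involution of the centraliser is conjugate into `Q` -/
theorem into_Q {t : G} (ht : t ∈ Cz z) (ht2 : t * t = 1) : ∃ k ∈ KK r s u a c, k * t * k⁻¹ ∈ Q := by
  by_cases htQ : t ∈ Q
  · exact ⟨1, one_mem _, by simpa using htQ⟩
  obtain ⟨b, -, k, hk, P, -, -, -, hrQ, -, hor, -⟩ := F.normal_form ht ht2 htQ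
  have hzr : r⁻¹ * z * r = z * v := by
    calc r⁻¹ * z * r = r⁻¹ * (r * (z * v) * r⁻¹) * r := by rw [F.rzv]
      _ = _ := by group
  refine ⟨r⁻¹ * k, mul_mem (inv_mem F.r_mem) (F.C_le hk), ?_⟩
  rw [show r⁻¹ * k * t * (r⁻¹ * k)⁻¹ = r⁻¹ * (k * t * k⁻¹) * r by group]
  rcases hor with e | e <;> rw [e]
  · exact hrQ
  · rw [show r⁻¹ * (z * P) * r = (r⁻¹ * z * r) * (r⁻¹ * P * r) by group, hzr]
    exact Q.mul_mem (Q.mul_mem F.H.zQ F.A.vQ) hrQ

/-- the classes of involutions of the centraliser -/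
theorem invol_C {t : G} (ht : t ∈ Cz z) (ht2 : t * t = 1) (ht1 : t ≠ 1) :
    ∃ k ∈ KK r s u a c, k * t * k⁻¹ = z ∨ (∃ i, k * t * k⁻¹ = qrep z v c i) ∨ k * t * k⁻¹ = wrep a := by
  classical
  obtain ⟨k, hk, hkQ⟩ := F.into_Q ht ht2
  set t₁ := k * t * k⁻¹ with ht₁
  have h2 : t₁ * t₁ = 1 := by
    rw [ht₁]
    calc k * t * k⁻¹ * (k * t * k⁻¹) = k * (t * t) * k⁻¹ := by group
      _ = 1 := by rw [ht2]; group
  obtain ⟨x, hx⟩ := F.C.exists_x F.H (q := t₁)
  by_cases hx0 : x = 0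
  · rcases (F.C.zero_iff F.H hkQ).1 (hx0 ▸ hx) with e | e
    · refine absurd ?_ ht1
      have : k * t * k⁻¹ = 1 := e
      simpa using this
    · exact ⟨k, hk, Or.inl e⟩
  have horb := orbit_reps x ((F.C.sq_iff F.H hkQ hx).1 h2) hx0
  simp only [List.any_eq_true] at horb
  obtain ⟨p, -, q, -, o, -, hrep⟩ := horb
  rw [List.contains_iff_mem] at hrep
  obtain ⟨l, hl, hli⟩ := F.H.lift ![p, q, o]
  have hlQ : l * t₁ * l⁻¹ ∈ Q := F.H.conjQ hl hkQ
  have hlc : cl Q (l * t₁ * l⁻¹) = κ (act ![p, q, o] x) := by rw [F.C.conj_cl F.H hl hkQ hx, hli]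
  have fin : ∀ g ∈ Q, ∀ y, cl Q g = κ y → y ≠ 0 → act ![p, q, o] x = y →
      ∃ k' ∈ KK r s u a c, k' * t * k'⁻¹ = g := by
    intro g hg y hgy hy0 he
    obtain ⟨j, hj, hje⟩ := F.conj_z_class hlQ hg (he ▸ hlc) hgy hy0
    refine ⟨j * l * k, mul_mem (mul_mem (F.C_le hj) (F.C_le hl)) hk, ?_⟩
    rw [← hje, ht₁]; group
  simp only [repList, List.mem_cons, List.not_mem_nil, or_false] at hrep
  rcases hrep with e | e | e | e | e
  · obtain ⟨k', hk', e'⟩ := fin v F.A.vQ _ F.A.cv (pnt_ne 0) e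
    refine ⟨r⁻¹ * k', mul_mem (inv_mem F.r_mem) hk', Or.inl ?_⟩
    rw [show r⁻¹ * k' * t * (r⁻¹ * k')⁻¹ = r⁻¹ * (k' * t * k'⁻¹) * r by group, e', ← F.A.rz]; group
  · obtain ⟨k', hk', e'⟩ := fin _ (F.qrep_Q 0) _ (F.qrep_cl 0) (zp_not_point 0 0).2 e
    exact ⟨k', hk', Or.inr (Or.inl ⟨0, e'⟩)⟩
  · obtain ⟨k', hk', e'⟩ := fin _ (F.qrep_Q 1) _ (F.qrep_cl 1) (zp_not_point 1 0).2 e
    exact ⟨k', hk', Or.inr (Or.inl ⟨1, e'⟩)⟩
  · obtain ⟨k', hk', e'⟩ := fin _ (F.qrep_Q 2) _ (F.qrep_cl 2) (zp_not_point 2 0).2 e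
    exact ⟨k', hk', Or.inr (Or.inl ⟨2, e'⟩)⟩
  · obtain ⟨k', hk', e'⟩ := fin _ F.wrep_Q _ F.wrep_cl (rep_not_point 0).2.2 e
    exact ⟨k', hk', Or.inr (Or.inr e')⟩

/-- the centraliser has odd index in the subgroup -/
theorem conj_into_C {t : G} (ht : t ∈ KK r s u a c) (ht2 : t * t = 1) :
    ∃ k ∈ KK r s u a c, k * t * k⁻¹ ∈ Cz z := by
  classical
  haveI : Fact (Nat.Prime 2) := ⟨Nat.prime_two⟩
  set K := KK r s u a c
  obtain ⟨S₀⟩ : Nonempty (Sylow 2 ↥(Cz z)) := Sylow.nonempty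
  set S : Subgroup G := (S₀ : Subgroup ↥(Cz z)).map (Cz z).subtype with hS
  have hSC : S ≤ Cz z := Subgroup.map_subtype_le _
  have hSp : IsPGroup 2 S := S₀.isPGroup'.map _
  have hQp : IsPGroup 2 Q := IsPGroup.of_card (show Nat.card Q = 2 ^ 9 by rw [F.H.card]; norm_num)
  have hQS : Q ≤ S := by
    haveI hn : (Q.subgroupOf (Cz z)).Normal := ⟨fun q hq g => F.H.conjQ g.2 hq⟩
    have hp : IsPGroup 2 ↥(Q.subgroupOf (Cz z)) :=
      hQp.of_equiv (Subgroup.subgroupOfEquivOfLe F.H.QC).symm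
    obtain ⟨R, hR⟩ := hp.exists_le_sylow
    obtain ⟨g, hg⟩ := MulAction.exists_smul_eq ↥(Cz z) R S₀
    intro q hq
    refine ⟨⟨q, F.H.QC hq⟩, ?_, rfl⟩
    rw [← hg, Sylow.coe_subgroup_smul, SetLike.mem_coe, Subgroup.mem_pointwise_smul_iff_inv_smul_mem]
    exact hR (hn.conj_mem ⟨q, F.H.QC hq⟩ hq g⁻¹ |> fun h => by simpa [MulAut.smul_def, mul_assoc] using h)
  have hSK : S ≤ K := hSC.trans F.C_le
  obtain ⟨P, hP⟩ := (hSp.of_equiv (Subgroup.subgroupOfEquivOfLe hSK).symm).exists_le_sylow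
  have hPS : (P : Subgroup ↥K) = S.subgroupOf K := by
    by_contra hne
    have hlt : S.subgroupOf K < (P : Subgroup ↥K) := lt_of_le_of_ne hP (Ne.symm hne)
    haveI : Group.IsNilpotent ↥(P : Subgroup ↥K) := P.isPGroup'.isNilpotent
    have hnc : Subgroup.normalizer ((S.subgroupOf K).subgroupOf (P : Subgroup ↥K) : Set ↥(P : Subgroup ↥K)) ≠
        (S.subgroupOf K).subgroupOf (P : Subgroup ↥K) := by
      intro e
      have := (normalizerCondition_iff_only_full_group_self_normalizing.1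
        Group.normalizerCondition_of_isNilpotent) _ e
      exact hlt.not_ge (Subgroup.subgroupOf_eq_top.1 this)
    obtain ⟨x, hx, hxS⟩ : ∃ x, x ∈ Subgroup.normalizer
        ((S.subgroupOf K).subgroupOf (P : Subgroup ↥K) : Set ↥(P : Subgroup ↥K)) ∧
        x ∉ (S.subgroupOf K).subgroupOf (P : Subgroup ↥K) := by
      by_contra h
      push Not at h
      exact hnc (le_antisymm h Subgroup.le_normalizer)
    set g : G := ((x : ↥K) : G) with hg
    have hgS : g ∉ S := fun h => hxS h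
    have hnorm : ∀ q ∈ S, g * q * g⁻¹ ∈ S := fun q hq =>
      ((Subgroup.mem_normalizer_iff.1 hx) ⟨⟨q, hSK hq⟩, hP hq⟩).1 hq
    have hzS : z ∈ S := hQS F.H.zQ
    have hgz : g * z * g⁻¹ = z := by
      have hcen : ∀ q ∈ Q, q * (g * z * g⁻¹) = g * z * g⁻¹ * q := by
        intro q hq
        have hq' : g⁻¹ * q * g ∈ S := by
          have hx' := Subgroup.inv_mem _ hx
          exact ((Subgroup.mem_normalizer_iff.1 hx') ⟨⟨q, hSK (hQS hq)⟩, hP (hQS hq)⟩).1 (hQS hq) |>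
            fun h => by simpa [hg, Subgroup.mem_subgroupOf] using h
        have hc : Commute (g⁻¹ * q * g) z := mem_Cz.1 (hSC hq')
        calc q * (g * z * g⁻¹) = g * ((g⁻¹ * q * g) * z) * g⁻¹ := by group
          _ = g * (z * (g⁻¹ * q * g)) * g⁻¹ := by rw [hc.eq]
          _ = _ := by group
      have hin : g * z * g⁻¹ ∈ Subgroup.zpowers z := F.H.st.cQ ▸ Subgroup.mem_centralizer_iff.2 hcen
      refine (F.H.st.mem_zpowers hin).resolve_left fun e => ?_
      exact F.H.zne (conj_eq_one_iff.1 e)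
    have hgC : g ∈ Cz z := mem_Cz.2 (mul_inv_eq_iff_eq_mul.1 hgz)
    set L := S ⊔ Subgroup.zpowers g with hL
    have hLP : L ≤ (P : Subgroup ↥K).map K.subtype := sup_le
      (fun q hq => ⟨⟨q, hSK hq⟩, hP hq, rfl⟩) (Subgroup.zpowers_le.2 ⟨x, x.2, rfl⟩)
    have hLp : IsPGroup 2 L := (P.isPGroup'.map K.subtype).to_le hLP
    have hLC : L ≤ Cz z := sup_le hSC (Subgroup.zpowers_le.2 hgC)
    have hL' : (S₀ : Subgroup ↥(Cz z)) ≤ L.subgroupOf (Cz z) := fun q hq =>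
      Subgroup.mem_sup_left ⟨q, hq, rfl⟩
    have := S₀.is_maximal' (hLp.of_equiv (Subgroup.subgroupOfEquivOfLe hLC).symm) hL'
    refine hgS ⟨⟨g, hgC⟩, ?_, rfl⟩
    rw [← this]
    exact Subgroup.mem_sup_right (Subgroup.mem_zpowers g)
  set tK : ↥K := ⟨t, ht⟩
  have htp : IsPGroup 2 ↥(Subgroup.zpowers tK) := by
    intro g
    obtain ⟨n, hn⟩ := Subgroup.mem_zpowers_iff.1 g.2
    refine ⟨1, Subtype.ext (Subtype.ext ?_)⟩
    rw [pow_one, pow_two]
    show ((g : ↥K) : G) * ((g : ↥K) : G) = 1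
    rw [← hn, Subgroup.coe_zpow, ← zpow_add, ← two_mul, zpow_mul, show (tK : G) ^ (2 : ℤ) = 1 by
      rw [zpow_two]; exact ht2, one_zpow]
  obtain ⟨R, hR⟩ := htp.exists_le_sylow
  obtain ⟨k, hk⟩ := MulAction.exists_smul_eq ↥K R P
  refine ⟨k, k.2, ?_⟩
  have : k * tK * k⁻¹ ∈ (P : Subgroup ↥K) := by
    rw [← hk, Sylow.coe_subgroup_smul, Subgroup.mem_pointwise_smul_iff_inv_smul_mem]
    simpa [MulAut.smul_def, mul_assoc] using hR (Subgroup.mem_zpowers tK)
  rw [hPS] at this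
  exact hSC this

/-- the classes of involutions -/
theorem invol_K {t : G} (ht : t ∈ KK r s u a c) (ht2 : t * t = 1) (ht1 : t ≠ 1) :
    ∃ k ∈ KK r s u a c, k * t * k⁻¹ = z ∨ (∃ i, k * t * k⁻¹ = qrep z v c i) ∨ k * t * k⁻¹ = wrep a := by
  obtain ⟨l, hl, hlC⟩ := F.conj_into_C ht ht2
  obtain ⟨k, hk, h⟩ := F.invol_C hlC
    (by calc l * t * l⁻¹ * (l * t * l⁻¹) = l * (t * t) * l⁻¹ := by group
          _ = 1 := by rw [ht2]; group) (fun e => ht1 (conj_eq_one_iff.1 e))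
  refine ⟨k * l, mul_mem hk hl, ?_⟩
  rw [show k * l * t * (k * l)⁻¹ = k * (l * t * l⁻¹) * k⁻¹ by group]
  exact h

/-- the subgroup controls the fusion of `z` -/
theorem fus {x : G} (hx : x * z * x⁻¹ ∈ KK r s u a c) : x ∈ KK r s u a c := by
  have h2 : (x * z * x⁻¹) * (x * z * x⁻¹) = 1 := two_of_conj F.H.z2 (isConj_iff.2 ⟨x, rfl⟩)
  obtain ⟨k, hk, h⟩ := F.invol_K hx h2 (fun e => F.H.zne (conj_eq_one_iff.1 e))
  have hc : IsConj z (k * (x * z * x⁻¹) * k⁻¹) := isConj_iff.2 ⟨k * x, by group⟩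
  rcases h with e | ⟨i, e⟩ | e
  · have : k * x ∈ Cz z := mem_Cz.2 (by
      calc k * x * z = k * (x * z * x⁻¹) * k⁻¹ * (k * x) := by group
        _ = z * (k * x) := by rw [e])
    have := mul_mem (inv_mem hk) (F.C_le this)
    rwa [inv_mul_cancel_left] at this
  · exact absurd (e ▸ hc) (F.qrep_not i)
  · exact absurd (e ▸ hc) F.wrep_not

/-- centralisers of roots -/
theorem cent_root {y g : G} (hy : IsConj z y) (hyK : y ∈ KK r s u a c) (hg : Commute g y) :
    g ∈ KK r s u a c := by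
  obtain ⟨x, rfl⟩ := isConj_iff.1 hy
  have hx := F.fus hyK
  have := F.fus (x := g * x) (by
    rw [show g * x * z * (g * x)⁻¹ = g * (x * z * x⁻¹) * g⁻¹ by group, hg.eq, mul_inv_cancel_right]
    exact hyK)
  have := mul_mem this (inv_mem hx)
  rwa [mul_inv_cancel_right] at this

/-- roots of the centraliser outside `Q` -/
theorem root_out {t : G} (ht : t ∈ Cz z) (htc : IsConj z t) (htQ : t ∉ Q) :
    ∃ i, ∃ k ∈ Cz z, k * t * k⁻¹ = nn r c i := by
  obtain ⟨b, hb, k, hk, P, -, -, -, hrQ, hrc, hor, hsing⟩ := F.normal_form ht (two_of_conj F.H.z2 htc) htQ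
  have hc : IsConj z (k * t * k⁻¹) := htc.trans (isConj_iff.2 ⟨k, rfl⟩)
  by_cases hi : ∃ i, b = fun l => decide (l = i)
  · obtain ⟨i, hi⟩ := hi
    refine ⟨i, k, hk, ?_⟩
    rcases hor with e | e
    · rw [e, hsing i hi]
    · rw [e, hsing i hi] at hc
      exact absurd hc (F.zn_not i)
  · push Not at hi
    obtain ⟨h1, h2, h3, h4⟩ := not_single b hb hi
    exfalso
    rcases hor with e | e
    · rw [e] at hc
      exact F.not_conj_of_class hrQ hrc h1 h3 (hc.trans (isConj_iff.2 ⟨r⁻¹, by rw [inv_inv]⟩))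
    · rw [e] at hc
      refine F.not_conj_of_class (q := z * v * (r⁻¹ * P * r)) (Q.mul_mem (Q.mul_mem F.H.zQ F.A.vQ) hrQ)
        ?_ h2 h4 (hc.trans (isConj_iff.2 ⟨r⁻¹, ?_⟩))
      · rw [cl_mul (Q.mul_mem F.H.zQ F.A.vQ) hrQ, cl_mul F.H.zQ F.A.vQ, F.H.cl_z, one_mul, F.A.cv, hrc,
          F.C.add]
      · rw [inv_inv]
        calc r⁻¹ * (z * P) * r = r⁻¹ * (r * (z * v) * r⁻¹) * P * r := by rw [F.rzv]; group
          _ = _ := by group

/-- a product of two commuting roots which is not a root is a representative of rank two -/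
theorem prod_roots {y e : G} (hy : IsConj z y) (hyK : y ∈ KK r s u a c) (hye : IsConj z (y * e))
    (hce : Commute e y) (he1 : e ≠ 1) (hne : ¬ IsConj z e) :
    ∃ i, ∃ k ∈ KK r s u a c, k * e * k⁻¹ = qrep z v c i := by
  obtain ⟨x, rfl⟩ := isConj_iff.1 hy
  have hx := F.fus hyK
  set t := x⁻¹ * (x * z * x⁻¹ * e) * x with ht
  have ht' : t = z * (x⁻¹ * e * x) := by rw [ht]; group
  have hec : x⁻¹ * e * x ∈ Cz z := mem_Cz.2 (by
    calc x⁻¹ * e * x * z = x⁻¹ * (e * (x * z * x⁻¹)) * x := by group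
      _ = z * (x⁻¹ * e * x) := by rw [hce.eq]; group)
  have htC : t ∈ Cz z := ht' ▸ (Cz z).mul_mem F.H.zC hec
  have htc : IsConj z t := hye.trans (isConj_iff.2 ⟨x⁻¹, by rw [inv_inv]⟩)
  have hzt : x⁻¹ * e * x = z * t := by rw [ht', ← mul_assoc, F.H.z2, one_mul]
  have htQ : t ∉ Q := fun hQ => by
    rcases F.C.root_class F.H hQ htc with e1 | ⟨b, hb⟩
    · rw [e1, F.H.z2] at hzt
      refine he1 ?_
      calc e = x * (x⁻¹ * e * x) * x⁻¹ := by group
        _ = 1 := by rw [hzt]; group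
    · refine hne ((F.C.root _ (Q.mul_mem F.H.zQ hQ) b ?_).trans (isConj_iff.2 ⟨x, by rw [← hzt]; group⟩))
      rw [cl_mul F.H.zQ hQ, F.H.cl_z, one_mul, hb]
  obtain ⟨i, k, hk, hkt⟩ := F.root_out htC htc htQ
  refine ⟨i, r⁻¹ * k * x⁻¹, mul_mem (mul_mem (inv_mem F.r_mem) (F.C_le hk)) (inv_mem hx), ?_⟩
  calc r⁻¹ * k * x⁻¹ * e * (r⁻¹ * k * x⁻¹)⁻¹ = r⁻¹ * (k * (x⁻¹ * e * x) * k⁻¹) * r := by group
    _ = r⁻¹ * ((k * z) * t * k⁻¹) * r := by rw [hzt]; group
    _ = r⁻¹ * (z * (k * t * k⁻¹)) * r := by rw [mem_Cz.1 hk]; group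
    _ = r⁻¹ * (r * (z * v) * r⁻¹ * nn r c i) * r := by rw [hkt, F.rzv]
    _ = qrep z v c i := by rw [nn, qrep]; group

end Fr

end CfsgLib.OmegaEightCent
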