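import Cfsg.Agent.Lib.OmegaEightCent.Axis

/-!
The subgroup generated by the root involutions is the whole group.
-/

set_option autoImplicit false
set_option linter.unusedSectionVars false
set_option linter.style.haveILetI false
set_option linter.unusedSimpArgs false
set_option maxHeartbeats 1000000
set_option synthInstance.maxSize 2000

open Cfsg CfsgLib.Extraspecial
open Equiv (Perm swap)

namespace CfsgLib.OmegaEightCent

theorem qrep_sq_idx : ∀ i : Fin 3, qV (pnt 0 + pnt (xC i)) = 0 := by decide +kernel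

theorem qb_facts : qf qb = true ∧ qb 0 = false ∧ (∀ d, q1 d 0 = false) ∧
    ∀ (i j k : Fin 3) (d : Bool), cl6 i j k (q1 d) = pnt 0 + pnt (xA j) + pnt (xA k) := by decide +kernel

variable {G : Type*} [Group G]

theorem sq_conj {x : G} (k : G) (h : x * x = 1) : k * x * k⁻¹ * (k * x * k⁻¹) = 1 := by
  calc k * x * k⁻¹ * (k * x * k⁻¹) = k * (x * x) * k⁻¹ := by group
    _ = 1 := by rw [h]; group

theorem comm_conj {x y : G} (k : G) (h : Commute x y) : Commute (k * x * k⁻¹) (k * y * k⁻¹) := by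
  show k * x * k⁻¹ * (k * y * k⁻¹) = k * y * k⁻¹ * (k * x * k⁻¹)
  calc k * x * k⁻¹ * (k * y * k⁻¹) = k * (x * y) * k⁻¹ := by group
    _ = k * (y * x) * k⁻¹ := by rw [h.eq]
    _ = _ := by group

namespace Fr

variable [Finite G] {z : G} {Q : Subgroup G} {π : ↥(Cz z) →* M0} {κ : V8 → T Q} {v u r s : G}
  {a c : Fin 3 → G} (F : Fr z Q π κ v u r s a c)
include F

/-- a root inside and a root outside -/
theorem dih {y w : G} (hy : IsConj z y) (hyK : y ∈ KK r s u a c) (hw : IsConj z w) (hwK : w ∉ KK r s u a c) :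
    (∃ g, g * y * g⁻¹ = w ∧ ∀ t, Commute t y → Commute t w → Commute t g) ∨
      ∃ e, e ∈ KK r s u a c ∧ e ≠ 1 ∧ Commute e y ∧ Commute e w ∧ IsConj z (y * e) ∧ IsConj z (w * e) ∧
        ¬ IsConj z e ∧ (∃ l, ∃ k ∈ KK r s u a c, k * e * k⁻¹ = qrep z v c l) ∧
        ∀ t, Commute t y → Commute t w → Commute t e := by
  rcases two_invols (two_of_conj F.H.z2 hy) (two_of_conj F.H.z2 hw) with h | ⟨e, -, he1, hey, hew, hc, hcen⟩
  · exact Or.inl h
  right
  have heK : e ∈ KK r s u a c := F.cent_root hy hyK hey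
  have hne : ¬ IsConj z e := fun h => hwK (F.cent_root h heK hew.symm)
  have hye : IsConj z (y * e) ∧ IsConj z (w * e) := by
    rcases hc with ⟨h1, h2⟩ | ⟨h1, h2⟩
    · exact ⟨hy.trans h1, hw.trans h2⟩
    · exact ⟨hw.trans h1, hy.trans h2⟩
  exact ⟨e, heK, he1, hey, hew, hye.1, hye.2, hne, F.prod_roots hy hyK hye.1 hey he1 hne, hcen⟩

/-- a root outside does not commute with a representative of rank two into a root -/
theorem rep_case {i : Fin 3} {w : G} (hw : IsConj z w) (hwK : w ∉ KK r s u a c)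
    (hwq : Commute w (qrep z v c i)) (hroot : IsConj z (w * qrep z v c i)) : False := by
  obtain ⟨j, hj⟩ : ∃ j, j ≠ i := exists_ne i
  obtain ⟨k, hk, hkj, -⟩ := third i j hj
  set f := gen z v r a c i j k with hf
  have elm : ∀ b b', el f b * el f b' = el f (bx b b') := F.elm hj hk hkj
  have hroot_iff : ∀ b, IsConj z (el f b) ↔ qf b = false ∧ b ≠ z6 := F.root_iff hj hk hkj
  have hK : ∀ b, el f b ∈ KK r s u a c := el_mem (F.gen_K hj hk hkj)
  have hC : ∀ b, el f b ∈ Cz z := el_mem (F.gen_C hj hk hkj)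
  have hcomm : ∀ b b', Commute (el f b) (el f b') := fun b b' => by
    show el f b * el f b' = el f b' * el f b
    rw [elm, elm]; congr 1; funext l; exact Bool.xor_comm _ _
  have hsq : ∀ b, el f b * el f b = 1 := fun b => by
    rw [elm, ← el_zero f]; congr 1; funext l; simp [bx, z6]
  have nonroot : ∀ b, Commute w (el f b) → qf b = true ∨ b = z6 := by
    intro b hb
    by_contra h
    push Not at h
    exact hwK (F.cent_root ((hroot_iff b).2 ⟨by simpa using h.1, h.2⟩) (hK b) hb)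
  have nz : ∀ {b}, el f b ≠ 1 → ¬ IsConj z (el f b) → qf b = true := by
    intro b h1 h2
    by_contra h
    exact h2 ((hroot_iff b).2 ⟨by simpa using h, fun e => h1 (by rw [e, el_zero])⟩)
  have hq : qrep z v c i = el f qb := (F.el_qb hj hk hkj).symm
  rw [hq] at hwq hroot
  have zel : z = el f (sg 1) := by rw [el_sg]; rfl
  have zb : ∀ b, z * el f b = el f (bx (sg 1) b) := F.el_z hj hk hkj
  -- the first pair
  rcases F.dih (IsConj.refl z) F.z_mem hw hwK with ⟨g, hg, hgc⟩ | ⟨e, -, he1, hez, hew, hze, -, hne, -, hec⟩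
  · have hgq : Commute (el f qb) g := hgc _ (mem_Cz.1 (hC qb)) hwq.symm
    have h : IsConj z (z * el f qb) := hroot.trans (isConj_iff.2 ⟨g⁻¹, by
      rw [← hg, inv_inv, mul_assoc (g * z) g⁻¹, (hgq.symm.inv_left).eq]; group⟩)
    rw [zb] at h
    exact absurd ((hroot_iff _).1 h).1 (by decide)
  have hzze : z * (z * e) = e := by rw [← mul_assoc, F.H.z2, one_mul]
  have heq : Commute e (el f qb) := (hec _ (mem_Cz.1 (hC qb)) hwq.symm).symm
  obtain ⟨nb, hnb⟩ := F.pin hj hk hkj (t := z * e) ((Cz z).mul_mem F.H.zC (mem_Cz.2 hez.eq)) hze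
    (by rwa [hzze]) (by rwa [hzze]) (F.qrep_Q i) (F.qrep_cl i) (Or.inl rfl)
    (by rw [hq]; exact (show Commute z (el f qb) from (mem_Cz.1 (hC qb)).symm).mul_left heq)
  obtain ⟨cb, rfl⟩ : ∃ cb, e = el f cb := ⟨bx (sg 1) nb, by rw [← zb, ← hnb, hzze]⟩
  have hc1 : qf cb = true := nz he1 hne
  have hc2 : qf (bx (sg 1) cb) = false := by
    rw [zb] at hze
    exact ((hroot_iff _).1 hze).1
  have hc3 := nonroot (bx qb cb) (by rw [← elm]; exact hwq.mul_right hew.symm)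
  -- the second pair
  set δ := cb 4 with hδ
  obtain ⟨hx1, hx2, hx3⟩ := bits_x δ
  have hxroot : IsConj z (el f (xb δ)) := (hroot_iff _).2 ⟨hx1, hx2⟩
  rcases F.dih hxroot (hK _) hw hwK with ⟨g, hg, hgc⟩ | ⟨d, -, hd1, hdx, hdw, hxd, -, hdn, -, hdc⟩
  · have hgq : Commute (el f qb) g := hgc _ (hcomm _ _) hwq.symm
    have h : IsConj z (el f (xb δ) * el f qb) := hroot.trans (isConj_iff.2 ⟨g⁻¹, by
      rw [← hg, inv_inv, mul_assoc (g * el f (xb δ)) g⁻¹, (hgq.symm.inv_left).eq]; group⟩)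
    rw [elm, hroot_iff] at h
    rw [hx3] at h
    exact absurd h.1 (by decide)
  have hdq : Commute d (el f qb) := (hdc _ (hcomm _ _) hwq.symm).symm
  -- transport
  set S := nn r c j * nn s a j * nn r c j with hS
  have cR : ∀ b, r * el f b * r⁻¹ = el f (lin6 mR b) :=
    conj_lin (F.gen_comm hj hk hkj) (F.gen_two hj hk hkj) (F.conj_r hj hk hkj)
  have cS : ∀ b, S * el f b * S⁻¹ = el f (lin6 mW b) :=
    conj_lin (F.gen_comm hj hk hkj) (F.gen_two hj hk hkj) (F.conj_w hj hk hkj)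
  have hSi : S⁻¹ = S := by
    have e1 := (F.tn j).two
    have e2 := (F.tm j).two
    refine inv_eq_of_mul_eq_one_right ?_
    rw [hS]
    generalize nn r c j = n₀ at e1 ⊢
    generalize nn s a j = m₀ at e2 ⊢
    calc n₀ * m₀ * n₀ * (n₀ * m₀ * n₀) = n₀ * m₀ * (n₀ * n₀) * m₀ * n₀ := by group
      _ = 1 := by rw [e1, mul_one, mul_assoc n₀ m₀, e2, mul_one, e1]
  have rri : r⁻¹ = r * r := (eq_inv_of_mul_eq_one_left F.A.r3).symm
  obtain ⟨h, M, hh, hback⟩ : ∃ (h : G) (M : B6 → B6),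
      ((∀ b, h * el f b * h⁻¹ = el f (M b)) ∧ M (xb δ) = sg 1 ∧ M qb = q1 δ) ∧
        ∀ b, ∃ b', h⁻¹ * el f b * h = el f b' := by
    cases hd : δ
    · refine ⟨r * r * S, fun b => lin6 mR (lin6 mR (lin6 mW b)), ⟨fun b => ?_, (bits_move false).1, (bits_move false).2⟩,
        fun b => ⟨lin6 mW (lin6 mR b), ?_⟩⟩
      · rw [← cR, ← cR, ← cS]; group
      · rw [← cS, ← cR, mul_inv_rev, hSi, ← rri, inv_inv]; group
    · refine ⟨r * S, fun b => lin6 mR (lin6 mW b), ⟨fun b => ?_, (bits_move true).1, (bits_move true).2⟩,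
        fun b => ⟨lin6 mW (lin6 mR (lin6 mR b)), ?_⟩⟩
      · rw [← cR, ← cS]; group
      · rw [← cS, ← cR, ← cR, mul_inv_rev, hSi, rri]
        calc S * (r * r) * el f b * (r * S) = S * (r * r) * el f b * ((r * r * r) * r) * S := by
              rw [F.A.r3, one_mul]; group
          _ = _ := by group
  obtain ⟨hM, hMx, hMq⟩ := hh
  set x := el f (xb δ) with hx
  set t := h * (x * d) * h⁻¹ with ht
  have hxz : h * x * h⁻¹ = z := by rw [hx, hM, hMx, ← zel]
  have hzt : z * t = h * d * h⁻¹ := by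
    rw [← hxz, ht]
    calc h * x * h⁻¹ * (h * (x * d) * h⁻¹) = h * (x * x) * d * h⁻¹ := by group
      _ = _ := by rw [hsq, mul_one]
  have htz : Commute t z := by
    rw [← hxz, ht]
    exact comm_conj h ((Commute.refl x).mul_left hdx)
  obtain ⟨tb, htb⟩ := F.pin hj hk hkj (t := t) (mem_Cz.2 htz.eq) (hxd.trans (isConj_iff.2 ⟨h, rfl⟩))
    (by rw [hzt]; exact fun hc => hdn (hc.trans (isConj_iff.2 ⟨h⁻¹, by group⟩)))
    (by rw [hzt]; exact fun e => hd1 (conj_eq_one_iff.1 e))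
    (F.el_cl hj hk hkj (qb_facts.2.2.1 δ)).1 (F.el_cl hj hk hkj (qb_facts.2.2.1 δ)).2
    (Or.inr (qb_facts.2.2.2 i j k δ))
    (by rw [ht, ← hMq, ← hM]; exact comm_conj h ((hcomm (xb δ) qb).mul_left hdq))
  obtain ⟨b', hb'⟩ := hback tb
  obtain ⟨db, rfl⟩ : ∃ db, d = el f db := ⟨bx (xb δ) b', by
    rw [← elm, ← hb', ← hx]
    calc d = (x * x) * d := by rw [hsq, one_mul]
      _ = x * (h⁻¹ * t * h) := by rw [ht]; group
      _ = _ := by rw [← htb]⟩
  refine polar6 cb hc1 hc2 hc3 db (nz hd1 hdn) ?_ (nonroot _ ?_) (nonroot _ ?_) (nonroot _ ?_)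
  · rw [hx, elm] at hxd
    exact ((hroot_iff _).1 hxd).1
  · rw [← elm]; exact hwq.mul_right hdw.symm
  · rw [← elm]; exact hew.symm.mul_right hdw.symm
  · rw [← elm, ← elm]; exact hwq.mul_right (hew.symm.mul_right hdw.symm)

/-- roots commuting with a representative of rank two -/
theorem root_qrep {i : Fin 3} {w : G} (hw : IsConj z w) (hwq : Commute w (qrep z v c i)) :
    w ∈ KK r s u a c := by
  by_contra hwK
  by_cases h : IsConj z (w * qrep z v c i)
  · exact F.rep_case hw hwK hwq h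
  have hvq : Commute v (qrep z v c i) :=
    ((F.H.z_commute F.A.vQ).symm.mul_right (Commute.refl v)).mul_right (F.comm_vc i)
  rcases F.dih F.vconj F.v_mem hw hwK with ⟨g, hg, hgc⟩ | ⟨e, -, -, -, hew, -, hwe, -, ⟨l, k, hk, hkl⟩, -⟩
  · have hgq : Commute (qrep z v c i) g := hgc _ hvq.symm hwq.symm
    have h1 : v * qrep z v c i = z * c i := by
      rw [qrep, ← mul_assoc, ← mul_assoc v z, F.H.st.z_comm F.A.vQ, mul_assoc z v v, F.v2, mul_one]
    have h2 : IsConj z (v * qrep z v c i) := by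
      rw [h1]
      exact F.C.root _ (Q.mul_mem F.H.zQ (F.B.aQ i)) (xC i)
        (by rw [cl_mul F.H.zQ (F.B.aQ i), F.H.cl_z, one_mul, F.cc])
    refine h (h2.trans (isConj_iff.2 ⟨g, ?_⟩))
    calc g * (v * qrep z v c i) * g⁻¹ = g * v * (qrep z v c i * g⁻¹) := by group
      _ = g * v * (g⁻¹ * qrep z v c i) := by rw [(hgq.inv_right).eq]
      _ = _ := by rw [← hg]; group
  · refine F.rep_case (i := l) (w := k * w * k⁻¹) (hw.trans (isConj_iff.2 ⟨k, rfl⟩)) (fun hm => hwK ?_) ?_ ?_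
    · have := mul_mem (mul_mem (inv_mem hk) hm) hk
      rwa [show k⁻¹ * (k * w * k⁻¹) * k = w by group] at this
    · rw [← hkl]; exact comm_conj k hew.symm
    · rw [← hkl]
      exact hwe.trans (isConj_iff.2 ⟨k, by group⟩)

/-- from roots to centralisers -/
theorem cent_of_roots {q g : G} (h : ∀ w, IsConj z w → Commute w q → w ∈ KK r s u a c) (hz : Commute z q)
    (hg : Commute g q) : g ∈ KK r s u a c :=
  F.fus (h _ (isConj_iff.2 ⟨g, rfl⟩) ((hg.mul_left hz).mul_left hg.inv_left))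

theorem cent_qrep {i : Fin 3} {g : G} (hg : Commute g (qrep z v c i)) : g ∈ KK r s u a c :=
  F.cent_of_roots (fun _ hw hq => F.root_qrep hw hq) (F.H.z_commute (F.qrep_Q i)) hg

theorem cent_conj {k e q g : G} (hk : k ∈ KK r s u a c) (he : k * e * k⁻¹ = q)
    (h : ∀ g, Commute g q → g ∈ KK r s u a c) (hg : Commute g e) : g ∈ KK r s u a c := by
  have := mul_mem (mul_mem (inv_mem hk) (h _ (he ▸ comm_conj k hg))) hk
  rwa [show k⁻¹ * (k * g * k⁻¹) * k = g by group] at this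

theorem cent_wrep {g : G} (hg : Commute g (wrep a)) : g ∈ KK r s u a c := by
  have hzW : Commute z (wrep a) := F.H.z_commute F.wrep_Q
  refine F.cent_of_roots (fun w hw hwW => ?_) hzW hg
  by_contra hwK
  have bad : ∀ e, Commute e w → (∃ l, ∃ k ∈ KK r s u a c, k * e * k⁻¹ = qrep z v c l) → False :=
    fun e he ⟨l, k, hk, hkl⟩ => hwK (F.cent_conj hk hkl (fun _ => F.cent_qrep) he.symm)
  have ha0 : Commute (a 0) (wrep a) :=
    ((Commute.refl (a 0)).mul_right (F.comm_aa 0 1)).mul_right (F.comm_aa 0 2)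
  rcases F.dih (F.aconj 0) (F.a_mem 0) hw hwK with ⟨g₁, hg₁, hgc₁⟩ | ⟨e, -, -, -, hew, -, -, -, hl, -⟩
  swap
  · exact bad e hew hl
  rcases F.dih (IsConj.refl z) F.z_mem hw hwK with ⟨g₂, hg₂, hgc₂⟩ | ⟨e, -, -, -, hew, -, -, -, hl, -⟩
  swap
  · exact bad e hew hl
  have e1 : IsConj (a 0 * wrep a) (w * wrep a) := isConj_iff.2 ⟨g₁, by
    rw [← hg₁, mul_assoc (g₁ * a 0) g₁⁻¹, ((hgc₁ _ ha0.symm hwW.symm).symm.inv_left).eq]; group⟩
  have e2 : IsConj (z * wrep a) (w * wrep a) := isConj_iff.2 ⟨g₂, by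
    rw [← hg₂, mul_assoc (g₂ * z) g₂⁻¹, ((hgc₂ _ hzW.symm hwW.symm).symm.inv_left).eq]; group⟩
  have hzWc : cl Q (z * wrep a) = κ (pnt (xA 0) + pnt (xA 1) + pnt (xA 2)) := by
    rw [cl_mul F.H.zQ F.wrep_Q, F.H.cl_z, one_mul, F.wrep_cl]
  obtain ⟨k, -, hk⟩ := F.conj_z_class F.wrep_Q (Q.mul_mem F.H.zQ F.wrep_Q) F.wrep_cl hzWc
    (rep_not_point 0).2.2
  have e3 : IsConj (wrep a) (a 0 * wrep a) := (isConj_iff.2 ⟨k, hk⟩ : IsConj _ (z * wrep a)).trans
    (e2.trans e1.symm)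
  have h12 : a 0 * wrep a = a 1 * a 2 := by
    rw [wrep, ← mul_assoc, ← mul_assoc (a 0) (a 0), F.a2, one_mul]
  have hcl : cl Q (a 1 * a 2) = κ (pnt (xA 1) + pnt (xA 2)) :=
    F.C.cl_mul' F.H (F.A.aQ 1) (F.A.aQ 2) (F.A.ca 1) (F.A.ca 2)
  obtain ⟨l, k₁, hk₁, hkl⟩ := F.prod_roots (y := a 1) (e := a 1 * a 2) (F.aconj 1) (F.a_mem 1)
    (by rw [← mul_assoc, F.a2, one_mul]; exact F.aconj 2)
    ((Commute.refl _).mul_left (F.comm_aa 2 1))
    (fun e => (pair_not_point 1 2 0 (by decide)).2 (F.C.bij.1 (by rw [← hcl, e, cl_one, F.C.zero F.H])))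
    (F.not_conj_of_class (Q.mul_mem (F.A.aQ 1) (F.A.aQ 2)) hcl
      (fun b => (pair_not_point 1 2 b (by decide)).1) (pair_not_point 1 2 0 (by decide)).2)
  rw [h12] at e3
  obtain ⟨x, hx⟩ := isConj_iff.1 (e3.trans (isConj_iff.2 ⟨k₁, hkl⟩)).symm
  have hxK : x ∈ KK r s u a c := by
    have h1 : Commute (x⁻¹ * z * x) (qrep z v c l) := by
      have := comm_conj x⁻¹ (hx ▸ hzW : Commute z (x * qrep z v c l * x⁻¹))
      rw [inv_inv] at this
      rwa [show x⁻¹ * (x * qrep z v c l * x⁻¹) * x = qrep z v c l by group] at this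
    have := F.fus (x := x⁻¹) (by rw [inv_inv]; exact F.cent_qrep h1)
    exact (Subgroup.inv_mem_iff _).1 this
  exact hwK (F.cent_conj (inv_mem hxK) (q := qrep z v c l) (by rw [inv_inv, ← hx]; group)
    (fun _ => F.cent_qrep) hwW)

/-- centralisers of involutions of the subgroup stay inside -/
theorem cent_invol {t g : G} (ht : t ∈ KK r s u a c) (ht2 : t * t = 1) (ht1 : t ≠ 1) (hg : Commute g t) :
    g ∈ KK r s u a c := by
  obtain ⟨k, hk, h | ⟨l, h⟩ | h⟩ := F.invol_K ht ht2 ht1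
  · exact F.cent_conj hk h (fun g hg => F.C_le (mem_Cz.2 hg.eq)) hg
  · exact F.cent_conj hk h (fun _ => F.cent_qrep) hg
  · exact F.cent_conj hk h (fun _ => F.cent_wrep) hg

/-- the subgroup is everything -/
theorem top : KK r s u a c = ⊤ := by
  refine eq_top_iff.2 fun x _ => ?_
  by_contra hx
  have hwK : x * z * x⁻¹ ∉ KK r s u a c := fun h => hx (F.fus h)
  have hwc : IsConj z (x * z * x⁻¹) := isConj_iff.2 ⟨x, rfl⟩
  have hq2 : qrep z v c 0 * qrep z v c 0 = 1 :=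
    (F.C.sq_iff F.H (F.qrep_Q 0) (F.qrep_cl 0)).2 (qrep_sq_idx 0)
  rcases two_invols hq2 (two_of_conj F.H.z2 hwc) with ⟨g, hg, -⟩ | ⟨e, he2, he1, heq, hew, -, -⟩
  · exact F.qrep_not 0 (hwc.trans (isConj_iff.2 ⟨g⁻¹, by rw [← hg]; group⟩))
  · exact hwK (F.cent_invol (F.cent_qrep heq) he2 he1 hew.symm)

end Fr

end CfsgLib.OmegaEightCent
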