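import Cfsg.Agent.Lib.OmegaEightCent.Weak
import Cfsg.Agent.Lib.OmegaEightCent.Fusion
import Cfsg.Agent.Lib.ZStar.Main
import Cfsg.Agent.Lib.Fitting.Basic
import Cfsg.Agent.Lib.Layer.Basic

/-!
A group with such a centraliser of an involution either has it isolated or is the orthogonal group.
-/

set_option autoImplicit false
set_option linter.unusedSectionVars false
set_option linter.style.haveILetI false

open Cfsg CfsgLib.Extraspecial

namespace CfsgLib.OmegaEightCent

variable {G : Type*} [Group G] [Finite G] {z : G}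

/-- the setting from a self-centralising extraspecial normal subgroup of the centraliser -/
theorem setting_of (hz : orderOf z = 2) (O : Subgroup ↥(Cz z)) [hn : O.Normal]
    (hex : IsExtraspecial 2 ↥O)
    (hc : Subgroup.centralizer ((O.map (Cz z).subtype : Subgroup G) : Set G) ≤ O.map (Cz z).subtype) :
    Setting (O.map (Cz z).subtype) z := by
  haveI := Fact.mk Nat.prime_two
  set Q := O.map (Cz z).subtype with hQ
  have hQC : Q ≤ Cz z := Subgroup.map_subtype_le _
  have hzQ : z ∈ Q := hc (Subgroup.mem_centralizer_iff.2 fun q hq => mem_Cz.1 (hQC hq))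
  have hexQ : IsExtraspecial 2 ↥Q :=
    isExtraspecial_congr (O.equivMapOfInjective _ (Subgroup.subtype_injective _)) hex
  have hzc : (⟨z, hzQ⟩ : Q) ∈ Subgroup.center Q :=
    Subgroup.mem_center_iff.mpr fun q => Subtype.ext (mem_Cz.1 (hQC q.2))
  have hce : Subgroup.center Q = Subgroup.zpowers (⟨z, hzQ⟩ : Q) := by
    refine (Subgroup.eq_of_le_of_card_ge (Subgroup.zpowers_le.mpr hzc) ?_).symm
    rw [Nat.card_zpowers, Subgroup.orderOf_mk, hz, hexQ.2]
  have hcen : (Subgroup.center Q).map Q.subtype = Subgroup.zpowers z := by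
    rw [hce, MonoidHom.map_zpowers]; rfl
  refine ⟨hexQ, hcen, hz, le_antisymm (fun x hx => ?_) (Subgroup.zpowers_le.mpr ?_), fun x hx => ?_⟩
  · have hxQ := hc hx
    rw [Subgroup.mem_centralizer_iff] at hx
    exact hcen.le ⟨⟨x, hxQ⟩, Subgroup.mem_center_iff.mpr fun q => Subtype.ext (hx q q.2), rfl⟩
  · exact Subgroup.mem_centralizer_iff.mpr fun q hq => mem_Cz.1 (hQC hq)
  · exact Subgroup.le_normalizer_map (H := O) (Cz z).subtype
      (⟨⟨x, hx⟩, by rw [Subgroup.normalizer_eq_top]; exact Subgroup.mem_top _, rfl⟩ :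
        x ∈ (Subgroup.normalizer (O : Set ↥(Cz z))).map (Cz z).subtype)

/-- the triple as an element of the model -/
def tri : Equiv.Perm (Fin 3) × Equiv.Perm (Fin 3) × Equiv.Perm (Fin 3) →* M0 :=
  MonoidHom.mk' (fun x => ![x.1, x.2.1, x.2.2]) (fun x y => by funext i; fin_cases i <;> rfl)

theorem tri_bij : Function.Bijective tri := by
  refine ⟨fun x y h => ?_, fun m => ⟨(m 0, m 1, m 2), ?_⟩⟩
  · exact Prod.ext (congrFun h 0) (Prod.ext (congrFun h 1) (congrFun h 2))
  · funext i; fin_cases i <;> rfl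

/-- the dichotomy -/
theorem classify (hz : orderOf z = 2) (hF : IsExtraspecial 2 (generalizedFittingSubgroup ↥(Cz z)))
    (hFcard : Nat.card (generalizedFittingSubgroup ↥(Cz z)) = 2 ^ 9)
    (e : ↥(Cz z) ⧸ pCore 2 ↥(Cz z) ≃* Equiv.Perm (Fin 3) × Equiv.Perm (Fin 3) × Equiv.Perm (Fin 3))
    (hcc : Subgroup.centralizer (((pCore 2 ↥(Cz z)).map (Cz z).subtype : Subgroup G) : Set G) ≤
      (pCore 2 ↥(Cz z)).map (Cz z).subtype) :
    (∀ g : G, g * z * g⁻¹ * z⁻¹ ∈ oddCore G) ∨
      Nonempty (G ≃* Omega (ZMod 2) (quadFormPlus 4 (ZMod 2))) := by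
  haveI := Fact.mk Nat.prime_two
  haveI hn : (pCore 2 ↥(Cz z)).Normal := Fitting.pCore_normal 2
  have hFO : generalizedFittingSubgroup ↥(Cz z) = pCore 2 ↥(Cz z) :=
    le_antisymm (Fitting.le_pCore Layer.generalizedFitting_normal hF.1.1)
      ((Fitting.le_fittingSubgroup hn (Fitting.pCore_isPGroup 2).isNilpotent).trans le_sup_right)
  set O := pCore 2 ↥(Cz z) with hO
  rw [hFO] at hF hFcard
  set π : ↥(Cz z) →* M0 := tri.comp (e.toMonoidHom.comp (QuotientGroup.mk' O)) with hπ
  have H : Pre z (O.map (Cz z).subtype) π := by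
    refine ⟨setting_of hz O hF hcc, ?_, ?_, ?_⟩
    · rw [Subgroup.card_map_of_injective (Subgroup.subtype_injective _), hFcard]; norm_num
    · ext c
      rw [MonoidHom.mem_ker, Subgroup.mem_subgroupOf, hπ]
      show tri (e (QuotientGroup.mk' O c)) = 1 ↔ _
      rw [map_eq_one_iff _ tri_bij.1, map_eq_one_iff _ e.injective, QuotientGroup.mk'_apply,
        QuotientGroup.eq_one_iff]
      exact ⟨fun h => ⟨c, h, rfl⟩, fun ⟨d, hd, he⟩ => by rwa [← Subtype.ext (a1 := d) (a2 := c) he]⟩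
    · exact (tri_bij.2.comp e.surjective).comp (QuotientGroup.mk'_surjective O)
  by_cases hiso : ∀ g : G, Commute (g * z * g⁻¹) z → g * z * g⁻¹ = z
  · left
    intro g
    have := inv_mem (ZStar.commutatorsInCore_of_isolated ⟨hz, fun g hg => hiso g hg.symm⟩ g)
    simpa only [mul_inv_rev, inv_inv, mul_assoc] using this
  right
  push Not at hiso
  obtain ⟨g, hg, hne⟩ := hiso
  obtain ⟨h, hhQ, hhne⟩ := H.exists_pair (mem_Cz.2 hg.eq) hne
  obtain ⟨π', κ, v, u, r, s, a, c, F⟩ := H.exists_fr hhQ hhne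
  obtain ⟨φ⟩ := F.iso
  exact ⟨(Subgroup.topEquiv.symm.trans (MulEquiv.subgroupCongr F.top.symm)).trans φ.symm⟩

end CfsgLib.OmegaEightCent
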