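import Cfsg.Agent.Lib.OmegaEightCent.Invols

/-!
The elementary abelian group of order 64 attached to a coordinate and its roots.
-/

set_option autoImplicit false
set_option linter.unusedSectionVars false
set_option linter.style.haveILetI false
set_option linter.unusedSimpArgs false
set_option maxHeartbeats 1000000
set_option synthInstance.maxSize 2000

open Cfsg CfsgLib.Extraspecial
open Equiv (Perm swap)

namespace CfsgLib.OmegaEightCent

/-- bit vectors of length six -/
abbrev B6 : Type := Fin 6 → Bool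

/-- the sum of two bit vectors -/
def bx (b b' : B6) : B6 := fun l => xor (b l) (b' l)

/-- unit bit vectors -/
def sg (l : Fin 6) : B6 := fun m => decide (m = l)

/-- the zero bit vector -/
def z6 : B6 := fun _ => false

/-- the quadratic form on bit vectors -/
def qf (b : B6) : Bool := xor (xor (b 0 && b 1) (b 2 && b 5)) (b 3 && b 4)

/-- extension of a map of unit vectors -/
def lin6 (M : Fin 6 → B6) (b : B6) : B6 := fun m =>
  xor (xor (xor (xor (xor (b 0 && M 0 m) (b 1 && M 1 m)) (b 2 && M 2 m)) (b 3 && M 3 m)) (b 4 && M 4 m))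
    (b 5 && M 5 m)

/-- the four transvections fixing `z` and the two further maps -/
def mU : Fin 6 → B6 := ![bx (sg 0) (sg 5), sg 1, bx (sg 1) (sg 2), sg 3, sg 4, sg 5]
def mK : Fin 6 → B6 := ![bx (sg 0) (sg 3), sg 1, sg 2, sg 3, bx (sg 1) (sg 4), sg 5]
def mJ : Fin 6 → B6 := ![bx (sg 0) (sg 4), sg 1, sg 2, bx (sg 1) (sg 3), sg 4, sg 5]
def mA : Fin 6 → B6 := ![bx (sg 0) (sg 2), sg 1, sg 2, sg 3, sg 4, bx (sg 1) (sg 5)]
def mR : Fin 6 → B6 := ![bx (sg 0) (sg 5), sg 2, bx (sg 1) (sg 2), sg 3, sg 4, sg 0]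
def mW : Fin 6 → B6 := ![sg 0, sg 1, sg 3, sg 2, sg 5, sg 4]

/-- conditional application -/
def pick (t : Bool) (M : Fin 6 → B6) (b : B6) : B6 := bif t then lin6 M b else b

theorem chain6 : ∀ b : B6, b 0 = true →
    pick (b 2) mA (pick (b 4) mJ (pick (b 3) mK (pick (b 5) mU
      (bif qf b then bx (sg 0) (sg 1) else sg 0)))) = b := by decide +kernel

/-- the representative of rank two -/
def qb : B6 := ![false, true, true, false, false, true]

/-- the auxiliary root -/
def xb (d : Bool) : B6 := ![false, d, false, true, false, false]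

/-- the transported representative -/
def q1 (d : Bool) : B6 := bif d then ![false, false, true, true, true, false] else ![false, true, true, true, true, false]

theorem bits_x : ∀ d : Bool, qf (xb d) = false ∧ xb d ≠ z6 ∧ qf (bx (xb d) qb) = true := by decide +kernel

theorem bits_move : ∀ d : Bool,
    (bif d then lin6 mR (lin6 mW (xb d)) else lin6 mR (lin6 mR (lin6 mW (xb d)))) = sg 1 ∧
    (bif d then lin6 mR (lin6 mW qb) else lin6 mR (lin6 mR (lin6 mW qb))) = q1 d := by decide +kernel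

theorem polar6 : ∀ cb : B6, qf cb = true → qf (bx (sg 1) cb) = false →
    (qf (bx qb cb) = true ∨ bx qb cb = z6) → ∀ db : B6, qf db = true → qf (bx (xb (cb 4)) db) = false →
    (qf (bx qb db) = true ∨ bx qb db = z6) → (qf (bx cb db) = true ∨ bx cb db = z6) →
    (qf (bx qb (bx cb db)) = true ∨ bx qb (bx cb db) = z6) → False := by decide +kernel

/-- classes of the elements inside `Q` -/
def cl6 (i j k : Fin 3) (b : B6) : V8 :=
  (bif b 2 then pnt 0 else 0) + (bif b 3 then pnt (xA j) else 0) + (bif b 4 then pnt (xA k) else 0) +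
    (bif b 5 then pnt (xC i) else 0)

theorem point6 : ∀ (i j k : Fin 3), j ≠ i → k ≠ i → k ≠ j → ∀ b : B6, b 0 = false →
    ((∃ a, cl6 i j k b = pnt a) ↔ qf b = false ∧ cl6 i j k b ≠ 0) ∧
    (cl6 i j k b = 0 → qf b = false ∧ (b = z6 ∨ b = sg 1)) := by decide +kernel

theorem fixed6 : ∀ (i j k : Fin 3), j ≠ i → k ≠ i → k ≠ j → ∀ y : V8, act (sgl i tt) y = y →
    ∃ p : (Bool × Bool) × (Bool × Bool), cl6 i j k ![false, false, p.1.1, p.1.2, p.2.1, p.2.2] = y := by
  decide +kernel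

theorem single_pin : ∀ (i j k l : Fin 3) (σ : S3), j ≠ i → k ≠ i → k ≠ j → σ * σ = 1 → σ ≠ 1 →
    (act (sgl l σ) (pnt 0 + pnt (xC i)) = pnt 0 + pnt (xC i) → l = i ∧ σ = tt) ∧
    (act (sgl l σ) (pnt 0 + pnt (xA j) + pnt (xA k)) = pnt 0 + pnt (xA j) + pnt (xA k) → l = i ∧ σ = tt) := by
  decide +kernel

variable {G : Type*} [Group G]

/-- an element or the identity -/
def pw (b : Bool) (x : G) : G := bif b then x else 1

/-- the element with given bits -/
def el (f : Fin 6 → G) (b : B6) : G :=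
  pw (b 0) (f 0) * pw (b 1) (f 1) * pw (b 2) (f 2) * pw (b 3) (f 3) * pw (b 4) (f 4) * pw (b 5) (f 5)

theorem el_zero (f : Fin 6 → G) : el f z6 = 1 := by simp [el, pw, z6]

theorem el_sg (f : Fin 6 → G) (l : Fin 6) : el f (sg l) = f l := by
  fin_cases l <;> simp [el, pw, sg]

theorem el_mem {S : Subgroup G} {f : Fin 6 → G} (h : ∀ l, f l ∈ S) (b : B6) : el f b ∈ S := by
  have : ∀ (t : Bool) l, pw t (f l) ∈ S := fun t l => by cases t <;> simp [pw, h l]
  exact mul_mem (mul_mem (mul_mem (mul_mem (mul_mem (this _ 0) (this _ 1)) (this _ 2)) (this _ 3)) (this _ 4))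
    (this _ 5)

theorem conj_el (g : G) (f : Fin 6 → G) (b : B6) : g * el f b * g⁻¹ = el (fun l => g * f l * g⁻¹) b := by
  have h : ∀ (t : Bool) x, MulAut.conj g (pw t x) = pw t (g * x * g⁻¹) := fun t x => by cases t <;> simp [pw]
  show MulAut.conj g (el f b) = _
  simp only [el, map_mul, h]

section

variable {f : Fin 6 → G} (hc : ∀ l m, Commute (f l) (f m)) (h2 : ∀ l, f l * f l = 1)
include hc h2

theorem el_mul (b b' : B6) : el f b * el f b' = el f (bx b b') := by
  have hp : ∀ (s t : Bool) l m, Commute (pw s (f l)) (pw t (f m)) := fun s t l m => by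
    cases s <;> cases t <;> simp [pw, hc l m]
  have hs : ∀ (s t : Bool) l, pw s (f l) * pw t (f l) = pw (xor s t) (f l) := fun s t l => by
    cases s <;> cases t <;> simp [pw, h2 l]
  simp only [el, bx]
  rw [Commute.mul_mul_mul_comm (((((hp _ _ 5 0).mul_right (hp _ _ 5 1)).mul_right (hp _ _ 5 2)).mul_right
      (hp _ _ 5 3)).mul_right (hp _ _ 5 4)),
    Commute.mul_mul_mul_comm ((((hp _ _ 4 0).mul_right (hp _ _ 4 1)).mul_right (hp _ _ 4 2)).mul_right
      (hp _ _ 4 3)),
    Commute.mul_mul_mul_comm (((hp _ _ 3 0).mul_right (hp _ _ 3 1)).mul_right (hp _ _ 3 2)),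
    Commute.mul_mul_mul_comm ((hp _ _ 2 0).mul_right (hp _ _ 2 1)),
    Commute.mul_mul_mul_comm (hp _ _ 1 0), hs, hs, hs, hs, hs, hs]

theorem el_lin (M : Fin 6 → B6) (b : B6) : el (fun l => el f (M l)) b = el f (lin6 M b) := by
  have h : ∀ (t : Bool) l, pw t (el f (M l)) = el f (fun m => t && M l m) := fun t l => by
    cases t
    · simp [pw]; exact (el_zero f).symm
    · simp [pw]
  show pw (b 0) (el f (M 0)) * _ * _ * _ * _ * _ = _
  rw [h, h, h, h, h, h, el_mul hc h2, el_mul hc h2, el_mul hc h2, el_mul hc h2, el_mul hc h2]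
  rfl

theorem conj_lin {g : G} {M : Fin 6 → B6} (h : ∀ l, g * f l * g⁻¹ = el f (M l)) (b : B6) :
    g * el f b * g⁻¹ = el f (lin6 M b) := by
  rw [conj_el, funext h, el_lin hc h2]

end

theorem fx {g x : G} (h : Commute g x) : g * x * g⁻¹ = x := by rw [h.eq, mul_inv_cancel_right]

theorem swap_conj {p x y : G} (hp : p * p = 1) (hx : x * x = 1) (h : p * x * p = x * y) (hc : Commute p y) :
    x * p * x⁻¹ = p * y := by
  calc x * p * x⁻¹ = x * (p * x * p) * p := by
        rw [inv_eq_of_mul_eq_one_right hx]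
        calc x * p * x = x * p * x * (p * p) := by rw [hp, mul_one]
          _ = _ := by group
    _ = y * p := by rw [h, ← mul_assoc x x, hx, one_mul]
    _ = p * y := hc.eq.symm

/-- the generators attached to a coordinate -/
def gen (z v r : G) (a c : Fin 3 → G) (i j k : Fin 3) : Fin 6 → G := ![nn r c i, z, v, a j, a k, c i]

namespace Fr

variable [Finite G] {z : G} {Q : Subgroup G} {π : ↥(Cz z) →* M0} {κ : V8 → T Q} {v u r s : G}
  {a c : Fin 3 → G} (F : Fr z Q π κ v u r s a c) {i j k : Fin 3} (hj : j ≠ i) (hk : k ≠ i) (hkj : k ≠ j)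
include F hj hk hkj

theorem gen_C : ∀ l, gen z v r a c i j k l ∈ Cz z := by
  intro l
  fin_cases l
  exacts [F.n_C i, F.H.zC, F.H.QC F.A.vQ, F.H.QC (F.A.aQ j), F.H.QC (F.A.aQ k), F.H.QC (F.B.aQ i)]

theorem gen_K : ∀ l, gen z v r a c i j k l ∈ KK r s u a c := fun l => F.C_le (F.gen_C hj hk hkj l)

theorem gen_two : ∀ l, gen z v r a c i j k l * gen z v r a c i j k l = 1 := by
  intro l
  fin_cases l
  exacts [(F.tn i).two, F.H.z2, F.v2, F.a2 j, F.a2 k, F.c2 i]

theorem gen_comm : ∀ l m, Commute (gen z v r a c i j k l) (gen z v r a c i j k m) := by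
  have z_ : ∀ q ∈ Q, Commute z q := fun q hq => F.H.z_commute hq
  have t := F.tn i
  have e01 : Commute (nn r c i) z := t.pz
  have e02 : Commute (nn r c i) v := t.pv
  have e03 : Commute (nn r c i) (a j) := t.pa j hj
  have e04 : Commute (nn r c i) (a k) := t.pa k hk
  have e05 : Commute (nn r c i) (c i) := t.pci
  have e12 := z_ v F.A.vQ
  have e13 := z_ _ (F.A.aQ j)
  have e14 := z_ _ (F.A.aQ k)
  have e15 := z_ _ (F.B.aQ i)
  have e23 := F.comm_va j
  have e24 := F.comm_va k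
  have e25 := F.comm_vc i
  have e34 := F.comm_aa j k
  have e35 := F.comm_ac hj.symm
  have e45 := F.comm_ac hk.symm
  intro l m
  fin_cases l <;> fin_cases m <;>
    first
      | exact Commute.refl _
      | assumption
      | (apply Commute.symm; assumption)

theorem elm (b b' : B6) : el (gen z v r a c i j k) b * el (gen z v r a c i j k) b' =
    el (gen z v r a c i j k) (bx b b') := el_mul (F.gen_comm hj hk hkj) (F.gen_two hj hk hkj) b b'

theorem elp (l m : Fin 6) : el (gen z v r a c i j k) (bx (sg l) (sg m)) =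
    gen z v r a c i j k l * gen z v r a c i j k m := by
  rw [← F.elm hj hk hkj, el_sg, el_sg]

theorem el_qb : el (gen z v r a c i j k) qb = qrep z v c i := by simp [el, pw, qb, gen, qrep]

theorem el_z (b : B6) : z * el (gen z v r a c i j k) b = el (gen z v r a c i j k) (bx (sg 1) b) := by
  rw [← F.elm hj hk hkj, el_sg]; rfl

theorem el_cl {b : B6} (hb : b 0 = false) :
    el (gen z v r a c i j k) b ∈ Q ∧ cl Q (el (gen z v r a c i j k) b) = κ (cl6 i j k b) := by
  have hp : ∀ (t : Bool) {q : G} {x : V8}, q ∈ Q → cl Q q = κ x →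
      pw t q ∈ Q ∧ cl Q (pw t q) = κ (bif t then x else 0) := fun t q x hq hx => by
    cases t
    · exact ⟨Q.one_mem, by rw [pw, cond_false, cond_false, cl_one, F.C.zero F.H]⟩
    · exact ⟨hq, hx⟩
  obtain ⟨m1, k1⟩ := hp (b 1) (x := 0) F.H.zQ (by rw [F.H.cl_z, F.C.zero F.H])
  obtain ⟨m2, k2⟩ := hp (b 2) F.A.vQ F.A.cv
  obtain ⟨m3, k3⟩ := hp (b 3) (F.A.aQ j) (F.A.ca j)
  obtain ⟨m4, k4⟩ := hp (b 4) (F.A.aQ k) (F.A.ca k)
  obtain ⟨m5, k5⟩ := hp (b 5) (F.B.aQ i) (F.cc i)
  have e : el (gen z v r a c i j k) b =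
      pw (b 1) z * pw (b 2) v * pw (b 3) (a j) * pw (b 4) (a k) * pw (b 5) (c i) := by
    simp [el, pw, gen, hb]
  rw [e]
  refine ⟨Q.mul_mem (Q.mul_mem (Q.mul_mem (Q.mul_mem m1 m2) m3) m4) m5, ?_⟩
  rw [cl_mul (Q.mul_mem (Q.mul_mem (Q.mul_mem m1 m2) m3) m4) m5, cl_mul (Q.mul_mem (Q.mul_mem m1 m2) m3) m4,
    cl_mul (Q.mul_mem m1 m2) m3, cl_mul m1 m2, k1, k2, k3, k4, k5, ← F.C.add, ← F.C.add, ← F.C.add, ← F.C.add]
  congr 1
  cases b 1 <;> simp [cl6]

theorem conj_u (l : Fin 6) :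
    u * gen z v r a c i j k l * u⁻¹ = el (gen z v r a c i j k) (mU l) := by
  have hu : u⁻¹ = u := inv_eq_of_mul_eq_one_right F.A.u2
  fin_cases l <;> simp only [mU, Matrix.cons_val, Fin.reduceFinMk, Fin.zero_eta, Fin.mk_one, F.elp hj hk hkj,
    el_sg] <;> simp only [gen, Matrix.cons_val]
  · exact swap_conj (F.tn i).two F.A.u2 (F.tn i).pu (F.tn i).pci
  · exact fx (F.H.z_commute F.A.uQ).symm
  · rw [hu]; exact F.A.uv
  · exact fx (F.comm_ua j)
  · exact fx (F.comm_ua k)
  · exact fx (F.comm_uc i)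

theorem conj_ck (l : Fin 6) :
    c k * gen z v r a c i j k l * (c k)⁻¹ = el (gen z v r a c i j k) (mK l) := by
  fin_cases l <;> simp only [mK, Matrix.cons_val, Fin.reduceFinMk, Fin.zero_eta, Fin.mk_one, F.elp hj hk hkj,
    el_sg] <;> simp only [gen, Matrix.cons_val]
  · exact swap_conj (F.tn i).two (F.c2 k) ((F.tn i).pc k j hk hj hkj.symm) ((F.tn i).pa j hj)
  · exact fx (F.H.z_commute (F.B.aQ k)).symm
  · exact fx (F.comm_vc k).symm
  · exact fx (F.comm_ac hkj).symm
  · exact F.C.anti F.H (F.B.aQ k) (F.A.aQ k) (F.cc k) (F.A.ca k)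
      (by rw [bV_symm, (half_idx k).2.2.2.2.2.1]; decide)
  · exact fx (F.comm_cc k i)

theorem conj_cj (l : Fin 6) :
    c j * gen z v r a c i j k l * (c j)⁻¹ = el (gen z v r a c i j k) (mJ l) := by
  fin_cases l <;> simp only [mJ, Matrix.cons_val, Fin.reduceFinMk, Fin.zero_eta, Fin.mk_one, F.elp hj hk hkj,
    el_sg] <;> simp only [gen, Matrix.cons_val]
  · exact swap_conj (F.tn i).two (F.c2 j) ((F.tn i).pc j k hj hk hkj) ((F.tn i).pa k hk)
  · exact fx (F.H.z_commute (F.B.aQ j)).symm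
  · exact fx (F.comm_vc j).symm
  · exact F.C.anti F.H (F.B.aQ j) (F.A.aQ j) (F.cc j) (F.A.ca j)
      (by rw [bV_symm, (half_idx j).2.2.2.2.2.1]; decide)
  · exact fx (F.comm_ac hkj.symm).symm
  · exact fx (F.comm_cc j i)

theorem conj_ai (l : Fin 6) :
    a i * gen z v r a c i j k l * (a i)⁻¹ = el (gen z v r a c i j k) (mA l) := by
  fin_cases l <;> simp only [mA, Matrix.cons_val, Fin.reduceFinMk, Fin.zero_eta, Fin.mk_one, F.elp hj hk hkj,
    el_sg] <;> simp only [gen, Matrix.cons_val]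
  · exact swap_conj (F.tn i).two (F.a2 i) ((F.tn i).pai.trans (F.comm_va i).eq) (F.tn i).pv
  · exact fx (F.H.z_commute (F.A.aQ i)).symm
  · exact fx (F.comm_va i).symm
  · exact fx (F.comm_aa i j)
  · exact fx (F.comm_aa i k)
  · exact F.C.anti F.H (F.A.aQ i) (F.B.aQ i) (F.A.ca i) (F.cc i)
      (by rw [(half_idx i).2.2.2.2.2.1]; decide)

theorem conj_r (l : Fin 6) :
    r * gen z v r a c i j k l * r⁻¹ = el (gen z v r a c i j k) (mR l) := by
  fin_cases l <;> simp only [mR, Matrix.cons_val, Fin.reduceFinMk, Fin.zero_eta, Fin.mk_one, F.elp hj hk hkj,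
    el_sg] <;> simp only [gen, Matrix.cons_val]
  · have rri : r * r = r⁻¹ := eq_inv_of_mul_eq_one_left F.A.r3
    have h1 : u * r⁻¹ * u = r := by
      rw [← F.A.ru]
      calc u * (u * r * u) * u = (u * u) * r * (u * u) := by group
        _ = r := by rw [F.A.u2, one_mul, mul_one]
    have h2 : u * nn r c i * u = r⁻¹ * c i * r := by
      calc u * (r * c i * r⁻¹) * u = u * r * (u * u) * c i * (r⁻¹ * u) := by rw [F.A.u2]; group
        _ = (u * r * u) * (u * c i) * (r⁻¹ * u) := by group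
        _ = (u * r * u) * c i * (u * r⁻¹ * u) := by rw [(F.comm_uc i).eq]; group
        _ = _ := by rw [F.A.ru, h1]
    calc r * (r * c i * r⁻¹) * r⁻¹ = (r * r) * c i * (r * r)⁻¹ := by group
      _ = u * nn r c i * u := by rw [rri, inv_inv, h2]
      _ = nn r c i * c i := by rw [F.unu, (F.tn i).pci.eq]
  · exact F.A.rz
  · exact F.A.rv
  · exact F.A.ar j
  · exact F.A.ar k

theorem conj_w (l : Fin 6) :
    nn r c j * nn s a j * nn r c j * gen z v r a c i j k l * (nn r c j * nn s a j * nn r c j)⁻¹ =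
      el (gen z v r a c i j k) (mW l) := by
  obtain ⟨N1, N2, N3, N4, N5, N6, N7, N8⟩ := (F.tn j).vals hj.symm hkj hk
  obtain ⟨M1, M2, M3, M4, M5, M6, M7, M8⟩ := (F.tm j).vals hj.symm hkj hk
  have hz1 : MulAut.conj (nn r c j) z = z := fx (F.tn j).pz
  have hz2 : MulAut.conj (nn s a j) z = z := fx (F.tm j).pz
  have hn1 : MulAut.conj (nn r c j) (nn r c i) = nn r c i := fx (F.levi i j hj).2.1.symm
  have hn2 : MulAut.conj (nn s a j) (nn r c i) = nn r c i := fx (F.levi i j hj).2.2.2.symm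
  show MulAut.conj (nn r c j * nn s a j * nn r c j) (gen z v r a c i j k l) = _
  have hcm : ∀ p q x : G, MulAut.conj (p * q) x = MulAut.conj p (MulAut.conj q x) := fun p q x => by
    rw [map_mul]; rfl
  rw [hcm, hcm]
  have sqa : ∀ t, a k * (a k * t) = t := fun t => by rw [← mul_assoc, F.a2, one_mul]
  have sqv : ∀ t, v * (v * t) = t := fun t => by rw [← mul_assoc, F.v2, one_mul]
  have sqc : ∀ t, c i * (c i * t) = t := fun t => by rw [← mul_assoc, F.c2, one_mul]
  fin_cases l <;> simp only [mW, Matrix.cons_val, Fin.reduceFinMk, Fin.zero_eta, Fin.mk_one, el_sg]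
  all_goals
    simp only [gen, Matrix.cons_val]
    try generalize nn r c j = P₁ at *
    try generalize nn r c i = P₀ at *
    try generalize nn s a j = P₂ at *
    simp only [map_mul, hz1, hz2, hn1, hn2, N1, N3, N5, N7, M2, M4, M6, M8, mul_assoc, sqa, sqv, sqc, F.a2,
      F.v2, F.c2, mul_one, (F.comm_ac hk.symm).eq]

/-- an element of the group of order 64 is a root exactly when it is singular -/
theorem root_iff (b : B6) : IsConj z (el (gen z v r a c i j k) b) ↔ qf b = false ∧ b ≠ z6 := by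
  cases hb : b 0
  · obtain ⟨hQ, hcl⟩ := F.el_cl hj hk hkj hb
    obtain ⟨hp, h0⟩ := point6 i j k hj hk hkj b hb
    by_cases hx : cl6 i j k b = 0
    · obtain ⟨hq, rfl | rfl⟩ := h0 hx
      · refine ⟨fun h => absurd h ?_, fun h => absurd rfl h.2⟩
        rw [el_zero]
        exact fun h => F.H.zne (isConj_one_left.1 h)
      · exact ⟨fun _ => ⟨hq, by decide⟩, fun _ => by rw [el_sg]; exact IsConj.refl _⟩
    · constructor
      · intro h
        rcases F.C.root_class F.H hQ h with e | ⟨p, hpp⟩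
        · rw [e, F.H.cl_z, ← F.C.zero F.H] at hcl
          exact absurd (F.C.bij.1 hcl).symm hx
        · exact ⟨(hp.1 ⟨p, F.C.bij.1 (hcl.symm.trans hpp)⟩).1,
            fun e => hx (by subst e; simp [cl6, z6])⟩
      · intro h
        obtain ⟨p, hpp⟩ := hp.2 ⟨h.1, hx⟩
        exact F.C.root _ hQ p (hpp ▸ hcl)
  · have inv : ∀ {g : G} {M : Fin 6 → B6},
        (∀ l, g * gen z v r a c i j k l * g⁻¹ = el (gen z v r a c i j k) (M l)) → ∀ (t : Bool) x,
        (IsConj z (el (gen z v r a c i j k) (pick t M x)) ↔ IsConj z (el (gen z v r a c i j k) x)) := by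
      intro g M h t x
      cases t
      · exact Iff.rfl
      · have e := conj_lin (F.gen_comm hj hk hkj) (F.gen_two hj hk hkj) h x
        exact ⟨fun hc => hc.trans (isConj_iff.2 ⟨g⁻¹, by rw [pick, cond_true, ← e]; group⟩),
          fun hc => hc.trans (isConj_iff.2 ⟨g, e⟩)⟩
    have hne : b ≠ z6 := fun e => by rw [e] at hb; exact absurd hb (by decide)
    conv_lhs => rw [← chain6 b hb]
    rw [inv (F.conj_ai hj hk hkj), inv (F.conj_cj hj hk hkj), inv (F.conj_ck hj hk hkj),
      inv (F.conj_u hj hk hkj)]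
    cases hq : qf b
    · rw [cond_false, el_sg]; exact ⟨fun _ => ⟨rfl, hne⟩, fun _ => (F.tn i).conj⟩
    · rw [cond_true, ← F.elm hj hk hkj, el_sg, el_sg]
      refine ⟨fun h => absurd ?_ (F.zn_not i), fun h => absurd h.1 (by decide)⟩
      convert h using 1
      exact (F.tn i).pz.eq.symm

/-- a root of the centraliser fixing one of two special classes lies in the group of order 64 -/
theorem pin {t q : G} {y : V8} (ht : t ∈ Cz z) (htc : IsConj z t) (hzt : ¬ IsConj z (z * t))
    (hne : z * t ≠ 1) (hq : q ∈ Q) (hy : cl Q q = κ y)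
    (hyy : y = pnt 0 + pnt (xC i) ∨ y = pnt 0 + pnt (xA j) + pnt (xA k)) (hcq : Commute t q) :
    ∃ b, t = el (gen z v r a c i j k) b := by
  have htQ : t ∉ Q := fun hQ => by
    rcases F.C.root_class F.H hQ htc with e1 | ⟨p, hp⟩
    · exact hne (by rw [e1, F.H.z2])
    · exact hzt (F.C.root _ (Q.mul_mem F.H.zQ hQ) p (by rw [cl_mul F.H.zQ hQ, F.H.cl_z, one_mul, hp]))
  obtain ⟨l, k', hk', hkt⟩ := F.root_out ht htc htQ
  set o := img z π k' with ho
  have hi : img z π t = sgl l ((o l)⁻¹ * tt * o l) := by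
    have h1 : o * img z π t * o⁻¹ = sgl l tt := by
      rw [ho, ← F.H.img_conj hk' ht, hkt, F.n_img l]
    calc img z π t = o⁻¹ * (o * img z π t * o⁻¹) * o := by group
      _ = o⁻¹ * sgl l tt * o := by rw [h1]
      _ = _ := by
        funext m
        by_cases hm : m = l
        · subst hm; simp [sgl_self]
        · simp [sgl_ne hm]
  have hfix : act (img z π t) y = y := by
    have h1 := F.C.conj_cl F.H ht hq hy
    rw [fx hcq, hy] at h1
    exact (F.C.bij.1 h1).symm
  set σ := (o l)⁻¹ * tt * o l with hσ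
  have hσ2 : σ * σ = 1 := by
    calc σ * σ = (o l)⁻¹ * (tt * tt) * o l := by rw [hσ]; group
      _ = 1 := by rw [tt_facts.1]; group
  have hσ1 : σ ≠ 1 := fun e => tt_facts.2.1 (by
    calc tt = o l * σ * (o l)⁻¹ := by rw [hσ]; group
      _ = 1 := by rw [e]; group)
  rw [hi] at hfix
  obtain ⟨hl, hs⟩ : l = i ∧ σ = tt := by
    obtain ⟨s1, s2⟩ := single_pin i j k l σ hj hk hkj hσ2 hσ1
    rcases hyy with rfl | rfl
    · exact s1 hfix
    · exact s2 hfix
  have hit : img z π t = img z π (nn r c i) := by rw [hi, hl, hs, F.n_img i]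
  have hn2 := (F.tn i).two
  have hni : (nn r c i)⁻¹ = nn r c i := inv_eq_of_mul_eq_one_right hn2
  set p := nn r c i * t with hp
  have hpQ : p ∈ Q := by
    rw [← F.H.img_eq_one ((Cz z).mul_mem (F.n_C i) ht), F.H.img_mul (F.n_C i) ht, hit,
      ← F.H.img_mul (F.n_C i) (F.n_C i), hn2, F.H.img_one]
  obtain ⟨w, hw⟩ := F.C.exists_x F.H (q := p)
  have hwfix : act (sgl i tt) w = w := by
    have h1 := F.C.conj_cl F.H (F.n_C i) hpQ hw
    rw [F.n_img i] at h1
    refine F.C.bij.1 (h1.symm.trans ?_)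
    have e : nn r c i * p * (nn r c i)⁻¹ = p⁻¹ := by
      have ht2 : t⁻¹ = t := inv_eq_of_mul_eq_one_right (two_of_conj F.H.z2 htc)
      rw [hp]
      generalize nn r c i = n₀ at hn2 hni ⊢
      rw [mul_inv_rev, ht2, hni, ← mul_assoc n₀ n₀, hn2, one_mul]
    rw [e, ← hw, ← F.H.T_mul_eq_one, ← cl_mul (Q.inv_mem hpQ) hpQ, inv_mul_cancel, cl_one]
  obtain ⟨b4, hb4⟩ := fixed6 i j k hj hk hkj w hwfix
  set b : B6 := ![false, false, b4.1.1, b4.1.2, b4.2.1, b4.2.2] with hb
  obtain ⟨hbQ, hbc⟩ := F.el_cl hj hk hkj (b := b) (by rw [hb]; rfl)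
  rw [hb4] at hbc
  have htp : t = nn r c i * p := by rw [hp, ← mul_assoc, hn2, one_mul]
  rcases F.C.eq_or F.H hpQ hbQ hw hbc with e | e
  · refine ⟨bx (sg 0) b, ?_⟩
    rw [← F.elm hj hk hkj, el_sg, htp, e]; rfl
  · refine ⟨bx (sg 0) (bx (sg 1) b), ?_⟩
    rw [← F.elm hj hk hkj, el_sg, ← F.el_z hj hk hkj, htp, e]; rfl

end Fr

end CfsgLib.OmegaEightCent
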