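import Cfsg.Agent.Lib.OmegaEightCent.Coords

/-!
Working with elements of `Q` through coordinates.
-/

set_option autoImplicit false
set_option linter.unusedSectionVars false
set_option linter.style.haveILetI false
set_option maxHeartbeats 1000000
set_option synthInstance.maxSize 2000

open Cfsg CfsgLib.Extraspecial
open Equiv (Perm swap)

namespace CfsgLib.OmegaEightCent

/-- the index of `fee` -/
def xA (i : Fin 3) : Fin 3 → Fin 3 := fun l => if l = i then 1 else 0

/-- the index of `eff` -/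
def xC (i : Fin 3) : Fin 3 → Fin 3 := fun l => if l = i then 0 else 1

/-- the exchange of the first two vectors everywhere -/
def sAll : M0 := fun _ => ss

theorem sAll_facts : sAll * sAll = 1 ∧ (∀ i l, sAll l (xA i l) = xC i l) ∧
    (∀ i l, sAll l (xC i l) = xA i l) ∧ ss 0 = 1 ∧ ss 1 = 0 ∧ ss * tt * ss = tt' ∧ ss * ss = 1 := by
  decide +kernel

theorem qV_sAll : ∀ x : V8, qV (act sAll x) = qV x := by decide +kernel

theorem act_mul (m n : M0) (x : V8) : act (m * n) x = act m (act n x) :=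
  hom_ext (f := actHom (m * n)) (g := (actHom m).comp (actHom n)) (fun a _ => by
    show act (m * n) (pnt a) = act m (act n (pnt a))
    rw [act_pnt, act_pnt, act_pnt]
    rfl) x

theorem act_one (x : V8) : act 1 x = x :=
  hom_ext (f := actHom 1) (g := AddMonoidHom.id V8) (fun a _ => by
    show act 1 (pnt a) = pnt a
    rw [act_pnt]; rfl) x

theorem bV_eq (x y : V8) : bV x y = qV (x + y) + qV x + qV y := by
  rw [qV_add]
  generalize qV x = a
  generalize qV y = b
  generalize bV x y = c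
  revert a b c; decide

/-- the vectors of the intersection attached to the first point -/
theorem tangent : ∀ x : V8, (∀ i, act (sgl i tt) x = x ∨ act (sgl i tt) x = x + pnt 0) ↔
    ∃ b : Bool × Bool × Bool × Bool, x = (bif b.1 then pnt 0 else 0) + (bif b.2.1 then pnt (xA 0) else 0) +
      (bif b.2.2.1 then pnt (xA 1) else 0) + (bif b.2.2.2 then pnt (xA 2) else 0) := by decide +kernel

namespace Coord

variable {G : Type*} [Group G] [Finite G] {z : G} {Q : Subgroup G} {π : ↥(Cz z) →* M0} {κ : V8 → T Q}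
  (C : Coord z Q π κ) (H : Pre z Q π)
include C H

theorem zero : κ 0 = 1 := by
  have := C.add 0 0
  rw [add_zero, left_eq_mul] at this
  exact this

theorem sq_iff {q : G} {x : V8} (hq : q ∈ Q) (hx : cl Q q = κ x) : q * q = 1 ↔ qV x = 0 := by
  have h := H.qT_cl hq
  rw [hx, C.qf, decide_eq_true_iff] at h
  constructor
  · intro e
    by_contra h0
    exact H.zne (((h.1 (by revert h0; generalize qV x = a; revert a; decide))).symm.trans e)
  · intro e
    exact (H.st.sq_cases hq).resolve_right fun e1 => absurd (e.symm.trans (h.2 e1)) (by decide)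

theorem comm_iff {p q : G} {x y : V8} (hp : p ∈ Q) (hq : q ∈ Q) (hx : cl Q p = κ x) (hy : cl Q q = κ y) :
    p * q = q * p ↔ bV x y = 0 := by
  have h := H.bT_cl hp hq
  rw [hx, hy, C.bf, decide_eq_true_iff] at h
  constructor
  · intro e
    by_contra h0
    exact h.1 (by revert h0; generalize bV x y = a; revert a; decide) e
  · intro e
    by_contra h0
    exact absurd (e.symm.trans (h.2 h0)) (by decide)

theorem comm' {p q : G} {x y : V8} (hp : p ∈ Q) (hq : q ∈ Q) (hx : cl Q p = κ x) (hy : cl Q q = κ y)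
    (h : bV x y = 0) : Commute p q := (C.comm_iff H hp hq hx hy).2 h

theorem anti {p q : G} {x y : V8} (hp : p ∈ Q) (hq : q ∈ Q) (hx : cl Q p = κ x) (hy : cl Q q = κ y)
    (h : bV x y ≠ 0) : p * q * p⁻¹ = z * q :=
  (H.anti_iff hp hq).1 fun e => h ((C.comm_iff H hp hq hx hy).1 e)

theorem conj_cl {c q : G} {x : V8} (hc : c ∈ Cz z) (hq : q ∈ Q) (hx : cl Q q = κ x) :
    cl Q (c * q * c⁻¹) = κ (act (img z π c) x) := by
  rw [← H.ac_cl hc hq, hx, C.equiv c hc]

theorem cl_mul' {p q : G} {x y : V8} (hp : p ∈ Q) (hq : q ∈ Q) (hx : cl Q p = κ x) (hy : cl Q q = κ y) :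
    cl Q (p * q) = κ (x + y) := by
  rw [cl_mul hp hq, hx, hy, C.add]

theorem eq_or {p q : G} {x : V8} (hp : p ∈ Q) (hq : q ∈ Q) (hx : cl Q p = κ x) (hy : cl Q q = κ x) :
    p = q ∨ p = z * q := (H.cl_eq_iff hp hq).1 (hx.trans hy.symm)

theorem zero_iff {q : G} (hq : q ∈ Q) : cl Q q = κ 0 ↔ q = 1 ∨ q = z := by
  rw [C.zero H, H.cl_eq_one hq]

theorem exists_x {q : G} : ∃ x, cl Q q = κ x := (C.bij.2 (cl Q q)).imp fun _ h => h.symm

/-- a conjugate of `z` in `Q` with a given point as class -/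
theorem exists_root (a : Fin 3 → Fin 3) : ∃ q ∈ Q, cl Q q = κ (pnt a) ∧ IsConj z q :=
  ⟨rep Q (κ (pnt a)), rep_mem Q _, cl_rep Q _, C.root _ (rep_mem Q _) a (cl_rep Q _)⟩

theorem root_class {q : G} (hq : q ∈ Q) (hc : IsConj z q) : q = z ∨ ∃ a, cl Q q = κ (pnt a) := by
  obtain ⟨h, rfl⟩ := isConj_iff.1 hc
  exact or_iff_not_imp_left.2 fun hne => C.pts h hq hne

/-- twisting by the exchange -/
theorem flipped : Coord z Q ((MulAut.conj sAll).toMonoidHom.comp π) (fun x => κ (act sAll x)) where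
  bij := C.bij.comp (Function.bijective_iff_has_inverse.2 ⟨act sAll,
    fun x => by rw [← act_mul, sAll_facts.1, act_one], fun x => by rw [← act_mul, sAll_facts.1, act_one]⟩)
  add x y := by rw [act_add, C.add]
  equiv c hc x := by
    rw [C.equiv c hc]
    congr 1
    rw [img, img, dif_pos hc, dif_pos hc, ← act_mul, ← act_mul]
    congr 1
    show _ = sAll * (sAll * π ⟨c, hc⟩ * sAll⁻¹)
    rw [inv_eq_of_mul_eq_one_right sAll_facts.1, ← mul_assoc, ← mul_assoc, sAll_facts.1, one_mul]
  qf x := by rw [C.qf, qV_sAll]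
  bf x y := by
    rw [C.bf, bV_eq, bV_eq x y, ← act_add, qV_sAll, qV_sAll, qV_sAll]
  pts h hQ hne := by
    obtain ⟨a, ha⟩ := C.pts h hQ hne
    refine ⟨fun l => ss (a l), ha.trans ?_⟩
    rw [act_pnt]
    congr 2; funext l
    show a l = ss (ss (a l))
    rw [← Equiv.Perm.mul_apply, sAll_facts.2.2.2.2.2.2, Equiv.Perm.one_apply]
  root q hq a ha := C.root q hq (fun l => sAll l (a l)) (by rw [ha, act_pnt])

variable {g : G} (hmem : g * z * g⁻¹ ∈ Q) (hne : g * z * g⁻¹ ≠ z)
  (hv : cl Q (g * z * g⁻¹) = κ (pnt 0))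
include hmem hne hv

/-- the induced group is the standard one -/
theorem Ap_iff (m : M0) : m ∈ Apg Q π g ↔ ∀ i, m i = 1 ∨ m i = tt := by
  obtain ⟨s, hs, hA⟩ := H.Ap_full hmem hne
  have hst : ∀ i, s i = tt := by
    intro i
    obtain ⟨b, hb, hbi⟩ := (H.mem_Ap hmem hne).1 ((hA (sgl i (s i))).2 fun j => by
      by_cases hj : j = i
      · subst hj; exact Or.inr (sgl_self _ _)
      · exact Or.inl (sgl_ne hj _))
    have h1 := C.conj_cl H hb.2 hmem hv
    rw [mul_inv_eq_iff_eq_mul.2 ((H.st.conj g).z_comm hb.1), hv, hbi, act_pnt] at h1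
    have := congrFun (pnt_inj _ _ (C.bij.1 h1)) i
    simp only [sgl_self, Pi.zero_apply] at this
    exact (stab_zero _ this.symm).resolve_left (hs i).2
  rw [hA]
  exact forall_congr' fun i => by rw [hst]

/-- the classes of the intersection -/
theorem Ep_iff {q : G} {x : V8} (hq : q ∈ Q) (hx : cl Q q = κ x) :
    q ∈ Ep Q g ↔ ∀ i, act (sgl i tt) x = x ∨ act (sgl i tt) x = x + pnt 0 := by
  classical
  let P : V8 → Prop := fun x => ∀ i, act (sgl i tt) x = x ∨ act (sgl i tt) x = x + pnt 0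
  have hfwd : ∀ e ∈ Ep Q g, ∀ y, cl Q e = κ y → P y := by
    intro e he y hy i
    obtain ⟨b, hb, hbi⟩ := (H.mem_Ap hmem hne).1 ((C.Ap_iff H hmem hne hv (sgl i tt)).2 fun j => by
      by_cases hj : j = i
      · subst hj; exact Or.inr (sgl_self _ _)
      · exact Or.inl (sgl_ne hj _))
    have h1 := C.conj_cl H hb.2 he.1 hy
    rw [← H.ac_cl hb.2 he.1, hbi] at h1
    rcases H.ac_cases hmem hne hb he with h | h <;> rw [h, hy] at h1
    · exact Or.inl (C.bij.1 h1).symm
    · rw [hv, ← C.add] at h1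
      exact Or.inr (C.bij.1 h1).symm
  refine ⟨fun h => hfwd q h x hx, fun hP => ?_⟩
  have hcard : Nat.card {y : V8 // P y} ≤ 16 := by
    refine le_trans (Nat.card_le_card_of_surjective (α := Bool × Bool × Bool × Bool)
      (fun b => ⟨_, (tangent _).2 ⟨b, rfl⟩⟩) ?_) (by simp [Nat.card_eq_fintype_card])
    rintro ⟨y, hy⟩
    obtain ⟨b, rfl⟩ := (tangent y).1 hy
    exact ⟨b, rfl⟩
  have h1 := H.card_clEp hmem hne
  have h2 := H.card_Ap_mul hmem hne
  have h3 := card_elem_le _ (fun a ha => H.Ap_sq hmem hne (π := π) (m := a) ha)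
  let f : {t : T Q // ∃ e ∈ Ep Q g, cl Q e = t} → {y : V8 // P y} := fun t =>
    ⟨(C.bij.2 t.1).choose, by
      obtain ⟨e, he, het⟩ := t.2
      exact hfwd e he _ (het.trans (C.bij.2 t.1).choose_spec.symm)⟩
  have hf : Function.Injective f := fun s t h => Subtype.ext (by
    rw [← (C.bij.2 s.1).choose_spec, ← (C.bij.2 t.1).choose_spec]
    exact congrArg κ (congrArg Subtype.val h))
  have hb : Function.Bijective f := (Nat.bijective_iff_injective_and_card f).2
    ⟨hf, le_antisymm (Nat.card_le_card_of_injective f hf) (by nlinarith)⟩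
  obtain ⟨⟨t, e, he, het⟩, ht⟩ := hb.2 ⟨x, hP⟩
  have hxt : κ x = t := by
    rw [← (show (C.bij.2 t).choose = x from congrArg Subtype.val ht)]
    exact (C.bij.2 t).choose_spec
  rcases C.eq_or H hq he.1 hx (het.trans hxt.symm) with e1 | e1 <;> rw [e1]
  · exact he
  · exact (Ep Q g).mul_mem (H.z_Ep hmem hne) he

end Coord

end CfsgLib.OmegaEightCent
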