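import Cfsg.Agent.Lib.SLPres.SteinbergRel
import Cfsg.Agent.Lib.CTBond.Frame

/-!
Six involutions with the relations of `SL₃(2)`.
-/

set_option autoImplicit false
set_option linter.unusedSectionVars false

namespace CfsgLib.OmegaEightCent

open scoped MatrixGroups commutatorElement
open CfsgLib.CTBond

variable {G : Type*} [Group G]

/-- the relations of the six root involutions of `SL₃(2)` -/
structure Six (n m u w c q : G) : Prop where
  n2 : n * n = 1
  m2 : m * m = 1
  u2 : u * u = 1
  w2 : w * w = 1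
  c2 : c * c = 1
  q2 : q * q = 1
  nc : Commute n c
  mu : Commute m u
  qw : Commute q w
  mq : Commute m q
  nw : Commute n w
  cu : Commute c u
  r1 : n * u * n * u = c
  r2 : m * c * m * c = u
  r3 : c * w * c * w = n
  r4 : q * n * q * n = w
  r5 : u * q * u * q = m
  r6 : w * m * w * m = q

theorem rel_flip {x y e : G} (hx : x * x = 1) (hy : y * y = 1) (he : e * e = 1) (h : x * y * x * y = e) :
    y * x * y * x = e := by
  calc y * x * y * x = (x * y * x * y)⁻¹ := by
        rw [mul_inv_rev, mul_inv_rev, mul_inv_rev, inv_eq_of_mul_eq_one_right hx,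
          inv_eq_of_mul_eq_one_right hy]; group
    _ = e := by rw [h, inv_eq_of_mul_eq_one_right he]

theorem Six.flip {n m u w c q : G} (S : Six n m u w c q) : Six u w n m c q where
  n2 := S.u2
  m2 := S.w2
  u2 := S.n2
  w2 := S.m2
  c2 := S.c2
  q2 := S.q2
  nc := S.cu.symm
  mu := S.nw.symm
  qw := S.mq.symm
  mq := S.qw.symm
  nw := S.mu.symm
  cu := S.nc.symm
  r1 := rel_flip S.n2 S.u2 S.c2 S.r1
  r2 := rel_flip S.c2 S.w2 S.n2 S.r3
  r3 := rel_flip S.m2 S.c2 S.u2 S.r2
  r4 := rel_flip S.u2 S.q2 S.m2 S.r5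
  r5 := rel_flip S.q2 S.n2 S.w2 S.r4
  r6 := rel_flip S.w2 S.m2 S.q2 S.r6

/-- the root family -/
def six (n m u w c q : G) (i j : Fin 3) : G :=
  ![![1, n, c], ![m, 1, u], ![q, w, 1]] i j

theorem exists_theta {n m u w c q : G} (S : Six n m u w c q) (hn : n ≠ 1) :
    ∃ θ : SL(3, ZMod 2) →* G, θ.ker ≤ Subgroup.center SL(3, ZMod 2) ∧
      θ (e12 (tUp 1)) = n ∧ θ (e12 (tLo 1)) = m ∧ θ (e23 (tUp 1)) = u ∧ θ (e23 (tLo 1)) = w := by
  classical
  let Y : Fin 3 → Fin 3 → ZMod 2 → G := fun i j t => if t = 1 then six n m u w c q i j else 1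
  have hsq : ∀ i j, six n m u w c q i j * six n m u w c q i j = 1 := by
    intro i j
    fin_cases i <;> fin_cases j <;> simp [six, S.n2, S.m2, S.u2, S.w2, S.c2, S.q2]
  have hinv : ∀ i j, (six n m u w c q i j)⁻¹ = six n m u w c q i j := fun i j =>
    inv_eq_of_mul_eq_one_right (hsq i j)
  have hY1 : ∀ i j, Y i j 1 = six n m u w c q i j := fun i j => if_pos rfl
  have hY0 : ∀ i j, Y i j 0 = 1 := fun i j => if_neg (by decide)
  have ht : ∀ t : ZMod 2, t = 0 ∨ t = 1 := by decide
  have R : CfsgLib.SLPres.Steinberg.St Y := by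
    refine ⟨fun i j _ s t => ?_, fun i j k l hij hkl hjk hil s t => ?_, fun i j k hij hjk hik s t => ?_⟩
    · rcases ht s with rfl | rfl <;> rcases ht t with rfl | rfl <;>
        simp [hY0, hY1, hsq, show (1 + 1 : ZMod 2) = 0 from rfl]
    · rcases ht s with rfl | rfl
      · rw [hY0]; exact Commute.one_left _
      rcases ht t with rfl | rfl
      · rw [hY0]; exact Commute.one_right _
      rw [hY1, hY1]
      fin_cases i <;> fin_cases j <;> fin_cases k <;> fin_cases l <;> first
        | exact absurd rfl hij | exact absurd rfl hkl | exact absurd rfl hjk | exact absurd rfl hil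
        | exact Commute.refl _ | exact S.nc | exact S.nc.symm | exact S.mu | exact S.mu.symm
        | exact S.qw | exact S.qw.symm | exact S.mq | exact S.mq.symm | exact S.nw | exact S.nw.symm
        | exact S.cu | exact S.cu.symm
    · rcases ht s with rfl | rfl
      · simp [hY0]
      rcases ht t with rfl | rfl
      · simp [hY0]
      rw [one_mul, hY1, hY1, hY1, commutatorElement_def, hinv, hinv]
      fin_cases i <;> fin_cases j <;> fin_cases k <;> first
        | exact absurd rfl hij | exact absurd rfl hjk | exact absurd rfl hik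
        | exact S.r1 | exact S.r2 | exact S.r3 | exact S.r4 | exact S.r5 | exact S.r6
  obtain ⟨θ, hθ⟩ := CfsgLib.SLPres.Steinberg.exists_three R
  have ev : ∀ {i j : Fin 3} (hij : i ≠ j),
      θ (Matrix.SpecialLinearGroup.transvection hij (1 : ZMod 2)) = six n m u w c q i j := fun {i j} hij => by
    rw [← CfsgLib.Schur.SLFam.tv_def hij, hθ i j hij, hY1]
  have e01 : e12 (tUp (1 : ZMod 2)) =
      Matrix.SpecialLinearGroup.transvection (show (0 : Fin 3) ≠ 1 by decide) 1 := by decide +kernel
  have e10 : e12 (tLo (1 : ZMod 2)) =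
      Matrix.SpecialLinearGroup.transvection (show (1 : Fin 3) ≠ 0 by decide) 1 := by decide +kernel
  have e12' : e23 (tUp (1 : ZMod 2)) =
      Matrix.SpecialLinearGroup.transvection (show (1 : Fin 3) ≠ 2 by decide) 1 := by decide +kernel
  have e21 : e23 (tLo (1 : ZMod 2)) =
      Matrix.SpecialLinearGroup.transvection (show (2 : Fin 3) ≠ 1 by decide) 1 := by decide +kernel
  refine ⟨θ, ?_, ?_, ?_, ?_, ?_⟩
  · rcases normal_cases θ.ker with hk | hk
    · exact hk
    · refine absurd ?_ hn
      have := MonoidHom.mem_ker.1 (hk ▸ Subgroup.mem_top (e12 (tUp (1 : ZMod 2))))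
      rwa [e01, ev] at this
  · rw [e01, ev]; rfl
  · rw [e10, ev]; rfl
  · rw [e12', ev]; rfl
  · rw [e21, ev]; rfl

/-- homomorphisms from `SL₂(2)` agreeing on the two transvections are equal -/
theorem sl2_ext {f g : SL(2, ZMod 2) →* G} (hu : f (tUp 1) = g (tUp 1)) (hl : f (tLo 1) = g (tLo 1)) :
    f = g := by
  have h0 : tUp (0 : ZMod 2) = 1 ∧ tLo (0 : ZMod 2) = 1 := by decide +kernel
  have ht : ∀ t : ZMod 2, t = 0 ∨ t = 1 := by decide
  have htop := CfsgLib.Classical.eq_top_of_transvection_mem (f.eqLocus g) fun i j hij c => by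
    show f _ = g _
    rw [transvection_two hij]
    split_ifs <;> rcases ht c with rfl | rfl <;> simp [h0, hu, hl]
  exact MonoidHom.ext fun x => (htop ▸ Subgroup.mem_top x : x ∈ f.eqLocus g)

end CfsgLib.OmegaEightCent
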