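import Cfsg.Agent.Lib.OmegaEightCent.Levi
import Cfsg.Agent.Lib.OmegaEightCent.Six

/-!
The relations between an outer and the central pair of root involutions.
-/

set_option autoImplicit false
set_option linter.unusedSectionVars false
set_option linter.style.haveILetI false
set_option maxHeartbeats 1000000
set_option synthInstance.maxSize 2000

open Cfsg CfsgLib.Extraspecial
open Equiv (Perm swap)

namespace CfsgLib.OmegaEightCent

variable {G : Type*} [Group G]

/-- the second central root involution -/
abbrev ww (r u : G) : G := r * u * r⁻¹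

/-- the exchange inside an outer pair -/
abbrev ex (r s : G) (a c : Fin 3 → G) (i : Fin 3) : G := nn r c i * nn s a i * nn r c i

/-- the sixth root involution -/
abbrev qq (r s u : G) (a c : Fin 3 → G) (i : Fin 3) : G :=
  ex r s a c i * ww r u * ex r s a c i

theorem braid_idx : ∀ (i : Fin 3) (b : Fin 3 → Fin 3), bV (pnt b) (pnt 0) = 1 →
    bV (pnt b) (pnt (xA i)) = 1 → (∀ j, j ≠ i → bV (pnt b) (pnt (xC j)) = 0 ∧ bV (pnt b) (pnt (xA j)) = 0) →
    pnt b = pnt 1 + pnt (xC i) := by decide +kernel

namespace Fr

variable [Finite G] {z : G} {Q : Subgroup G} {π : ↥(Cz z) →* M0} {κ : V8 → T Q} {v u r s : G}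
  {a c : Fin 3 → G} (F : Fr z Q π κ v u r s a c)
include F

theorem w2 : ww r u * ww r u = 1 := by
  calc r * u * r⁻¹ * (r * u * r⁻¹) = r * (u * u) * r⁻¹ := by group
    _ = 1 := by rw [F.A.u2]; group

theorem rzv : r * (z * v) * r⁻¹ = z := by
  calc r * (z * v) * r⁻¹ = (r * z * r⁻¹) * (r * v * r⁻¹) := by group
    _ = v * (z * v) := by rw [F.A.rz, F.A.rv]
    _ = z := by rw [← mul_assoc, F.H.st.z_comm F.A.vQ, mul_assoc, F.v2, mul_one]

theorem wzw : ww r u * z * ww r u = z * v := by
  have huzv : u * (z * v) * u = v := by
    rw [← mul_assoc u z, F.H.st.z_comm F.A.uQ, mul_assoc z, mul_assoc, F.A.uv, ← mul_assoc, F.H.z2, one_mul]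
  calc r * u * r⁻¹ * z * (r * u * r⁻¹) = r * u * r⁻¹ * (r * (z * v) * r⁻¹) * (r * u * r⁻¹) := by rw [F.rzv]
    _ = r * (u * (z * v) * u) * r⁻¹ := by group
    _ = _ := by rw [huzv, F.A.rv]

theorem wvw : ww r u * v * ww r u = v := by
  have huz : u * z * u = z := by rw [F.H.st.z_comm F.A.uQ, mul_assoc, F.A.u2, mul_one]
  calc r * u * r⁻¹ * v * (r * u * r⁻¹) = r * u * r⁻¹ * (r * z * r⁻¹) * (r * u * r⁻¹) := by rw [F.A.rz]
    _ = r * (u * z * u) * r⁻¹ := by group
    _ = _ := by rw [huz, F.A.rz]

theorem wa (l : Fin 3) : Commute (ww r u) (a l) := by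
  show r * u * r⁻¹ * a l = a l * (r * u * r⁻¹)
  conv_lhs => rw [← F.A.ar l]
  conv_rhs => rw [← F.A.ar l]
  calc r * u * r⁻¹ * (r * a l * r⁻¹) = r * (u * a l) * r⁻¹ := by group
    _ = _ := by rw [(F.comm_ua l).eq]; group

theorem wn (l : Fin 3) : Commute (ww r u) (nn r c l) := by
  show r * u * r⁻¹ * (r * c l * r⁻¹) = r * c l * r⁻¹ * (r * u * r⁻¹)
  calc r * u * r⁻¹ * (r * c l * r⁻¹) = r * (u * c l) * r⁻¹ := by group
    _ = _ := by rw [(F.comm_uc l).eq]; group

theorem unu (l : Fin 3) : u * nn r c l * u = c l * nn r c l := by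
  have h := (F.tn l).pu
  calc u * nn r c l * u = u * nn r c l * u * (nn r c l * nn r c l) := by rw [(F.tn l).two, mul_one]
    _ = u * (nn r c l * u * nn r c l) * nn r c l := by group
    _ = (u * u) * c l * nn r c l := by rw [h]; group
    _ = _ := by rw [F.A.u2, one_mul]

theorem wcw (l : Fin 3) : ww r u * c l * ww r u = c l * nn r c l := by
  have hru' : r⁻¹ = u * r * u := F.A.ru.symm
  have e1 : r⁻¹ * c l * r = c l * nn r c l := by
    rw [← F.unu l]
    have hur : u * r⁻¹ = r * u := by
      rw [hru', ← mul_assoc, ← mul_assoc, F.A.u2, one_mul]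
    calc r⁻¹ * c l * r = u * r * (u * c l) * r := by rw [hru']; group
      _ = u * r * c l * (u * r) := by rw [(F.comm_uc l).eq]; group
      _ = u * r * c l * (u * r * u) * u := by
        calc u * r * c l * (u * r) = u * r * c l * (u * r) * (u * u) := by rw [F.A.u2, mul_one]
          _ = _ := by group
      _ = u * r * c l * r⁻¹ * u := by rw [← hru']
      _ = _ := by rw [nn]; group
  have e2 : u * (c l * nn r c l) * u = nn r c l := by
    calc u * (c l * nn r c l) * u = (u * c l) * nn r c l * u := by group
      _ = c l * (u * nn r c l * u) := by rw [(F.comm_uc l).eq]; group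
      _ = nn r c l := by rw [F.unu, ← mul_assoc, F.c2, one_mul]
  have e3 : r * nn r c l * r⁻¹ = r⁻¹ * c l * r := by
    have rri : r * r = r⁻¹ := eq_inv_of_mul_eq_one_left F.A.r3
    calc r * (r * c l * r⁻¹) * r⁻¹ = (r * r) * c l * (r * r)⁻¹ := by group
      _ = _ := by rw [rri, inv_inv]
  calc r * u * r⁻¹ * c l * (r * u * r⁻¹) = r * (u * (r⁻¹ * c l * r) * u) * r⁻¹ := by group
    _ = r * nn r c l * r⁻¹ := by rw [e1, e2]
    _ = _ := by rw [e3, e1]

/-- the six root involutions satisfy the relations -/
theorem six_rel (i : Fin 3) :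
    Six (nn r c i) (nn s a i) u (ww r u) (c i) (qq r s u a c i) := by
  classical
  have hi1 : i + 1 ≠ i := by clear * -; revert i; decide
  have q_def : qq r s u a c i = (nn r c i * nn s a i * nn r c i) * ww r u * (nn r c i * nn s a i * nn r c i) := rfl
  rw [q_def]
  set n := nn r c i with hn
  set m := nn s a i with hm
  set w := ww r u with hw
  have hn2 : n * n = 1 := (F.tn i).two
  have hm2 : m * m = 1 := (F.tm i).two
  have hw2 : w * w = 1 := F.w2
  have hbr : n * m * n = m * n * m := (F.levi i (i + 1) hi1).1
  have hwn : Commute w n := F.wn i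
  have hnc : Commute n (c i) := (F.tn i).pci
  have hmu : Commute m u := (F.tm i).pv
  have hma : Commute m (a i) := (F.tm i).pci
  have hmcm : m * c i * m = u * c i := (F.tm i).pai
  have hnun : n * u * n = u * c i := (F.tn i).pu
  have hzn : Commute n z := (F.tn i).pz
  have hzm : Commute m z := (F.tm i).pz
  have hmvm : m * v * m = v * a i := (F.tm i).pu
  have hnan : n * a i * n = v * a i := (F.tn i).pai
  have hnv : Commute n v := (F.tn i).pv
  have hmk : ∀ j, j ≠ i → Commute m (c j) := fun j hj => (F.tm i).pa j hj
  have hna : ∀ k, k ≠ i → Commute n (a k) := fun k hk => (F.tn i).pa k hk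
  have hncj : ∀ j k, j ≠ i → k ≠ i → k ≠ j → n * c j * n = c j * a k := (F.tn i).pc
  have hmak : ∀ j k, j ≠ i → k ≠ i → k ≠ j → m * a k * m = a k * c j := fun j k hj hk hkj =>
    (F.tm i).pc k j hk hj hkj.symm
  have hnj : ∀ j, j ≠ i → Commute n (nn r c j) := fun j hj => (F.levi i j hj).2.1
  have hmj : ∀ j, j ≠ i → Commute m (nn r c j) := fun j hj => (F.levi j i hj.symm).2.2.2.symm
  have hnconj : IsConj z n := (F.tn i).conj
  have hmconj : IsConj z m := (F.tm i).conj
  have hnr : r⁻¹ * n * r = c i := by rw [hn, nn]; group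
  have hwr : r⁻¹ * w * r = u := by rw [hw, ww]; group
  have huw : u * w = r := by
    have : u * w = (u * r * u) * r⁻¹ := by rw [hw, ww]; group
    rw [this, F.A.ru]
    have rri : r * r = r⁻¹ := eq_inv_of_mul_eq_one_left F.A.r3
    calc r⁻¹ * r⁻¹ = (r * r)⁻¹ := by group
      _ = r := by rw [rri, inv_inv]
  have hwconj : IsConj z w := F.A.uconj.trans (isConj_iff.2 ⟨r, rfl⟩)
  have hwzw : w * z * w = z * v := F.wzw
  have hwvw : w * v * w = v := F.wvw
  have hwa : ∀ l, Commute w (a l) := F.wa
  have hwnj : ∀ l, Commute w (nn r c l) := F.wn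
  have hwcw : ∀ l, w * c l * w = c l * nn r c l := F.wcw
  clear_value n m w
  set S := n * m * n with hS
  have hS2 : S * S = 1 := by
    calc n * m * n * (n * m * n) = n * m * (n * n) * m * n := by group
      _ = n * (m * m) * n := by rw [hn2]; group
      _ = 1 := by rw [hm2, mul_one, hn2]
  have hSi : S⁻¹ = S := inv_eq_of_mul_eq_one_right hS2
  have fixc : ∀ {p x : G}, p * p = 1 → Commute p x → p * x * p = x := fun hp h => by
    rw [h.eq, mul_assoc, hp, mul_one]
  have conj2 : ∀ {p x y : G}, p * p = 1 → p * (x * y) * p = (p * x * p) * (p * y * p) := fun {p x y} hp => by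
    calc p * (x * y) * p = p * x * 1 * y * p := by group
      _ = p * x * (p * p) * y * p := by rw [hp]
      _ = _ := by group
  have Sdef : ∀ x, S * x * S = n * (m * (n * x * n) * m) * n := fun x => by
    show n * m * n * x * (n * m * n) = _
    group
  have Sz : S * z * S = z := by rw [Sdef, fixc hn2 hzn, fixc hm2 hzm, fixc hn2 hzn]
  have Sv : S * v * S = a i := by
    rw [Sdef, fixc hn2 hnv, hmvm, conj2 hn2, fixc hn2 hnv, hnan, ← mul_assoc, F.v2, one_mul]
  have Sa : S * a i * S = v := by
    calc S * a i * S = S * (S * v * S) * S := by rw [Sv]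
      _ = (S * S) * v * (S * S) := by group
      _ = v := by rw [hS2, one_mul, mul_one]
  have Su : S * u * S = c i := by
    rw [Sdef, hnun, conj2 hm2, fixc hm2 hmu, hmcm, ← mul_assoc u u, F.A.u2, one_mul, fixc hn2 hnc]
  have Sc : S * c i * S = u := by
    calc S * c i * S = S * (S * u * S) * S := by rw [Su]
      _ = (S * S) * u * (S * S) := by group
      _ = u := by rw [hS2, one_mul, mul_one]
  have Sn : S * n * S = m := by
    calc n * m * n * n * (n * m * n) = n * m * (n * n) * n * m * n := by group
      _ = n * (m * n * m) * n := by rw [hn2]; group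
      _ = n * (n * m * n) * n := by rw [show m * n * m = n * m * n from hbr.symm]
      _ = (n * n) * m * (n * n) := by group
      _ = m := by rw [hn2, one_mul, mul_one]
  have Sm : S * m * S = n := by
    calc S * m * S = S * (S * n * S) * S := by rw [Sn]
      _ = (S * S) * n * (S * S) := by group
      _ = n := by rw [hS2, one_mul, mul_one]
  have Snj : ∀ j, j ≠ i → Commute S (nn r c j) := fun j hj =>
    ((hnj j hj).mul_left (hmj j hj)).mul_left (hnj j hj)
  have Scj : ∀ j k, j ≠ i → k ≠ i → k ≠ j → S * c j * S = a k := by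
    intro j k hj hk hkj
    have e1 : m * c j * m = c j := fixc hm2 (hmk j hj)
    have e2 : m * a k * m = a k * c j := hmak j k hj hk hkj
    rw [Sdef, hncj j k hj hk hkj, conj2 hm2, e1, e2, (F.comm_ac hkj.symm).eq,
      ← mul_assoc (c j), F.c2, one_mul, fixc hn2 (hna k hk)]
  -- transport into `Q`
  let Θ : G →* G := (MulAut.conj (r⁻¹ * S)).toMonoidHom
  have hΘ : ∀ x, Θ x = r⁻¹ * (S * x * S) * r := fun x => by
    show r⁻¹ * S * x * (r⁻¹ * S)⁻¹ = _
    rw [mul_inv_rev, inv_inv, hSi]; group
  have hΘi : Function.Injective Θ := (MulAut.conj (r⁻¹ * S)).injective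
  have hrv : r⁻¹ * v * r = z := by rw [← F.A.rz]; group
  have hrz : r⁻¹ * z * r = z * v := by
    calc r⁻¹ * z * r = r⁻¹ * (r * (z * v) * r⁻¹) * r := by rw [F.rzv]
      _ = _ := by group
  have hra : ∀ l, r⁻¹ * a l * r = a l := fun l => by
    calc r⁻¹ * a l * r = r⁻¹ * (r * a l * r⁻¹) * r := by rw [F.A.ar]
      _ = _ := by group
  have Ta : Θ (a i) = z := by rw [hΘ, Sa, hrv]
  have Tz : Θ z = z * v := by rw [hΘ, Sz, hrz]
  have Tv : Θ v = a i := by rw [hΘ, Sv, hra]
  have Tm : Θ m = c i := by rw [hΘ, Sm, hnr]
  have Tq : Θ (S * w * S) = u := by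
    rw [hΘ]
    calc r⁻¹ * (S * (S * w * S) * S) * r = r⁻¹ * ((S * S) * w * (S * S)) * r := by group
      _ = u := by rw [hS2, one_mul, mul_one, hwr]
  have Tn : ∀ j, j ≠ i → Θ (nn r c j) = c j := fun j hj => by
    rw [hΘ, fixc hS2 (Snj j hj), nn]; group
  have Tc : ∀ j k, j ≠ i → k ≠ i → k ≠ j → Θ (c j) = a k := fun j k hj hk hkj => by
    rw [hΘ, Scj j k hj hk hkj, hra]
  have conjQ : ∀ p x, Commute p (a i) → Θ x ∈ Q → Θ (p * x * p⁻¹) ∈ Q := fun p x hp hx => by
    rw [map_mul, map_mul, map_inv]
    refine F.H.conjQ (mem_Cz.2 ?_) hx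
    rw [← Ta, ← map_mul, ← map_mul, hp.eq]
  have hwi : w⁻¹ = w := inv_eq_of_mul_eq_one_right hw2
  have hui : u⁻¹ = u := inv_eq_of_mul_eq_one_right F.A.u2
  set q := S * w * S with hq
  have hq2 : q * q = 1 := by
    calc S * w * S * (S * w * S) = S * w * (S * S) * w * S := by group
      _ = 1 := by rw [hS2, mul_one, mul_assoc S w w, hw2, mul_one, hS2]
  have hqz : q * z * q = z * a i := by
    calc S * w * S * z * (S * w * S) = S * (w * (S * z * S) * w) * S := by group
      _ = S * (z * v) * S := by rw [Sz, hwzw]
      _ = _ := by rw [conj2 hS2, Sz, Sv]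
  have hqv : q * v * q = v := by
    calc S * w * S * v * (S * w * S) = S * (w * (S * v * S) * w) * S := by group
      _ = v := by rw [Sv, fixc hw2 (hwa i), Sa]
  have hqj : ∀ j, j ≠ i → Commute q (c j) ∧ Commute q (nn r c j) := by
    intro j hj
    obtain ⟨k, hk, hkj, -⟩ := third i j hj
    refine ⟨?_, ((Snj j hj).mul_left (hwnj j)).mul_left (Snj j hj)⟩
    have e : S * a k * S = c j := by
      calc S * a k * S = S * (S * c j * S) * S := by rw [Scj j k hj hk hkj]
        _ = (S * S) * c j * (S * S) := by group
        _ = c j := by rw [hS2, one_mul, mul_one]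
    show S * w * S * c j = c j * (S * w * S)
    calc S * w * S * c j = S * w * (S * c j * S) * S := by
          calc S * w * S * c j = S * w * S * c j * (S * S) := by rw [hS2, mul_one]
            _ = _ := by group
      _ = S * (w * a k) * S := by rw [Scj j k hj hk hkj]; group
      _ = S * a k * w * S := by rw [(hwa k).eq]; group
      _ = S * a k * (S * S) * w * S := by rw [hS2, mul_one]
      _ = _ := by rw [← e]; group
  have hqa : Commute q (a i) := by
    show q * a i = a i * q
    have hwv : w * v = v * w := by
      calc w * v = w * v * (w * w) := by rw [hw2, mul_one]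
        _ = (w * v * w) * w := by group
        _ = v * w := by rw [hwvw]
    calc q * a i = S * w * S * (S * v * S) := by rw [hq, Sv]
      _ = S * w * (S * S) * v * S := by group
      _ = S * (w * v) * S := by rw [hS2, mul_one]; group
      _ = S * v * 1 * w * S := by rw [hwv]; group
      _ = S * v * (S * S) * w * S := by rw [hS2]
      _ = (S * v * S) * (S * w * S) := by group
      _ = _ := by rw [Sv, hq]
  have qn : n * q * n = (n * n) * m * (n * w * n) * m * (n * n) := by rw [hq, hS]; group
  have qconj : IsConj z q := hwconj.trans (isConj_iff.2 ⟨S, by rw [hSi, hq]⟩)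
  clear_value q
  -- the class of such an element
  have key : ∀ X : G, Θ X ∈ Q → IsConj z X → X * X = 1 → X * z * X = z * a i → X * v * X = v * a i →
      (∀ j, j ≠ i → Commute X (c j) ∧ Commute X (nn r c j)) →
      X = q * m ∨ X = a i * (q * m) := by
    intro X hX hXc hX2 hXz hXv hXj
    have hXi : (Θ X)⁻¹ = Θ X := inv_eq_of_mul_eq_one_right (by rw [← map_mul, hX2, map_one])
    have h1 : Θ X * (z * v) * Θ X = (z * v) * z := by
      rw [← Tz, ← map_mul, ← map_mul, hXz, map_mul, Ta]
    have h2 : Θ X * a i * Θ X = a i * z := by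
      rw [← Tv, ← map_mul, ← map_mul, hXv, map_mul, Ta]
    have hzvQ : z * v ∈ Q := Q.mul_mem F.H.zQ F.A.vQ
    obtain ⟨b, hb⟩ := ((F.C.root_class F.H hX (hXc.trans (isConj_iff.2 ⟨r⁻¹ * S, rfl⟩))).resolve_left
      fun e => by
        rw [e] at h1
        exact F.H.zne (mul_eq_right.1 (mul_right_cancel h1)))
    have hcv : cl Q (z * v) = κ (pnt 0) := by rw [cl_mul F.H.zQ F.A.vQ, F.H.cl_z, one_mul, F.A.cv]
    have hb1 : bV (pnt b) (pnt 0) = 1 := by
      by_contra h0
      have hc' := (F.C.comm_iff F.H hX hzvQ hb hcv).2 (by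
        revert h0; generalize bV (pnt b) (pnt 0) = t; revert t; decide)
      rw [hc', mul_assoc, ← map_mul, hX2, map_one, mul_one, left_eq_mul] at h1
      exact F.H.zne h1
    have hb2 : bV (pnt b) (pnt (xA i)) = 1 := by
      by_contra h0
      have hc' := (F.C.comm_iff F.H hX (F.A.aQ i) hb (F.A.ca i)).2 (by
        revert h0; generalize bV (pnt b) (pnt (xA i)) = t; revert t; decide)
      rw [hc', mul_assoc, ← map_mul, hX2, map_one, mul_one, left_eq_mul] at h2
      exact F.H.zne h2
    have hb3 : ∀ j, j ≠ i → bV (pnt b) (pnt (xC j)) = 0 ∧ bV (pnt b) (pnt (xA j)) = 0 := by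
      intro j hj
      obtain ⟨k, hk, hkj, -⟩ := third i j hj
      constructor
      · refine (F.C.comm_iff F.H hX (F.B.aQ j) hb (F.cc j)).1 ?_
        rw [← Tn j hj, ← map_mul, ← map_mul, ((hXj j hj).2).eq]
      · refine (F.C.comm_iff F.H hX (F.A.aQ j) hb (F.A.ca j)).1 ?_
        rw [← Tc k j hk hj hkj.symm, ← map_mul, ← map_mul, ((hXj k hk).1).eq]
    have hqm : Θ (q * m) = u * c i := by rw [map_mul, Tq, Tm]
    rcases F.C.eq_or F.H hX (Q.mul_mem F.A.uQ (F.B.aQ i)) (by rw [hb, braid_idx i b hb1 hb2 hb3])
        (F.C.cl_mul' F.H F.A.uQ (F.B.aQ i) F.A.cu (F.cc i)) with e | e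
    · exact Or.inl (hΘi (e.trans hqm.symm))
    · exact Or.inr (hΘi (by rw [e, map_mul (Θ) (a i), Ta, hqm]))
  have hqm : Commute q m := hΘi (by rw [map_mul, map_mul, Tq, Tm, (F.comm_uc i).eq])
  have hwm : w * m * w = q * m := by
    rcases key (w * m * w) (by
        have := conjQ w m (hwa i) (Tm.symm ▸ F.B.aQ i)
        rwa [hwi] at this)
      (hmconj.trans (isConj_iff.2 ⟨w, by rw [hwi]⟩))
      (by calc w * m * w * (w * m * w) = w * m * (w * w) * m * w := by group
            _ = 1 := by rw [hw2, mul_one, mul_assoc w m m, hm2, mul_one, hw2])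
      (by calc w * m * w * z * (w * m * w) = w * (m * (w * z * w) * m) * w := by group
            _ = w * (z * (v * a i)) * w := by rw [hwzw, conj2 hm2, fixc hm2 hzm, hmvm]
            _ = _ := by
              rw [conj2 hw2, conj2 hw2, hwzw, hwvw, fixc hw2 (hwa i), mul_assoc, ← mul_assoc v v, F.v2, one_mul])
      (by calc w * m * w * v * (w * m * w) = w * (m * (w * v * w) * m) * w := by group
            _ = w * (v * a i) * w := by rw [hwvw, hmvm]
            _ = _ := by rw [conj2 hw2, hwvw, fixc hw2 (hwa i)])
      (fun j hj => by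
        have hmn : Commute m (nn r c j) := hmj j hj
        have hmc : Commute m (c j) := hmk j hj
        constructor
        · show w * m * w * c j = c j * (w * m * w)
          calc w * m * w * c j = w * m * (w * c j * w) * w := by
                calc w * m * w * c j = w * m * w * c j * (w * w) := by rw [hw2, mul_one]
                  _ = _ := by group
            _ = w * (m * (c j * nn r c j)) * w := by rw [hwcw]; group
            _ = w * (c j * nn r c j * m) * w := by rw [(hmc.mul_right hmn).eq]
            _ = w * (w * c j * w * m) * w := by rw [hwcw]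
            _ = (w * w) * c j * (w * m * w) := by group
            _ = _ := by rw [hw2, one_mul]
        · exact ((hwnj j).mul_left hmn).mul_left (hwnj j)) with e | e
    · exact e
    · exfalso
      have e1 : n * q * n = w * (a i * q) := by
        calc n * q * n = (n * n) * m * (n * w * n) * m * (n * n) := qn
          _ = m * w * m := by rw [hn2, one_mul, mul_one, fixc hn2 hwn.symm]
          _ = (w * w) * m * w * m := by rw [hw2, one_mul]
          _ = w * (w * m * w) * m := by group
          _ = w * (a i * q) * (m * m) := by rw [e]; group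
          _ = _ := by rw [hm2, mul_one]
      have e2 : q = v * q := by
        calc q = (n * n) * q * (n * n) := by rw [hn2, one_mul, mul_one]
          _ = n * (n * q * n) * n := by group
          _ = n * (w * (a i * q)) * n := by rw [e1]
          _ = (n * w * n) * ((n * a i * n) * (n * q * n)) := by rw [conj2 hn2, conj2 hn2]
          _ = w * (v * a i) * w * (a i * q) := by rw [fixc hn2 hwn.symm, hnan, e1]; group
          _ = v * q := by
            rw [conj2 hw2, hwvw, fixc hw2 (hwa i), mul_assoc, ← mul_assoc (a i), F.a2, one_mul]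
      exact (F.H.st.conj r).ne_one (by rw [F.A.rz]; exact right_eq_mul.1 e2)
  have e1 : n * q * n = w * q := by
    calc n * q * n = (n * n) * m * (n * w * n) * m * (n * n) := qn
      _ = m * w * m := by rw [hn2, one_mul, mul_one, fixc hn2 hwn.symm]
      _ = (w * w) * m * w * m := by rw [hw2, one_mul]
      _ = w * (w * m * w) * m := by group
      _ = w * q * (m * m) := by rw [hwm]; group
      _ = _ := by rw [hm2, mul_one]
  have hqw : Commute q w := by
    have h : (w * q) * (w * q) = 1 := by
      rw [← e1]
      calc n * q * n * (n * q * n) = n * q * (n * n) * q * n := by group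
        _ = 1 := by rw [hn2, mul_one, mul_assoc n q q, hq2, mul_one, hn2]
    calc q * w = q⁻¹ * w⁻¹ := by rw [inv_eq_of_mul_eq_one_right hq2, hwi]
      _ = (w * q)⁻¹ := (mul_inv_rev _ _).symm
      _ = w * q := inv_eq_of_mul_eq_one_right h
  have huq : u * q * u = q * m := by
    rcases key (u * q * u) (by
        have := conjQ u q (F.comm_ua i) (Tq.symm ▸ F.A.uQ)
        rwa [hui] at this)
      (qconj.trans (isConj_iff.2 ⟨u, by rw [hui]⟩))
      (by calc u * q * u * (u * q * u) = u * q * (u * u) * q * u := by group
            _ = 1 := by rw [F.A.u2, mul_one, mul_assoc u q q, hq2, mul_one, F.A.u2])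
      (by calc u * q * u * z * (u * q * u) = u * (q * (u * z * u) * q) * u := by group
            _ = u * (z * a i) * u := by
              rw [show u * z * u = z from fixc F.A.u2 (F.H.st.z_comm F.A.uQ), hqz]
            _ = _ := fixc F.A.u2 ((show Commute u z from F.H.st.z_comm F.A.uQ).mul_right (F.comm_ua i)))
      (by calc u * q * u * v * (u * q * u) = u * (q * (u * v * u) * q) * u := by group
            _ = u * (z * a i * v) * u := by rw [F.A.uv, conj2 hq2, hqz, hqv]
            _ = (u * (z * a i) * u) * (u * v * u) := conj2 F.A.u2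
            _ = (z * a i) * (z * v) := by
              rw [fixc F.A.u2 ((show Commute u z from F.H.st.z_comm F.A.uQ).mul_right (F.comm_ua i)), F.A.uv]
            _ = z * (a i * z) * v := by group
            _ = z * z * (a i * v) := by rw [F.H.st.z_comm (F.A.aQ i)]; group
            _ = _ := by rw [F.H.z2, one_mul, (F.comm_va i).eq])
      (fun j hj => by
        constructor
        · exact (((F.comm_uc j)).mul_left (hqj j hj).1).mul_left (F.comm_uc j)
        · show u * q * u * nn r c j = nn r c j * (u * q * u)
          calc u * q * u * nn r c j = u * q * (u * nn r c j * u) * u := by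
                calc u * q * u * nn r c j = u * q * u * nn r c j * (u * u) := by rw [F.A.u2, mul_one]
                  _ = _ := by group
            _ = u * (q * (c j * nn r c j)) * u := by rw [F.unu]; group
            _ = u * (c j * nn r c j * q) * u := by rw [((hqj j hj).1.mul_right (hqj j hj).2).eq]
            _ = u * (u * nn r c j * u * q) * u := by rw [F.unu]
            _ = (u * u) * nn r c j * (u * q * u) := by group
            _ = _ := by rw [F.A.u2, one_mul]) with e | e
    · exact e
    · exfalso
      have hbrq : q * c i * q = c i * q * c i := by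
        have h : w * u * w = u * w * u := by
          have h3 : u * w * (u * w) * (u * w) = 1 := by
            rw [huw]; exact F.A.r3
          calc w * u * w = u⁻¹ * (u * w * (u * w) * (u * w)) * w⁻¹ * u⁻¹ := by group
            _ = u * w * u := by rw [h3, hwi, hui]; group
        have := congrArg (fun t => S * t * S) h
        rw [conj2 hS2, conj2 hS2, conj2 hS2, conj2 hS2, Su] at this
        rw [hq]
        exact this
      have hcmc : c i * m * c i = m * u := by
        calc c i * m * c i = (m * m) * c i * m * c i := by rw [hm2, one_mul]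
          _ = m * (m * c i * m) * c i := by group
          _ = m * u * (c i * c i) := by rw [hmcm]; group
          _ = _ := by rw [F.c2, mul_one]
      have hcz : Commute (c i) z := F.H.st.z_comm (F.B.aQ i)
      have hcac := F.cac i
      -- two evaluations
      have ev1 : u * (c i * q * c i) * u = z * a i * (c i * q * c i) * (m * u) := by
        calc u * (c i * q * c i) * u = (u * c i) * q * (c i * u) := by group
          _ = (c i * u) * q * (u * c i) := by rw [(F.comm_uc i).eq]
          _ = c i * (u * q * u) * c i := by group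
          _ = (c i * a i * c i) * (c i * q * c i) * (c i * m * c i) := by
            rw [e]
            calc c i * (a i * (q * m)) * c i
                = c i * a i * 1 * q * 1 * m * c i := by group
              _ = c i * a i * (c i * c i) * q * (c i * c i) * m * c i := by rw [F.c2]
              _ = _ := by group
          _ = _ := by rw [hcac, hcmc]
      have hzu : Commute u z := F.H.st.z_comm F.A.uQ
      have ev2 : u * (q * c i * q) * u = z * a i * (q * u * c i * q) := by
        have hmq' : m * c i = u * c i * m := by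
          calc m * c i = m * c i * (m * m) := by rw [hm2, mul_one]
            _ = (m * c i * m) * m := by group
            _ = _ := by rw [hmcm]
        calc u * (q * c i * q) * u = (u * q * u) * (u * c i * u) * (u * q * u) := by
              calc u * (q * c i * q) * u = u * q * 1 * c i * 1 * q * u := by group
                _ = u * q * (u * u) * c i * (u * u) * q * u := by rw [F.A.u2]
                _ = _ := by group
          _ = a i * q * (m * c i) * (a i * (q * m)) := by
              rw [e, fixc F.A.u2 (F.comm_uc i)]; group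
          _ = a i * q * u * c i * (m * a i) * (q * m) := by rw [hmq']; group
          _ = a i * q * u * c i * a i * (m * q) * m := by rw [hma.eq]; group
          _ = a i * q * u * (c i * a i) * q * (m * m) := by rw [← hqm.eq]; group
          _ = a i * q * u * (z * a i * c i) * q := by
              rw [hm2, mul_one]
              congr 2
              calc c i * a i = c i * a i * (c i * c i) := by rw [F.c2, mul_one]
                _ = (c i * a i * c i) * c i := by group
                _ = _ := by rw [hcac]
          _ = a i * q * ((u * z) * a i) * c i * q := by group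
          _ = a i * q * (z * (u * a i)) * c i * q := by rw [hzu.eq]; group
          _ = a i * (q * z * q) * (q * a i) * u * c i * q := by
              rw [(F.comm_ua i).eq]
              calc a i * q * (z * (a i * u)) * c i * q = a i * q * z * 1 * a i * u * c i * q := by group
                _ = a i * q * z * (q * q) * a i * u * c i * q := by rw [hq2]
                _ = _ := by group
          _ = a i * (z * a i) * a i * (q * u * c i * q) := by rw [hqz, hqa.eq]; group
          _ = (a i * z) * (a i * a i) * (q * u * c i * q) := by group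
          _ = _ := by rw [F.a2, mul_one, F.H.st.z_comm (F.A.aQ i)]
      rw [← hbrq, ev2] at ev1
      have e3 : q * u * c i * q = q * c i * q * (m * u) := by
        have := mul_left_cancel (a := z * a i) (ev1.trans (mul_assoc _ _ _))
        exact this
      have e4 : u * q = q * (m * u) := by
        have : u * c i * q = c i * q * (m * u) := by
          apply mul_left_cancel (a := q)
          calc q * (u * c i * q) = q * u * c i * q := by group
            _ = _ := by rw [e3]; group
        rw [(F.comm_uc i).eq] at this
        apply mul_left_cancel (a := c i)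
        calc c i * (u * q) = c i * u * q := by group
          _ = _ := by rw [this]; group
      have e5 : u * q * u = q * m := by
        rw [e4]
        calc q * (m * u) * u = q * m * (u * u) := by group
          _ = _ := by rw [F.A.u2, mul_one]
      rw [e5] at e
      have : a i = 1 := (mul_eq_right.1 e.symm)
      have h2 := F.A.ca i
      rw [this, cl_one, ← F.C.zero F.H] at h2
      exact pnt_ne _ (F.C.bij.1 h2).symm
  refine ⟨hn2, hm2, F.A.u2, hw2, F.c2 i, hq2, hnc, hmu, hqw, hqm.symm, hwn.symm, (F.comm_uc i).symm,
    ?_, ?_, ?_, ?_, ?_, ?_⟩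
  · rw [hnun, mul_assoc, (F.comm_uc i).symm.eq, ← mul_assoc, F.A.u2, one_mul]
  · rw [hmcm, mul_assoc, F.c2, mul_one]
  · calc c i * w * c i * w = c i * (w * c i * w) := by group
      _ = n := by rw [hwcw, ← mul_assoc, F.c2, one_mul, hn]
  · calc q * n * q * n = q * (n * q * n) := by group
      _ = w := by rw [e1, ← mul_assoc, hqw.eq, mul_assoc, hq2, mul_one]
  · calc u * q * u * q = (u * q * u) * q := by group
      _ = m := by rw [huq, hqm.eq, mul_assoc, hq2, mul_one]
  · calc w * m * w * m = (w * m * w) * m := by group
      _ = q := by rw [hwm, mul_assoc, hm2, mul_one]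

end Fr

end CfsgLib.OmegaEightCent
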