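import Cfsg.Agent.Lib.OmegaEightCent.Model

/-!
The tensor product of three natural modules for `Sym 3`, in coordinates.
-/

set_option autoImplicit false
set_option linter.unusedSectionVars false
set_option synthInstance.maxSize 2000
set_option synthInstance.maxHeartbeats 400000

namespace CfsgLib.OmegaEightCent

open Equiv (Perm swap)

/-- the natural module -/
abbrev V2 : Type := ZMod 2 × ZMod 2

/-- two factors -/
abbrev V4 : Type := V2 × V2

/-- three factors -/
abbrev V8 : Type := V4 × V4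

/-- the tensor with one of the three nonzero vectors -/
def cpt {W : Type*} [Zero W] (k : Fin 3) (A : W) : W × W :=
  (if k = 1 then 0 else A, if k = 0 then 0 else A)

/-- the map given by a permutation of the three nonzero vectors -/
def lin {W : Type*} [AddZeroClass W] (σ : S3) (p : W × W) : W × W := cpt (σ 0) p.1 + cpt (σ 1) p.2

/-- the action on two factors -/
def act4 (σ τ : S3) (x : V4) : V4 := lin σ (lin τ x.1, lin τ x.2)

/-- the action -/
def act (m : M0) (x : V8) : V8 := lin (m 0) (act4 (m 1) (m 2) x.1, act4 (m 1) (m 2) x.2)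

/-- a tensor of three vectors -/
def pnt (a : Fin 3 → Fin 3) : V8 := cpt (a 0) (cpt (a 1) (cpt (a 2) (1 : ZMod 2)))

/-- the commutator form on two factors -/
def b4 (x y : V4) : ZMod 2 :=
  (x.1.1 * y.2.2 + x.1.2 * y.2.1) + (x.2.1 * y.1.2 + x.2.2 * y.1.1)

/-- the commutator form -/
def bV (x y : V8) : ZMod 2 := b4 x.1 y.2 + b4 x.2 y.1

/-- the squaring form -/
def qV (x : V8) : ZMod 2 := b4 x.1 x.2

section Generic

variable {W : Type*} [AddCommGroup W]

theorem cpt_add (k : Fin 3) (A B : W) : cpt k (A + B) = cpt k A + cpt k B := by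
  unfold cpt
  split_ifs <;> simp

theorem cpt_zero (k : Fin 3) : cpt k (0 : W) = 0 := by
  unfold cpt
  split_ifs <;> simp

theorem lin_add (σ : S3) (p q : W × W) : lin σ (p + q) = lin σ p + lin σ q := by
  unfold lin
  rw [Prod.fst_add, Prod.snd_add, cpt_add, cpt_add]
  abel

theorem s3_third : ∀ (σ : S3) (j : Fin 3), j = σ 0 ∨ j = σ 1 ∨ j = σ 2 := by decide +kernel

theorem lin_cpt (h2 : ∀ A : W, A + A = 0) (σ : S3) (k : Fin 3) (A : W) :
    lin σ (cpt k A) = cpt (σ k) A := by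
  have hs : σ 0 ≠ σ 1 ∧ σ 0 ≠ σ 2 ∧ σ 1 ≠ σ 2 :=
    ⟨σ.injective.ne (by decide), σ.injective.ne (by decide), σ.injective.ne (by decide)⟩
  obtain rfl | rfl | rfl : k = 0 ∨ k = 1 ∨ k = 2 := by revert k; decide
  · simp [lin, cpt]
  · simp [lin, cpt]
  · obtain ⟨h01, h02, h12⟩ := hs
    rcases (show σ 0 = 0 ∨ σ 0 = 1 ∨ σ 0 = 2 by generalize σ 0 = a; revert a; decide) with e0 | e0 | e0 <;>
      rcases (show σ 1 = 0 ∨ σ 1 = 1 ∨ σ 1 = 2 by generalize σ 1 = a; revert a; decide) with e1 | e1 | e1 <;>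
      rcases (show σ 2 = 0 ∨ σ 2 = 1 ∨ σ 2 = 2 by generalize σ 2 = a; revert a; decide) with e2 | e2 | e2 <;>
      simp [lin, cpt, e0, e1, e2, h2] at h01 h02 h12 ⊢

theorem pair_decomp (x : W × W) : x = cpt 0 x.1 + cpt 1 x.2 := by
  obtain ⟨a, b⟩ := x
  simp [cpt]

end Generic

theorem two8 : ∀ x : V8, x + x = 0 := by decide +kernel

theorem two4 : ∀ x : V4, x + x = 0 := by decide +kernel

theorem two2 : ∀ x : V2, x + x = 0 := by decide +kernel

theorem act4_add (σ τ : S3) (x y : V4) : act4 σ τ (x + y) = act4 σ τ x + act4 σ τ y := by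
  rw [act4, act4, act4, Prod.fst_add, Prod.snd_add, lin_add, lin_add, ← lin_add σ]
  rfl

theorem act_add (m : M0) (x y : V8) : act m (x + y) = act m x + act m y := by
  rw [act, act, act, Prod.fst_add, Prod.snd_add, act4_add, act4_add, ← lin_add (m 0)]
  rfl

/-- the action as a homomorphism -/
def actHom (m : M0) : V8 →+ V8 := AddMonoidHom.mk' (act m) (act_add m)

theorem act4_pnt (σ τ : S3) (b c : Fin 3) :
    act4 σ τ (cpt b (cpt c (1 : ZMod 2))) = cpt (σ b) (cpt (τ c) 1) := by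
  have h : ∀ k (A : V2), (lin τ (cpt k A).1, lin τ (cpt k A).2) = cpt k (lin τ A) := fun k A => by
    have : lin τ (0 : V2) = 0 := by simp [lin, cpt_zero]
    unfold cpt
    split_ifs <;> simp [this]
  rw [act4, h, lin_cpt two2, lin_cpt (fun A => CharTwo.add_self_eq_zero A)]

theorem act_pnt (m : M0) (a : Fin 3 → Fin 3) : act m (pnt a) = pnt fun i => m i (a i) := by
  have h : ∀ k (A : V4), (act4 (m 1) (m 2) (cpt k A).1, act4 (m 1) (m 2) (cpt k A).2) =
      cpt k (act4 (m 1) (m 2) A) := fun k A => by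
    have : act4 (m 1) (m 2) (0 : V4) = 0 := by simp [act4, lin, cpt_zero]
    unfold cpt
    split_ifs <;> simp [this]
  rw [act, pnt, h, lin_cpt two4, act4_pnt]
  rfl

/-- homomorphisms agreeing on the eight basic tensors are equal -/
theorem hom_ext {A : Type*} [AddCommGroup A] {f g : V8 →+ A}
    (h : ∀ a : Fin 3 → Fin 3, (∀ i, a i ≠ 2) → f (pnt a) = g (pnt a)) (x : V8) : f x = g x := by
  have key : ∀ (a b c : Fin 3), a ≠ 2 → b ≠ 2 → c ≠ 2 → ∀ t : ZMod 2,
      f (cpt a (cpt b (cpt c t))) = g (cpt a (cpt b (cpt c t))) := by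
    intro a b c ha hb hc t
    rcases (show t = 0 ∨ t = 1 by revert t; decide) with rfl | rfl
    · simp only [cpt_zero, map_zero]
    · exact h ![a, b, c] fun i => by
        rcases (show i = 0 ∨ i = 1 ∨ i = 2 by revert i; decide) with rfl | rfl | rfl <;> assumption
  have k2 : ∀ (a b : Fin 3), a ≠ 2 → b ≠ 2 → ∀ y : V2, f (cpt a (cpt b y)) = g (cpt a (cpt b y)) := by
    intro a b ha hb y
    rw [pair_decomp y, cpt_add, cpt_add, map_add, map_add, key a b 0 ha hb (by decide),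
      key a b 1 ha hb (by decide)]
  have k1 : ∀ (a : Fin 3), a ≠ 2 → ∀ y : V4, f (cpt a y) = g (cpt a y) := by
    intro a ha y
    rw [pair_decomp y, cpt_add, map_add, map_add, k2 a 0 ha (by decide), k2 a 1 ha (by decide)]
  rw [pair_decomp x, map_add, map_add, k1 0 (by decide), k1 1 (by decide)]

/-- the fixed vectors of the standard Sylow subgroup -/
theorem fixed_tt : ∀ x : V8, act (sgl 0 tt) x = x → act (sgl 1 tt) x = x → act (sgl 2 tt) x = x →
    x = 0 ∨ x = pnt 0 := by decide +kernel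

/-- the commutator with a standard transposition -/
def dl (i : Fin 3) (x : V8) : V8 := act (sgl i tt) x + x

/-- some commutators of a nonzero vector -/
theorem reach : ∀ x : V8, x ≠ 0 → ∃ s : Bool × Bool × Bool,
    (fun y => bif s.1 then dl 0 y else y) ((fun y => bif s.2.1 then dl 1 y else y)
      (bif s.2.2 then dl 2 x else x)) = pnt 0 := by decide +kernel

theorem bV_add_left : ∀ x y w : V8, bV (x + y) w = bV x w + bV y w := by
  rintro ⟨⟨⟨_, _⟩, _, _⟩, ⟨_, _⟩, _, _⟩ ⟨⟨⟨_, _⟩, _, _⟩, ⟨_, _⟩, _, _⟩ ⟨⟨⟨_, _⟩, _, _⟩, ⟨_, _⟩, _, _⟩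
  simp only [bV, b4, Prod.mk_add_mk]
  ring

theorem bV_symm : ∀ x y : V8, bV x y = bV y x := by
  rintro ⟨⟨⟨_, _⟩, _, _⟩, ⟨_, _⟩, _, _⟩ ⟨⟨⟨_, _⟩, _, _⟩, ⟨_, _⟩, _, _⟩
  simp only [bV, b4]
  ring

theorem qV_add : ∀ x y : V8, qV (x + y) = qV x + qV y + bV x y := by
  rintro ⟨⟨⟨_, _⟩, _, _⟩, ⟨_, _⟩, _, _⟩ ⟨⟨⟨_, _⟩, _, _⟩, ⟨_, _⟩, _, _⟩
  simp only [qV, bV, b4, Prod.mk_add_mk]
  ring

theorem qV_pnt : ∀ a : Fin 3 → Fin 3, qV (pnt a) = 0 := by decide +kernel

theorem bV_pnt : ∀ a b : Fin 3 → Fin 3, bV (pnt a) (pnt b) =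
    if a 0 ≠ b 0 ∧ a 1 ≠ b 1 ∧ a 2 ≠ b 2 then 1 else 0 := by decide +kernel

theorem pnt_ne : ∀ a : Fin 3 → Fin 3, pnt a ≠ 0 := by decide +kernel

theorem pnt_inj : ∀ a b : Fin 3 → Fin 3, pnt a = pnt b → a = b := by decide +kernel

end CfsgLib.OmegaEightCent
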