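import Mathlib

/-!
A faithful module of order at most `256` for `Sym 3 × Sym 3 × Sym 3` with a vector fixed by the standard
Sylow subgroup and lying in all its commutator spaces: the three elements of order three act without fixed
points.
-/

set_option autoImplicit false
set_option linter.unusedSectionVars false
set_option linter.style.haveILetI false

namespace CfsgLib.OmegaEightCent.Tensor

variable {V : Type*} [AddCommGroup V]

/-- the relations and the special vector -/
structure Sys (R S : Fin 3 → (V →+ V)) (v : V) : Prop where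
  two : ∀ x : V, x + x = 0
  r3 : ∀ i x, R i (R i (R i x)) = x
  s2 : ∀ i x, S i (S i x) = x
  flip : ∀ i x, S i (R i x) = R i (R i (S i x))
  rr : ∀ i j x, R i (R j x) = R j (R i x)
  ss : ∀ i j x, S i (S j x) = S j (S i x)
  sr : ∀ i j, i ≠ j → ∀ x, S i (R j x) = R j (S i x)
  fix : ∀ i, S i v = v
  move : ∀ i, R i v ≠ v
  one : ∀ i, ∃ w, S i w + w = v
  pair : ∀ i j, i ≠ j → ∃ w, S i (S j w) + w = v

variable {R S : Fin 3 → (V →+ V)} {v : V} (H : Sys R S v)

/-- the projection on one type -/
def pr (R : Fin 3 → (V →+ V)) (b : Bool) (i : Fin 3) (x : V) : V :=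
  bif b then R i x + R i (R i x) else x + (R i x + R i (R i x))

/-- the projection on a component -/
def prj (R : Fin 3 → (V →+ V)) (K : Fin 3 → Bool) (x : V) : V :=
  pr R (K 0) 0 (pr R (K 1) 1 (pr R (K 2) 2 x))

/-- being of one type at one coordinate -/
def InOne (R : Fin 3 → (V →+ V)) (b : Bool) (i : Fin 3) (x : V) : Prop :=
  bif b then x + R i x + R i (R i x) = 0 else R i x = x

/-- being in a component -/
def InK (R : Fin 3 → (V →+ V)) (K : Fin 3 → Bool) (x : V) : Prop := ∀ i, InOne R (K i) i x

/-- being in the fixed part of a component -/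
def InM (R S : Fin 3 → (V →+ V)) (K : Fin 3 → Bool) (x : V) : Prop :=
  InK R K x ∧ ∀ i, K i = true → S i x = x

/-- the averaged element -/
def av (R S : Fin 3 → (V →+ V)) (b : Bool) (i : Fin 3) (x : V) : V :=
  bif b then x + R i (x + S i x) else x

/-- the averaged element at all coordinates -/
def avK (R S : Fin 3 → (V →+ V)) (K : Fin 3 → Bool) (x : V) : V :=
  av R S (K 0) 0 (av R S (K 1) 1 (av R S (K 2) 2 x))

namespace Sys

include H

theorem neg_eq (x : V) : -x = x := neg_eq_of_add_eq_zero_left (H.two x)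

theorem eq_of_add {x y : V} (h : x + y = 0) : x = y := by
  rw [eq_neg_of_add_eq_zero_left h, H.neg_eq]

theorem add_add (x y : V) : x + (x + y) = y := by rw [← add_assoc, H.two, zero_add]

theorem pr_R (b : Bool) (i j : Fin 3) (x : V) : R j (pr R b i x) = pr R b i (R j x) := by
  cases b <;> simp [pr, H.rr j i]

theorem pr_S (b : Bool) (i j : Fin 3) (x : V) : S j (pr R b i x) = pr R b i (S j x) := by
  by_cases h : j = i
  · subst h
    cases b <;> simp only [pr, cond_false, cond_true, map_add, H.flip, H.r3] <;> abel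
  · cases b <;> simp [pr, H.sr j i h]

theorem pr_in (b : Bool) (i : Fin 3) (x : V) : InOne R b i (pr R b i x) := by
  cases b
  · show R i (x + (R i x + R i (R i x))) = x + (R i x + R i (R i x))
    simp only [map_add, H.r3]
    abel
  · show _ + _ + _ = (0 : V)
    simp only [pr, cond_true, map_add, H.r3]
    calc _ = (R i x + R i x) + (R i (R i x) + R i (R i x)) + (x + x) := by abel
      _ = 0 := by simp only [H.two]

theorem pr_fix {b : Bool} {i : Fin 3} {x : V} (h : InOne R b i x) : pr R b i x = x := by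
  cases b
  · have h : R i x = x := h
    simp [pr, h, H.two]
  · have h : x + R i x + R i (R i x) = 0 := h
    rw [add_assoc] at h
    exact (H.eq_of_add h).symm

theorem pr_kill {b c : Bool} (hbc : b ≠ c) {i : Fin 3} {x : V} (h : InOne R b i x) : pr R c i x = 0 := by
  cases b <;> cases c <;> first | exact absurd rfl hbc | skip
  · have h : R i x = x := h
    simp [pr, h, H.two]
  · have h : x + R i x + R i (R i x) = 0 := h
    simpa [pr, add_assoc] using h

theorem pr_keep {b c : Bool} {i j : Fin 3} {x : V} (h : InOne R b i x) : InOne R b i (pr R c j x) := by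
  have e : ∀ y, R i (pr R c j y) = pr R c j (R i y) := fun y => H.pr_R c j i y
  cases b
  · show R i _ = _
    rw [e, show R i x = x from h]
  · show _ + _ + _ = (0 : V)
    rw [e, e]
    have h : x + R i x + R i (R i x) = 0 := h
    have hadd : ∀ y z, pr R c j (y + z) = pr R c j y + pr R c j z := fun y z => by
      cases c <;> simp [pr] <;> abel
    rw [← hadd, ← hadd, h]
    cases c <;> simp [pr]

theorem prj_in (K : Fin 3 → Bool) (x : V) : InK R K (prj R K x) := by
  intro i
  fin_cases i
  · exact H.pr_in _ _ _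
  · exact H.pr_keep (H.pr_in _ _ _)
  · exact H.pr_keep (H.pr_keep (H.pr_in _ _ _))

theorem prj_fix {K : Fin 3 → Bool} {x : V} (h : InK R K x) : prj R K x = x := by
  rw [prj, H.pr_fix (h 2), H.pr_fix (h 1), H.pr_fix (h 0)]

theorem prj_kill {K L : Fin 3 → Bool} (hKL : K ≠ L) {x : V} (h : InK R K x) : prj R L x = 0 := by
  obtain ⟨i, hi⟩ := Function.ne_iff.1 hKL
  have hp : ∀ c j, pr R c j (0 : V) = 0 := fun c j => by cases c <;> simp [pr]
  rcases (show i = 0 ∨ i = 1 ∨ i = 2 by clear hi; revert i; decide) with rfl | rfl | rfl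
  · exact H.pr_kill hi (H.pr_keep (H.pr_keep (h 0)))
  · rw [prj, H.pr_kill hi (H.pr_keep (h 1)), hp]
  · rw [prj, H.pr_kill hi (h 2), hp, hp]

theorem prj_add (K : Fin 3 → Bool) (x y : V) : prj R K (x + y) = prj R K x + prj R K y := by
  have hadd : ∀ c j y z, pr R c j (y + z) = pr R c j y + pr R c j z := fun c j y z => by
    cases c <;> simp [pr] <;> abel
  simp only [prj, hadd]

theorem prj_S (K : Fin 3 → Bool) (j : Fin 3) (x : V) : S j (prj R K x) = prj R K (S j x) := by
  simp only [prj, H.pr_S]

theorem in_R {b : Bool} {i j : Fin 3} {x : V} (h : InOne R b i x) : InOne R b i (R j x) := by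
  cases b
  · show R i (R j x) = R j x
    rw [H.rr i j, show R i x = x from h]
  · show _ + _ + _ = (0 : V)
    rw [H.rr i j, H.rr i j, ← map_add, ← map_add, show x + R i x + R i (R i x) = 0 from h, map_zero]

theorem in_S {b : Bool} {i j : Fin 3} {x : V} (h : InOne R b i x) : InOne R b i (S j x) := by
  have e := H.pr_S b i j x
  rw [H.pr_fix h] at e
  exact e.symm ▸ H.pr_in b i (S j x)

theorem in_add {b : Bool} {i : Fin 3} {x y : V} (h : InOne R b i x) (h' : InOne R b i y) :
    InOne R b i (x + y) := by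
  cases b
  · show R i (x + y) = x + y
    rw [map_add, show R i x = x from h, show R i y = y from h']
  · show _ + _ + _ = (0 : V)
    simp only [map_add]
    calc _ = (x + R i x + R i (R i x)) + (y + R i y + R i (R i y)) := by abel
      _ = 0 := by rw [show x + R i x + R i (R i x) = 0 from h, show y + R i y + R i (R i y) = 0 from h', add_zero]

theorem in_av {K : Fin 3 → Bool} {b : Bool} {i : Fin 3} {x : V} (h : InK R K x) : InK R K (av R S b i x) := by
  intro j
  cases b
  · exact h j
  · exact H.in_add (h j) (H.in_R (H.in_add (h j) (H.in_S (h j))))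

theorem av_fix_self {i : Fin 3} {x : V} (h : InOne R true i x) : S i (av R S true i x) = av R S true i x := by
  have hb : InOne R true i (x + S i x) := H.in_add h (H.in_S h)
  have hbf : S i (x + S i x) = x + S i x := by rw [map_add, H.s2, add_comm]
  have hb' : (x + S i x) + R i (x + S i x) + R i (R i (x + S i x)) = 0 := hb
  have hrr : R i (R i (x + S i x)) = (x + S i x) + R i (x + S i x) := (H.eq_of_add hb').symm
  show S i (x + R i (x + S i x)) = x + R i (x + S i x)
  calc S i (x + R i (x + S i x)) = S i x + R i (R i (x + S i x)) := by rw [map_add, H.flip, hbf]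
    _ = (S i x + S i x) + (x + R i (x + S i x)) := by rw [hrr]; abel
    _ = _ := by rw [H.two, zero_add]

theorem av_fix_other {b : Bool} {i j : Fin 3} (hij : j ≠ i) {x : V} (h : S j x = x) :
    S j (av R S b i x) = av R S b i x := by
  cases b
  · exact h
  · show S j (x + R i (x + S i x)) = x + R i (x + S i x)
    rw [map_add, H.sr j i hij, map_add, H.ss j i, h]

theorem avK_in {K : Fin 3 → Bool} {x : V} (h : InK R K x) : InM R S K (avK R S K x) := by
  have h2 := H.in_av (b := K 2) (i := 2) h
  have h1 := H.in_av (b := K 1) (i := 1) h2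
  refine ⟨H.in_av h1, fun i hi => ?_⟩
  fin_cases i
  · show S 0 (av R S (K 0) 0 _) = av R S (K 0) 0 _
    rw [show K 0 = true from hi]
    exact H.av_fix_self (by have := h1 0; rwa [show K 0 = true from hi] at this)
  · refine H.av_fix_other (by decide) ?_
    show S 1 (av R S (K 1) 1 _) = av R S (K 1) 1 _
    rw [show K 1 = true from hi]
    exact H.av_fix_self (by have := h2 1; rwa [show K 1 = true from hi] at this)
  · refine H.av_fix_other (by decide) (H.av_fix_other (by decide) ?_)
    show S 2 (av R S (K 2) 2 x) = av R S (K 2) 2 x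
    rw [show K 2 = true from hi]
    exact H.av_fix_self (by have := h 2; rwa [show K 2 = true from hi] at this)

theorem avK_fix {K : Fin 3 → Bool} {x : V} (h : ∀ i, K i = true → S i x = x) : avK R S K x = x := by
  have : ∀ i, av R S (K i) i x = x := fun i => by
    cases hb : K i
    · rfl
    · simp [av, h i hb, H.two]
  rw [avK, this 2, this 1, this 0]

/-- a commutator inside the fixed part of a component -/
theorem exists_m {K : Fin 3 → Bool} (T : V →+ V) (hR : ∀ i, K i = true → ∀ x, T (R i x) = R i (T x))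
    (hS : ∀ i x, T (S i x) = S i (T x)) (hp : ∀ x, T (prj R K x) = prj R K (T x))
    {w : V} (hw : T w + w = v) : ∃ a, InM R S K a ∧ T a + a = prj R K v := by
  refine ⟨avK R S K (prj R K w), H.avK_in (H.prj_in K w), ?_⟩
  have hav : ∀ i x, T (av R S (K i) i x) + av R S (K i) i x = av R S (K i) i (T x + x) := fun i x => by
    cases hb : K i
    · rfl
    · simp only [av, cond_true, map_add, hR i hb, hS]
      abel
  rw [avK, hav, hav, hav, hp, ← H.prj_add, hw]
  exact H.avK_fix fun i _ => by rw [H.prj_S, H.fix]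

theorem dbl_inj {i : Fin 3} {a b a' b' : V} (ha : InOne R true i a ∧ S i a = a)
    (hb : InOne R true i b ∧ S i b = b) (ha' : InOne R true i a' ∧ S i a' = a')
    (hb' : InOne R true i b' ∧ S i b' = b') (h : a + R i b = a' + R i b') : a = a' ∧ b = b' := by
  have key : ∀ c d : V, InOne R true i d → S i c = c → S i d = d → c + R i d = 0 → d = 0 := by
    intro c d hd hc hdf he
    have e := congrArg (S i) he
    rw [map_add, map_zero, H.flip, hc, hdf] at e
    have hdd : d + R i d + R i (R i d) = 0 := hd
    calc d = d + (c + R i d) + (c + R i (R i d)) := by rw [he, e, add_zero, add_zero]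
      _ = (d + R i d + R i (R i d)) + (c + c) := by abel
      _ = 0 := by rw [hdd, H.two, add_zero]
  have h0 : a + a' + R i (b + b') = 0 := by
    rw [map_add]
    calc _ = (a + R i b) + (a' + R i b') := by abel
      _ = 0 := by rw [h, H.two]
  have e := key _ _ (H.in_add hb.1 hb'.1) (by rw [map_add, ha.2, ha'.2]) (by rw [map_add, hb.2, hb'.2]) h0
  rw [e, map_zero, add_zero] at h0
  exact ⟨H.eq_of_add h0, H.eq_of_add e⟩

theorem dbl_keep {i j : Fin 3} (hij : j ≠ i) {a b : V} (ha : InOne R true j a ∧ S j a = a)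
    (hb : InOne R true j b ∧ S j b = b) : InOne R true j (a + R i b) ∧ S j (a + R i b) = a + R i b :=
  ⟨H.in_add ha.1 (H.in_R hb.1), by rw [map_add, ha.2, H.sr j i hij, hb.2]⟩

theorem inK_dbl {K : Fin 3 → Bool} (i : Fin 3) {a b : V} (ha : InK R K a) (hb : InK R K b) :
    InK R K (a + R i b) := fun j => H.in_add (ha j) (H.in_R (hb j))

omit H in
theorem inM_one {K : Fin 3 → Bool} {x : V} (h : InM R S K x) {i : Fin 3} (hi : K i = true) :
    InOne R true i x ∧ S i x = x := ⟨by have := h.1 i; rwa [hi] at this, h.2 i hi⟩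

theorem card_single [Finite V] {K : Fin 3 → Bool} {i : Fin 3} (hi : K i = true) :
    Nat.card {x // InM R S K x} ^ 2 ≤ Nat.card {x // InK R K x} := by
  rw [sq, ← Nat.card_prod]
  refine Nat.card_le_card_of_injective
    (fun p => ⟨p.1.1 + R i p.2.1, H.inK_dbl i p.1.2.1 p.2.2.1⟩) ?_
  rintro ⟨⟨a, ha⟩, b, hb⟩ ⟨⟨a', ha'⟩, b', hb'⟩ h
  obtain ⟨e1, e2⟩ := H.dbl_inj (inM_one ha hi) (inM_one hb hi) (inM_one ha' hi) (inM_one hb' hi)
    (congrArg Subtype.val h)
  simp only [Prod.mk.injEq, Subtype.mk.injEq]
  exact ⟨e1, e2⟩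

theorem card_double [Finite V] {K : Fin 3 → Bool} {i j : Fin 3} (hij : i ≠ j) (hi : K i = true)
    (hj : K j = true) : Nat.card {x // InM R S K x} ^ 4 ≤ Nat.card {x // InK R K x} := by
  rw [show ∀ n : ℕ, n ^ 4 = n * n * (n * n) from fun n => by ring, ← Nat.card_prod, ← Nat.card_prod]
  refine Nat.card_le_card_of_injective (fun p => ⟨(p.1.1.1 + R i p.1.2.1) + R j (p.2.1.1 + R i p.2.2.1),
    H.inK_dbl j (H.inK_dbl i p.1.1.2.1 p.1.2.2.1) (H.inK_dbl i p.2.1.2.1 p.2.2.2.1)⟩) ?_
  rintro ⟨⟨⟨a, ha⟩, b, hb⟩, ⟨c, hc⟩, d, hd⟩ ⟨⟨⟨a', ha'⟩, b', hb'⟩, ⟨c', hc'⟩, d', hd'⟩ h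
  have k : ∀ {p q : V}, InM R S K p → InM R S K q →
      InOne R true j (p + R i q) ∧ S j (p + R i q) = p + R i q := fun hp hq =>
    H.dbl_keep hij.symm (inM_one hp hj) (inM_one hq hj)
  obtain ⟨e1, e2⟩ := H.dbl_inj (k ha hb) (k hc hd) (k ha' hb') (k hc' hd') (congrArg Subtype.val h)
  obtain ⟨f1, f2⟩ := H.dbl_inj (inM_one ha hi) (inM_one hb hi) (inM_one ha' hi) (inM_one hb' hi) e1
  obtain ⟨g1, g2⟩ := H.dbl_inj (inM_one hc hi) (inM_one hd hi) (inM_one hc' hi) (inM_one hd' hi) e2
  simp only [Prod.mk.injEq, Subtype.mk.injEq]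
  exact ⟨⟨f1, f2⟩, g1, g2⟩

/-- the component with all three coordinates is everything, once nonzero -/
theorem all_of_ne [Finite V] (hV : Nat.card V ≤ 256) {x : V} (hx : x ≠ 0)
    (hM : InM R S (fun _ => true) x) : ∀ y i, InOne R true i y := by
  have hM0 : InM R S (fun _ => true) (0 : V) :=
    ⟨fun i => by show (0 : V) + R i 0 + R i (R i 0) = 0; simp, fun i _ => map_zero _⟩
  let m : Bool → V := fun b => bif b then x else 0
  have hm : ∀ b i, InOne R true i (m b) ∧ S i (m b) = m b := fun b i => by
    cases b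
    · exact inM_one hM0 (i := i) rfl
    · exact inM_one hM (i := i) rfl
  let l1 : Bool × Bool → V := fun p => m p.1 + R 0 (m p.2)
  have h1 : ∀ p i, i ≠ 0 → InOne R true i (l1 p) ∧ S i (l1 p) = l1 p := fun p i hi =>
    H.dbl_keep hi (hm _ i) (hm _ i)
  have a1 : ∀ p i, InOne R true i (l1 p) := fun p i => H.in_add (hm _ i).1 (H.in_R (hm _ i).1)
  let l2 : (Bool × Bool) × (Bool × Bool) → V := fun p => l1 p.1 + R 1 (l1 p.2)
  have h2 : ∀ p, InOne R true 2 (l2 p) ∧ S 2 (l2 p) = l2 p := fun p =>
    H.dbl_keep (by decide) (h1 _ 2 (by decide)) (h1 _ 2 (by decide))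
  have a2 : ∀ p i, InOne R true i (l2 p) := fun p i => H.in_add (a1 _ i) (H.in_R (a1 _ i))
  let l3 : ((Bool × Bool) × (Bool × Bool)) × ((Bool × Bool) × (Bool × Bool)) → V :=
    fun p => l2 p.1 + R 2 (l2 p.2)
  have i0 : Function.Injective m := fun a b h => by cases a <;> cases b <;> simp_all [m, Ne.symm hx]
  have i1 : Function.Injective l1 := fun p q h => by
    obtain ⟨e1, e2⟩ := H.dbl_inj (hm _ 0) (hm _ 0) (hm _ 0) (hm _ 0) h
    exact Prod.ext (i0 e1) (i0 e2)
  have i2 : Function.Injective l2 := fun p q h => by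
    obtain ⟨e1, e2⟩ := H.dbl_inj (h1 _ 1 (by decide)) (h1 _ 1 (by decide)) (h1 _ 1 (by decide))
      (h1 _ 1 (by decide)) h
    exact Prod.ext (i1 e1) (i1 e2)
  have i3 : Function.Injective l3 := fun p q h => by
    obtain ⟨e1, e2⟩ := H.dbl_inj (h2 _) (h2 _) (h2 _) (h2 _) h
    exact Prod.ext (i2 e1) (i2 e2)
  have hb : Function.Bijective l3 := (Nat.bijective_iff_injective_and_card l3).2
    ⟨i3, le_antisymm (Nat.card_le_card_of_injective _ i3) (by simpa [Nat.card_prod] using hV)⟩
  intro y i
  obtain ⟨p, rfl⟩ := hb.2 y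
  exact H.in_add (a2 _ i) (H.in_R (a2 _ i))

theorem card_M_three [Finite V] {K : Fin 3 → Bool} (hK : prj R K v ≠ 0) {j : Fin 3} (hj : K j = false) :
    3 ≤ Nat.card {x // InM R S K x} := by
  classical
  haveI := Fintype.ofFinite V
  set u := prj R K v with hu
  have huM : InM R S K u := ⟨H.prj_in K v, fun i _ => by rw [hu, H.prj_S, H.fix]⟩
  have h0M : InM R S K (0 : V) :=
    ⟨fun i => by unfold InOne; cases K i <;> simp, fun i _ => map_zero _⟩
  obtain ⟨w, hw⟩ := H.one j
  obtain ⟨a, ha, hau⟩ := H.exists_m (S j) (fun i hi => H.sr j i (by rintro rfl; simp [hj] at hi))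
    (fun i x => H.ss j i x) (fun x => H.prj_S K j x) hw
  rw [← hu] at hau
  have h1 : a ≠ 0 := fun e => hK (by rw [← hau, e]; simp)
  have h2 : a ≠ u := fun e => hK (by rw [← hau, e, hu, H.prj_S, H.fix, H.two])
  rw [Nat.card_eq_fintype_card, Fintype.card_subtype]
  refine le_trans (le_of_eq ?_) (Finset.card_le_card (s := {0, u, a}) (by
    intro x hx
    simp only [Finset.mem_insert, Finset.mem_singleton] at hx
    rcases hx with rfl | rfl | rfl <;> simp [h0M, huM, ha]))
  rw [Finset.card_insert_of_notMem (by simp [Ne.symm h1, Ne.symm hK]),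
    Finset.card_insert_of_notMem (by simp [Ne.symm h2]), Finset.card_singleton]

theorem card_M_five [Finite V] {K : Fin 3 → Bool} (hK : prj R K v ≠ 0) {j k : Fin 3} (hjk : j ≠ k)
    (hj : K j = false) (hk : K k = false) : 5 ≤ Nat.card {x // InM R S K x} := by
  classical
  haveI := Fintype.ofFinite V
  set u := prj R K v with hu
  have hfix : ∀ i, S i u = u := fun i => by rw [hu, H.prj_S, H.fix]
  have huM : InM R S K u := ⟨H.prj_in K v, fun i _ => hfix i⟩
  have h0M : InM R S K (0 : V) :=
    ⟨fun i => by unfold InOne; cases K i <;> simp, fun i _ => map_zero _⟩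
  have hne : ∀ l, K l = false → ∀ i, K i = true → l ≠ i := by
    rintro l hl i hi rfl; simp [hl] at hi
  obtain ⟨w1, hw1⟩ := H.one j
  obtain ⟨w2, hw2⟩ := H.one k
  obtain ⟨w3, hw3⟩ := H.pair j k hjk
  obtain ⟨a, ha, hau⟩ := H.exists_m (S j) (fun i hi => H.sr j i (hne j hj i hi))
    (fun i x => H.ss j i x) (fun x => H.prj_S K j x) hw1
  obtain ⟨b, hb, hbu⟩ := H.exists_m (S k) (fun i hi => H.sr k i (hne k hk i hi))
    (fun i x => H.ss k i x) (fun x => H.prj_S K k x) hw2
  obtain ⟨c, hc, hcu⟩ := H.exists_m (K := K) ((S j).comp (S k))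
    (fun i hi x => by simp [H.sr k i (hne k hk i hi), H.sr j i (hne j hj i hi)])
    (fun i x => by simp [H.ss k i, H.ss j i]) (fun x => by simp [H.prj_S]) hw3
  simp only [AddMonoidHom.comp_apply] at hcu
  rw [← hu] at hau hbu hcu
  have hua : InM R S K (u + a) := ⟨fun i => H.in_add (huM.1 i) (ha.1 i), fun i hi => by
    rw [map_add, huM.2 i hi, ha.2 i hi]⟩
  have h1 : a ≠ 0 := fun e => hK (by rw [← hau, e]; simp)
  have h2 : a ≠ u := fun e => hK (by rw [← hau, e, hfix, H.two])
  have h3 : u + a ≠ 0 := fun e => h2 (H.eq_of_add e).symm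
  obtain ⟨x, hx, hxn⟩ : ∃ x, InM R S K x ∧ x ∉ ({0, u, a, u + a} : Finset V) := by
    by_contra hno
    push Not at hno
    have hb' : b = a ∨ b = u + a := by
      have := hno b hb
      simp only [Finset.mem_insert, Finset.mem_singleton] at this
      rcases this with e | e | e | e
      · exact absurd (by rw [← hbu, e]; simp) hK
      · exact absurd (by rw [← hbu, e, hfix, H.two]) hK
      · exact Or.inl e
      · exact Or.inr e
    have hka : S k a + a = u := by
      rcases hb' with e | e <;> rw [e] at hbu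
      · exact hbu
      · rw [map_add, hfix] at hbu
        calc S k a + a = (u + u) + (S k a + a) := by rw [H.two, zero_add]
          _ = u + S k a + (u + a) := by abel
          _ = u := hbu
    have hja : S j (S k a) + a = 0 := by
      have e1 : S k a = u + a := by
        rw [← hka, add_assoc, H.two, add_zero]
      rw [e1, map_add, hfix]
      calc u + S j a + a = u + (S j a + a) := add_assoc _ _ _
        _ = 0 := by rw [hau, H.two]
    have := hno c hc
    simp only [Finset.mem_insert, Finset.mem_singleton] at this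
    rcases this with e | e | e | e <;> rw [e] at hcu
    · exact hK (by rw [← hcu]; simp)
    · exact hK (by rw [← hcu, hfix, hfix, H.two])
    · exact hK (by rw [← hcu, hja])
    · refine hK (hcu.symm.trans ?_)
      rw [map_add, map_add, hfix, hfix]
      calc u + S j (S k a) + (u + a) = (u + u) + (S j (S k a) + a) := by abel
        _ = 0 := by rw [H.two, hja, add_zero]
  rw [Nat.card_eq_fintype_card, Fintype.card_subtype]
  refine le_trans (le_of_eq ?_) (Finset.card_le_card (s := insert x {0, u, a, u + a}) (by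
    intro y hy
    simp only [Finset.mem_insert, Finset.mem_singleton] at hy
    rcases hy with rfl | rfl | rfl | rfl | rfl <;> simp [h0M, huM, ha, hua, hx]))
  rw [Finset.card_insert_of_notMem hxn,
    Finset.card_insert_of_notMem (by simp [Ne.symm h1, Ne.symm hK, Ne.symm h3]),
    Finset.card_insert_of_notMem (by simp [Ne.symm h2, h1]),
    Finset.card_insert_of_notMem (by simp [hK]), Finset.card_singleton]

/-- a proper component meeting the vector at a coordinate is large -/
theorem big [Finite V] {K : Fin 3 → Bool} (hK : prj R K v ≠ 0) {i j : Fin 3} (hi : K i = true)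
    (hj : K j = false) : 25 ≤ Nat.card {x // InK R K x} := by
  by_cases h : ∃ l, l ≠ i ∧ K l = true
  · obtain ⟨l, hl, hlK⟩ := h
    refine le_trans ?_ (H.card_double hl hlK hi)
    calc 25 ≤ 3 ^ 4 := by norm_num
      _ ≤ _ := Nat.pow_le_pow_left (H.card_M_three hK hj) 4
  · push Not at h
    obtain ⟨k, hki, hkj⟩ : ∃ k, k ≠ i ∧ k ≠ j := by
      clear hi hj h
      revert i j; decide
    refine le_trans ?_ (H.card_single hi)
    calc 25 = 5 ^ 2 := by norm_num
      _ ≤ _ := Nat.pow_le_pow_left
        (H.card_M_five hK (Ne.symm hkj) hj (by simpa using h k hki)) 2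

/-- the elements of order three have no fixed points -/
theorem no_fixed [Finite V] (hV : Nat.card V ≤ 256) (i : Fin 3) {x : V} (hx : R i x = x) : x = 0 := by
  classical
  suffices h : ∀ y j, InOne R true j y by
    have h : x + R i x + R i (R i x) = 0 := h x i
    rw [hx, hx, H.two, zero_add] at h
    exact h
  by_cases hfull : prj R (fun _ => true) v = 0
  swap
  · exact H.all_of_ne hV hfull ⟨H.prj_in _ _, fun j _ => by rw [H.prj_S, H.fix]⟩
  exfalso
  have hmeet : ∀ l : Fin 3, ∃ K : Fin 3 → Bool, K l = true ∧ prj R K v ≠ 0 ∧ ∃ j, K j = false := by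
    intro l
    by_contra hno
    push Not at hno
    refine H.move l ?_
    have hall : ∀ K : Fin 3 → Bool, K l = true → prj R K v = 0 := fun K hK => by
      by_contra h
      have hne := hno K hK h
      have : K = fun _ => true := funext fun j => by simpa using hne j
      exact h (this ▸ hfull)
    have hsplit : ∀ (l : Fin 3) (y : V), y = pr R true l y + pr R false l y := fun l y => by
      show y = (R l y + R l (R l y)) + (y + (R l y + R l (R l y)))
      calc y = y + ((R l y + R l (R l y)) + (R l y + R l (R l y))) := by rw [H.two, add_zero]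
        _ = _ := by abel
    have hexp : v = prj R ![true, true, true] v + prj R ![false, true, true] v +
        (prj R ![true, false, true] v + prj R ![false, false, true] v) +
        ((prj R ![true, true, false] v + prj R ![false, true, false] v) +
        (prj R ![true, false, false] v + prj R ![false, false, false] v)) := by
      simp only [prj, Matrix.cons_val_zero, Matrix.cons_val_one, Matrix.cons_val_two, Matrix.tail_cons,
        Matrix.head_cons]
      conv_lhs => rw [hsplit 2 v, hsplit 1 (pr R true 2 v), hsplit 1 (pr R false 2 v),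
        hsplit 0 (pr R true 1 (pr R true 2 v)), hsplit 0 (pr R false 1 (pr R true 2 v)),
        hsplit 0 (pr R true 1 (pr R false 2 v)), hsplit 0 (pr R false 1 (pr R false 2 v))]
    have key : ∀ K : Fin 3 → Bool, R l (prj R K v) = prj R K v := fun K => by
      cases hK : K l
      · have := H.prj_in K v l; rw [hK] at this; exact this
      · rw [hall K hK, map_zero]
    rw [hexp]
    simp only [map_add, key]
  obtain ⟨K, hK0, hKv, j, hj⟩ := hmeet 0
  obtain ⟨L, hLj, hLv, k, hk⟩ := hmeet j
  have hKL : K ≠ L := fun e => by rw [e, hLj] at hj; exact Bool.noConfusion hj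
  have h1 := H.big hKv hK0 hj
  have h2 := H.big hLv hLj hk
  have h3 : Nat.card {x // InK R K x} * Nat.card {x // InK R L x} ≤ Nat.card V := by
    rw [← Nat.card_prod]
    refine Nat.card_le_card_of_injective (fun p => p.1.1 + p.2.1) ?_
    rintro ⟨⟨a, ha⟩, b, hb⟩ ⟨⟨a', ha'⟩, b', hb'⟩ h
    have e1 := congrArg (prj R K) h
    simp only [H.prj_add, H.prj_fix ha, H.prj_fix ha', H.prj_kill hKL.symm hb, H.prj_kill hKL.symm hb',
      add_zero] at e1
    have e2 := congrArg (prj R L) h
    simp only [H.prj_add, H.prj_fix hb, H.prj_fix hb', H.prj_kill hKL ha, H.prj_kill hKL ha',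
      zero_add] at e2
    simp only [Prod.mk.injEq, Subtype.mk.injEq]
    exact ⟨e1, e2⟩
  have := Nat.mul_le_mul h1 h2
  omega

end Sys

end CfsgLib.OmegaEightCent.Tensor
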