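import Cfsg.Agent.Lib.OmegaEightCent.Pair
import Cfsg.Agent.Lib.OmegaEightCent.Tensor
import Cfsg.Agent.Lib.OmegaEightCent.Space

/-!
A second conjugate of `z` in `Q` makes `Q/Z` the tensor product of the three natural modules.
-/

set_option autoImplicit false
set_option linter.unusedSectionVars false
set_option linter.style.haveILetI false
set_option maxHeartbeats 1000000
set_option synthInstance.maxSize 2000

open Cfsg CfsgLib.Extraspecial
open Equiv (Perm swap)

namespace CfsgLib.OmegaEightCent

variable {G : Type*} [Group G]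

/-- the coordinates -/
structure Coord (z : G) (Q : Subgroup G) (π : ↥(Cz z) →* M0) (κ : V8 → T Q) : Prop where
  bij : Function.Bijective κ
  add : ∀ x y, κ (x + y) = κ x * κ y
  equiv : ∀ c ∈ Cz z, ∀ x, ac Q c (κ x) = κ (act (img z π c) x)
  qf : ∀ x, qT z Q (κ x) = decide (qV x = 1)
  bf : ∀ x y, bT z Q (κ x) (κ y) = decide (bV x y = 1)
  pts : ∀ h : G, h * z * h⁻¹ ∈ Q → h * z * h⁻¹ ≠ z → ∃ a, cl Q (h * z * h⁻¹) = κ (pnt a)
  root : ∀ q ∈ Q, ∀ a, cl Q q = κ (pnt a) → IsConj z q

/-- an element of the symmetric group of degree three moving the first point to a given one -/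
def hsel (a : Fin 3) : S3 := if a = 0 then 1 else if a = 1 then ss else tt'

theorem hsel_zero : ∀ a : Fin 3, hsel a 0 = a := by decide +kernel

theorem stab_zero : ∀ σ : S3, σ 0 = 0 → σ = 1 ∨ σ = tt := by decide +kernel

theorem rr_facts : rr * rr * rr = 1 ∧ rr ≠ 1 ∧ tt * rr = rr * rr * tt ∧ rr 0 = 1 ∧ rr 1 = 2 ∧ rr 2 = 0 := by
  decide +kernel

namespace Pre

variable [Finite G] {z : G} {Q : Subgroup G} {π : ↥(Cz z) →* M0} (H : Pre z Q π)
include H

/-- the action of an element of the quotient -/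
noncomputable def actM (m : M0) (t : T Q) : T Q := ac Q (H.lift m).choose t

theorem actM_spec {c : G} (hc : c ∈ Cz z) (t : T Q) : ac Q c t = H.actM (img z π c) t := by
  have h := (H.lift (img z π c)).choose_spec
  exact H.ac_img hc h.1 h.2.symm t

theorem actM_mul (m n : M0) (t : T Q) : H.actM (m * n) t = H.actM m (H.actM n t) := by
  obtain ⟨hm, em⟩ := (H.lift m).choose_spec
  obtain ⟨hn, en⟩ := (H.lift n).choose_spec
  calc H.actM (m * n) t = ac Q ((H.lift m).choose * (H.lift n).choose) t := by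
        rw [H.actM_spec ((Cz z).mul_mem hm hn), H.img_mul hm hn, em, en]
    _ = _ := H.ac_comp hm hn t

theorem actM_one (t : T Q) : H.actM 1 t = t := by
  rw [← H.img_one, ← H.actM_spec (Cz z).one_mem, H.ac_Q Q.one_mem]

theorem actM_hom (m : M0) (s t : T Q) : H.actM m (s * t) = H.actM m s * H.actM m t :=
  H.ac_mul (H.lift m).choose_spec.1 s t

variable {g : G} (hmem : g * z * g⁻¹ ∈ Q) (hne : g * z * g⁻¹ ≠ z)
include hmem hne

/-- the induced group is full -/
theorem Ap_full : ∃ s : M0, (∀ i, s i * s i = 1 ∧ s i ≠ 1) ∧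
    ∀ m, m ∈ Apg Q π g ↔ ∀ i, m i = 1 ∨ m i = s i := by
  refine elem_full _ (fun a ha => H.Ap_sq hmem hne ha) ?_
  have h1 := H.card_Ap_mul hmem hne
  have h2 := H.card_Ep_le hmem hne
  nlinarith

/-- a nontrivial element of the induced group moves some element of the intersection by the class -/
theorem Ap_moves {m : M0} (hm : m ∈ Apg Q π g) (hm1 : m ≠ 1) :
    ∃ t : T Q, H.actM m t * t = cl Q (g * z * g⁻¹) := by
  obtain ⟨b, hb, rfl⟩ := (H.mem_Ap hmem hne).1 hm
  by_contra hno
  push Not at hno
  have hfix : ∀ e ∈ Ep Q g, b * e = e * b := by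
    intro e he
    have h1 : ac Q b (cl Q e) = cl Q e := by
      refine (H.ac_cases hmem hne hb he).resolve_right fun h => hno (cl Q e) ?_
      rw [← H.actM_spec hb.2, h, H.T_comm (cl Q e), mul_assoc, H.T_sq, mul_one]
    rw [H.ac_cl hb.2 he.1, H.cl_eq_iff (H.conjQ hb.2 he.1) he.1] at h1
    refine mul_inv_eq_iff_eq_mul.1 (h1.resolve_right fun e1 => ?_)
    rcases (H.st.conj g).comm_cases hb.1 he.2 with e2 | e2
    · exact H.zne (mul_eq_right.1 (e1.symm.trans e2))
    · exact hne (mul_right_cancel (e2.symm.trans e1))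
  set A := Subgroup.closure (insert b (Ep Q g : Set G)) with hA
  have hAQ : A ≤ Qc Q g := (Subgroup.closure_le _).2 (Set.insert_subset hb.1 fun e he => he.2)
  have hgen : ∀ a ∈ insert b (Ep Q g : Set G), ∀ c ∈ insert b (Ep Q g : Set G), a * c = c * a := by
    rintro a (rfl | ha) c (rfl | hc)
    · rfl
    · exact hfix c hc
    · exact (hfix a ha).symm
    · exact H.Ep_comm hmem hne ha hc
  have hAc : ∀ a ∈ A, ∀ c ∈ A, a * c = c * a := fun a ha c hc =>
    congrArg Subtype.val ((Subgroup.isMulCommutative_closure hgen).is_comm.comm (⟨a, ha⟩ : A) ⟨c, hc⟩)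
  have h32 : Nat.card A ≤ 32 := by
    have e : A = (A.map (MulAut.conj g).symm.toMonoidHom).map (MulAut.conj g).toMonoidHom := by
      rw [Subgroup.map_map]; ext x; simp
    rw [e, Subgroup.card_map_of_injective (MulAut.conj g).injective]
    refine H.card_abelian_le ?_ ?_
    · rintro _ ⟨x, hx, rfl⟩
      obtain ⟨q, hq, rfl⟩ := hAQ hx
      simpa [mul_assoc] using hq
    · rintro _ ⟨x, hx, rfl⟩ _ ⟨y, hy, rfl⟩
      rw [← map_mul, ← map_mul, hAc x hx y hy]
  have h1 := H.card_Ap_mul hmem hne
  have h2 := card_elem_le _ (fun a ha => H.Ap_sq hmem hne (π := π) (m := a) ha)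
  have hle : Ep Q g ≤ A := fun e he => Subgroup.subset_closure (Or.inr he)
  have heq : Ep Q g = A := Subgroup.eq_of_le_of_card_ge hle (by nlinarith)
  exact hm1 (H.img_Q (heq.ge (Subgroup.subset_closure (Or.inl rfl))).1)

/-- no element of order three fixes the class -/
theorem move_three {m : M0} (h3 : m * m * m = 1) (hm : m ≠ 1) :
    H.actM m (cl Q (g * z * g⁻¹)) ≠ cl Q (g * z * g⁻¹) := by
  intro h
  obtain ⟨c, hc, hci⟩ := H.lift m
  rw [← hci, ← H.actM_spec hc] at h
  obtain ⟨c', hc', hci', hcv⟩ := H.fix_lift hc hmem (H.cl_v_ne hmem hne) h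
  obtain ⟨s, hs, hA⟩ := H.Ap_full hmem hne
  refine hm (norm_three hs hA h3 fun x hx => ?_)
  have := H.conj_Ap hmem hne hc' hcv hx
  rwa [hci', hci] at this

omit hmem hne in
/-- a change of coordinates in the quotient -/
theorem twist (c : M0) : Pre z Q ((MulAut.conj c).toMonoidHom.comp π) where
  st := H.st
  card := H.card
  ker := by
    rw [← MonoidHom.comap_ker, (MonoidHom.ker_eq_bot_iff _).2 (MulAut.conj c).injective,
      MonoidHom.comap_bot, H.ker]
  surj := (MulAut.conj c).surjective.comp H.surj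

/-- coordinates exist -/
theorem exists_coord : ∃ π' κ, Pre z Q π' ∧ Coord z Q π' κ ∧ κ (pnt 0) = cl Q (g * z * g⁻¹) := by
  classical
  obtain ⟨s, hs, hA⟩ := H.Ap_full hmem hne
  choose c hc using fun i => s3_conj (s i) (hs i).1 (hs i).2
  set π' := (MulAut.conj c).toMonoidHom.comp π with hπ'
  have H' : Pre z Q π' := H.twist c
  have himg : ∀ x ∈ Cz z, img z π' x = c * img z π x * c⁻¹ := fun x hx => by
    rw [img, img, dif_pos hx, dif_pos hx]; rfl
  have hA' : ∀ m : M0, (∀ i, m i = 1 ∨ m i = tt) → m ∈ Apg Q π' g := by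
    intro m hm
    obtain ⟨b, hb, hbi⟩ := (H.mem_Ap hmem hne).1 ((hA (c⁻¹ * m * c)).2 fun i => by
      rcases hm i with e | e
      · left; simp [e]
      · right
        simp only [Pi.mul_apply, Pi.inv_apply, e, ← hc i]
        group)
    exact (H'.mem_Ap hmem hne).2 ⟨b, hb, by rw [himg b hb.2, hbi]; group⟩
  refine ⟨π', ?_⟩
  letI : CommGroup (T Q) := { (inferInstance : Group (T Q)) with mul_comm := H.T_comm }
  set v := cl Q (g * z * g⁻¹) with hvd
  have hAv : ∀ m : M0, (∀ i, m i = 1 ∨ m i = tt) → H'.actM m v = v := by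
    intro m hm
    obtain ⟨b, hb, rfl⟩ := (H'.mem_Ap hmem hne).1 (hA' m hm)
    rw [← H'.actM_spec hb.2, hvd, H'.ac_cl hb.2 hmem,
      mul_inv_eq_iff_eq_mul.2 ((H.st.conj g).z_comm hb.1)]
  have htt : ∀ (i j : Fin 3), sgl i tt j = 1 ∨ sgl i tt j = tt := fun i j => by
    by_cases h : j = i
    · subst h; exact Or.inr (sgl_self _ _)
    · exact Or.inl (sgl_ne h _)
  -- the additive module
  let E : M0 → (Additive (T Q) →+ Additive (T Q)) := fun m =>
    MonoidHom.toAdditive (MonoidHom.mk' (H'.actM m) (H'.actM_hom m))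
  have hE : ∀ m x, E m x = Additive.ofMul (H'.actM m (Additive.toMul x)) := fun m x => rfl
  have hEm : ∀ m n x, E (m * n) x = E m (E n x) := fun m n x => by
    simp only [hE, toMul_ofMul, H'.actM_mul]
  have hE1 : ∀ x, E 1 x = x := fun x => by simp only [hE, H'.actM_one, ofMul_toMul]
  have h2 : ∀ x : Additive (T Q), x + x = 0 := fun x => H.T_sq (Additive.toMul x)
  obtain ⟨f1, f2, f3, f4, f5, f6⟩ := rr_facts
  set v' : Additive (T Q) := Additive.ofMul v with hv'
  have S : Tensor.Sys (fun i => E (sgl i rr)) (fun i => E (sgl i tt)) v' := by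
    refine ⟨h2, fun i x => ?_, fun i x => ?_, fun i x => ?_, fun i j x => ?_, fun i j x => ?_,
      fun i j hij x => ?_, fun i => ?_, fun i => ?_, fun i => ?_, fun i j hij => ?_⟩
    · simp only [← hEm, ← sgl_mul]
      rw [show rr * (rr * rr) = 1 by rw [← mul_assoc, f1], sgl_one, hE1]
    · simp only [← hEm, ← sgl_mul]; rw [tt_facts.1, sgl_one, hE1]
    · simp only [← hEm, ← sgl_mul]; rw [f3, mul_assoc]
    · rcases eq_or_ne i j with rfl | h
      · rfl
      · simp only [← hEm]; rw [sgl_comm h]
    · rcases eq_or_ne i j with rfl | h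
      · rfl
      · simp only [← hEm]; rw [sgl_comm h]
    · simp only [← hEm]; rw [sgl_comm hij]
    · exact congrArg Additive.ofMul (hAv _ (htt i))
    · exact fun h => H'.move_three hmem hne (m := sgl i rr) (by rw [← sgl_mul, ← sgl_mul, f1, sgl_one])
        (fun e => f2 (sgl_inj i (e.trans (sgl_one i).symm))) (congrArg Additive.toMul h)
    · obtain ⟨t, ht⟩ := H'.Ap_moves hmem hne (hA' (sgl i tt) (htt i))
        (fun e => tt_facts.2.1 (sgl_inj i (e.trans (sgl_one i).symm)))
      exact ⟨Additive.ofMul t, congrArg Additive.ofMul ht⟩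
    · obtain ⟨t, ht⟩ := H'.Ap_moves hmem hne (m := sgl i tt * sgl j tt)
        (hA' _ fun k => by
          rcases htt i k with e | e <;> rcases htt j k with e' | e' <;>
            simp only [Pi.mul_apply, e, e', one_mul, mul_one, tt_facts.1, true_or, or_true])
        (fun e => by
          have := congrFun e i
          rw [Pi.mul_apply, sgl_self, sgl_ne hij, mul_one] at this
          exact tt_facts.2.1 this)
      refine ⟨Additive.ofMul t, ?_⟩
      rw [← hEm]
      exact congrArg Additive.ofMul ht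
  have hV : Nat.card (Additive (T Q)) ≤ 256 := le_of_eq ((Nat.card_congr Additive.toMul).trans H.card_T)
  have hnf : ∀ i (x : Additive (T Q)), E (sgl i rr) x = x → x = 0 := fun i x h => S.no_fixed hV i h
  -- the points
  let p : (Fin 3 → Fin 3) → Additive (T Q) := fun a => E (fun i => hsel (a i)) v'
  have hp : ∀ (m : M0) (a : Fin 3 → Fin 3), E m (p a) = p (fun i => m i (a i)) := by
    intro m a
    show E m (E _ v') = E (fun i => hsel (m i (a i))) v'
    rw [← hEm]
    set q : M0 := fun i => hsel (m i (a i))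
    calc E (m * fun i => hsel (a i)) v' = E (q * (q⁻¹ * (m * fun i => hsel (a i)))) v' := by
          rw [mul_inv_cancel_left]
      _ = E q v' := by
        rw [hEm]
        congr 1
        refine congrArg Additive.ofMul (hAv _ fun i => stab_zero _ ?_)
        simp only [Pi.mul_apply, Pi.inv_apply, q, Equiv.Perm.mul_apply, hsel_zero]
        rw [Equiv.Perm.inv_def, Equiv.symm_apply_eq, hsel_zero]
  have hline : ∀ (a : Fin 3 → Fin 3) (j : Fin 3),
      p (Function.update a j 0) + p (Function.update a j 1) = p (Function.update a j 2) := by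
    intro a j
    have hstep : ∀ k l : Fin 3, rr k = l → E (sgl j rr) (p (Function.update a j k)) = p (Function.update a j l) := by
      intro k l hkl
      rw [hp]
      congr 1
      funext i
      by_cases h : i = j
      · subst h; simp [sgl_self, hkl]
      · simp [sgl_ne h, h]
    have h0 := hnf j (p (Function.update a j 0) + p (Function.update a j 1) + p (Function.update a j 2)) (by
      rw [map_add, map_add, hstep 0 1 f4, hstep 1 2 f5, hstep 2 0 f6]; abel)
    calc p (Function.update a j 0) + p (Function.update a j 1)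
        = p (Function.update a j 0) + p (Function.update a j 1) + (p (Function.update a j 2) + p (Function.update a j 2)) := by
          rw [h2, add_zero]
      _ = _ := by rw [← add_assoc, h0, zero_add]
  -- the homomorphism
  let sc : Additive (T Q) → (ZMod 2 →+ Additive (T Q)) := fun y =>
    AddMonoidHom.mk' (fun t => if t = 1 then y else 0) fun s t => by
      rcases (show s = 0 ∨ s = 1 by revert s; decide) with rfl | rfl <;>
        rcases (show t = 0 ∨ t = 1 by revert t; decide) with rfl | rfl <;>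
        simp [h2, show (1 + 1 : ZMod 2) = 0 from rfl]
  let k3 : Fin 3 → Fin 3 → (V2 →+ Additive (T Q)) := fun a b =>
    (sc (p ![a, b, 0])).coprod (sc (p ![a, b, 1]))
  have hk3 : ∀ a b c, k3 a b (cpt c (1 : ZMod 2)) = p ![a, b, c] := by
    intro a b c
    have hl := hline ![a, b, 0] 2
    have e : ∀ k : Fin 3, Function.update ![a, b, 0] 2 k = ![a, b, k] := fun k => by
      funext i; fin_cases i <;> rfl
    rw [e, e, e] at hl
    obtain rfl | rfl | rfl : c = 0 ∨ c = 1 ∨ c = 2 := by revert c; decide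
    · simp [k3, cpt, sc]
    · simp [k3, cpt, sc]
    · simp [k3, cpt, sc, hl]
  let k2 : Fin 3 → (V4 →+ Additive (T Q)) := fun a => (k3 a 0).coprod (k3 a 1)
  have hk2 : ∀ a b c, k2 a (cpt b (cpt c (1 : ZMod 2))) = p ![a, b, c] := by
    intro a b c
    have hl := hline ![a, 0, c] 1
    have e : ∀ k : Fin 3, Function.update ![a, 0, c] 1 k = ![a, k, c] := fun k => by
      funext i; fin_cases i <;> rfl
    rw [e, e, e] at hl
    have e' : ∀ k : Fin 3, k2 a (cpt k (cpt c (1 : ZMod 2))) =
        k3 a 0 (if k = 1 then 0 else cpt c 1) + k3 a 1 (if k = 0 then 0 else cpt c 1) := fun k => rfl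
    obtain rfl | rfl | rfl : b = 0 ∨ b = 1 ∨ b = 2 := by revert b; decide
    · rw [e']; simp [hk3]
    · rw [e']; simp [hk3]
    · rw [e']; simp [hk3, hl]
  let k1 : V8 →+ Additive (T Q) := (k2 0).coprod (k2 1)
  have hk1 : ∀ a, k1 (pnt a) = p a := by
    intro a
    have hl := hline ![0, a 1, a 2] 0
    have e : ∀ k : Fin 3, Function.update ![0, a 1, a 2] 0 k = ![k, a 1, a 2] := fun k => by
      funext i; fin_cases i <;> rfl
    rw [e, e, e] at hl
    have ea : a = ![a 0, a 1, a 2] := by funext i; fin_cases i <;> rfl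
    have e' : k1 (pnt a) = k2 0 (if a 0 = 1 then 0 else cpt (a 1) (cpt (a 2) 1)) +
        k2 1 (if a 0 = 0 then 0 else cpt (a 1) (cpt (a 2) 1)) := rfl
    conv_rhs => rw [ea]
    rcases (show a 0 = 0 ∨ a 0 = 1 ∨ a 0 = 2 by generalize a 0 = k; revert k; decide) with h | h | h <;>
      rw [e', h] <;> simp [hk2, hl]
  have hp0 : p 0 = v' := by
    have : (fun i => hsel ((0 : Fin 3 → Fin 3) i)) = (1 : M0) := funext fun i => rfl
    show E _ v' = v'
    rw [this, hE1]
  have hequiv : ∀ m x, E m (k1 x) = k1 (act m x) := fun m x =>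
    hom_ext (f := (E m).comp k1) (g := k1.comp (actHom m)) (fun a _ => by
      show E m (k1 (pnt a)) = k1 (act m (pnt a))
      rw [hk1, act_pnt, hk1, hp]) x
  have hv0 : v' ≠ 0 := fun h => H.cl_v_ne hmem hne (congrArg Additive.toMul h)
  have hker : ∀ x, k1 x = 0 → x = 0 := by
    intro x hx
    by_contra hne0
    obtain ⟨s, hsx⟩ := reach x hne0
    have hd : ∀ i y, k1 y = 0 → k1 (dl i y) = 0 := fun i y h => by
      rw [dl, map_add, ← hequiv, h, map_zero, add_zero]
    have hc : ∀ (b : Bool) i y, k1 y = 0 → k1 (bif b then dl i y else y) = 0 := fun b i y h => by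
      cases b
      · exact h
      · exact hd i y h
    have := hc s.1 0 _ (hc s.2.1 1 _ (hc s.2.2 2 x hx))
    rw [show (bif s.1 then dl 0 _ else _) = pnt 0 from hsx, hk1, hp0] at this
    exact hv0 this
  have hinj : Function.Injective k1 := (injective_iff_map_eq_zero k1).2 hker
  let κ : V8 → T Q := fun x => Additive.toMul (k1 x)
  have hbij : Function.Bijective κ := by
    refine (Nat.bijective_iff_injective_and_card κ).2 ⟨fun x y h => hinj h, ?_⟩
    rw [H.card_T]
    simp [Nat.card_eq_fintype_card]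
  have hadd : ∀ x y, κ (x + y) = κ x * κ y := fun x y => congrArg Additive.toMul (map_add k1 x y)
  have heq : ∀ c ∈ Cz z, ∀ x, ac Q c (κ x) = κ (act (img z π' c) x) := fun c hc x => by
    rw [H'.actM_spec hc]
    exact congrArg Additive.toMul (hequiv (img z π' c) x)
  have hκ0 : κ (pnt 0) = v := by
    show Additive.toMul (k1 (pnt 0)) = v
    rw [hk1, hp0]; rfl
  have hκm : ∀ m a, κ (pnt fun i => m i (a i)) = H'.actM m (κ (pnt a)) := fun m a => by
    rw [← act_pnt]; exact congrArg Additive.toMul (hequiv m (pnt a)).symm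
  have hκv : ∀ a, κ (pnt a) = H'.actM (fun i => hsel (a i)) v := fun a => by
    rw [← hκ0, ← hκm]
    congr 2; funext i; exact (hsel_zero (a i)).symm
  have hbM : ∀ m s t, bT z Q (H'.actM m s) (H'.actM m t) = bT z Q s t := fun m s t =>
    H.bT_ac (H'.lift m).choose_spec.1 s t
  have hbz : ∀ a : Fin 3 → Fin 3, (∃ i, a i = 0) → bT z Q v (κ (pnt a)) = false := by
    rintro a ⟨i, hi⟩
    obtain ⟨w, hw⟩ := H'.Ap_moves hmem hne (hA' (sgl i tt) (htt i))
      (fun e => tt_facts.2.1 (sgl_inj i (e.trans (sgl_one i).symm)))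
    have hfix : H'.actM (sgl i tt) (κ (pnt a)) = κ (pnt a) := by
      rw [← hκm]
      congr 2; funext j
      by_cases h : j = i
      · subst h; rw [sgl_self, hi]; decide
      · rw [sgl_ne h]; rfl
    rw [hvd, ← hw, H.bT_mul_left]
    have : bT z Q (H'.actM (sgl i tt) w) (κ (pnt a)) = bT z Q w (κ (pnt a)) := by
      conv_lhs => rw [← hfix, hbM]
    rw [this, Bool.xor_self]
  let bh : T Q → (V8 →+ ZMod 2) := fun s => AddMonoidHom.mk' (fun x => if bT z Q s (κ x) = true then 1 else 0)
    fun x y => by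
      rw [hadd, H.bT_mul_right]
      cases bT z Q s (κ x) <;> cases bT z Q s (κ y) <;> decide
  have hb1 : ∀ a : Fin 3 → Fin 3, (∀ i, a i ≠ 0) → bT z Q v (κ (pnt a)) = true := by
    intro a ha
    obtain ⟨m, hm, hma⟩ : ∃ m : M0, (∀ i, m i = 1 ∨ m i = tt) ∧ ∀ i, m i 1 = a i := by
      refine ⟨fun i => if a i = 1 then 1 else tt, fun i => by simp only; split_ifs <;> simp, fun i => ?_⟩
      have h0 := ha i
      simp only
      generalize a i = k at h0 ⊢
      clear * - h0
      revert k; decide
    have e : bT z Q v (κ (pnt a)) = bT z Q v (κ (pnt fun _ => 1)) := by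
      rw [show a = fun i => m i ((fun _ => (1 : Fin 3)) i) from funext fun i => (hma i).symm, hκm]
      conv_lhs => rw [← hAv m hm, hbM]
    rw [e]
    by_contra h1
    obtain ⟨t, ht⟩ := H.bT_nondeg (H.cl_v_ne hmem hne)
    obtain ⟨x, rfl⟩ := hbij.2 t
    have hz : ∀ y, bh v y = (0 : V8 →+ ZMod 2) y := hom_ext fun b hb => by
      show (if bT z Q v (κ (pnt b)) = true then 1 else 0) = (0 : ZMod 2)
      by_cases h : ∃ i, b i = 0
      · rw [hbz b h]; rfl
      · push Not at h
        rw [show b = fun _ => 1 from funext fun i => by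
          have := h i; have := hb i; generalize b i = k at *; revert k; decide]
        simp only [h1, if_false]
    have := hz x
    have e2 : bh v x = 1 := by
      show (if bT z Q v (κ x) = true then 1 else 0) = (1 : ZMod 2)
      rw [show bT z Q v (κ x) = true from ht]; rfl
    rw [e2] at this
    change (1 : ZMod 2) = 0 at this
    exact absurd this (by decide)
  have hbp : ∀ a b, bh (κ (pnt a)) (pnt b) = bV (pnt a) (pnt b) := by
    intro a b
    show (if bT z Q (κ (pnt a)) (κ (pnt b)) = true then 1 else 0) = _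
    set m : M0 := fun i => hsel (a i)
    have e : κ (pnt b) = H'.actM m (κ (pnt fun i => (m i)⁻¹ (b i))) := by
      rw [← hκm]; congr 2; funext i; simp
    rw [e, hκv a, hbM, bV_pnt]
    have key : ∀ i, (m i)⁻¹ (b i) = 0 ↔ a i = b i := fun i => by
      rw [Equiv.Perm.inv_def, Equiv.symm_apply_eq, hsel_zero, eq_comm]
    by_cases h : ∃ i, (m i)⁻¹ (b i) = 0
    · rw [hbz _ h, if_neg Bool.false_ne_true]
      obtain ⟨i, hi⟩ := h
      rw [key] at hi
      rw [if_neg]
      rintro ⟨h0, h1, h2⟩
      revert hi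
      obtain rfl | rfl | rfl : i = 0 ∨ i = 1 ∨ i = 2 := by revert i; decide
      exacts [h0, h1, h2]
    · push Not at h
      rw [hb1 _ h, if_pos rfl, if_pos]
      exact ⟨fun e => h 0 ((key 0).2 e), fun e => h 1 ((key 1).2 e), fun e => h 2 ((key 2).2 e)⟩
  have hbV : ∀ x y, bh (κ x) y = bV x y := by
    intro x y
    have hflip : ∀ x y, bh (κ x) y = bh (κ y) x := fun x y => by
      show (if _ then _ else _) = (if _ then _ else _)
      rw [H.bT_symm]
    let bVh : V8 → (V8 →+ ZMod 2) := fun x => AddMonoidHom.mk' (bV x) fun y w => by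
      rw [bV_symm, bV_add_left, bV_symm y, bV_symm w]
    refine hom_ext (g := bVh x) (fun b _ => ?_) y
    show bh (κ x) (pnt b) = bV x (pnt b)
    rw [hflip, bV_symm]
    exact hom_ext (g := bVh (pnt b)) (fun a _ => hbp b a) x
  have hqV : ∀ x, qT z Q (κ x) = decide (qV x = 1) := by
    let dq : V8 →+ ZMod 2 := AddMonoidHom.mk'
      (fun x => (if qT z Q (κ x) = true then 1 else 0) + qV x) fun x y => by
        have hb := hbV x y
        change (if bT z Q (κ x) (κ y) = true then (1 : ZMod 2) else 0) = bV x y at hb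
        rw [qV_add, hadd, H.qT_mul, ← hb]
        generalize qV x = a
        generalize qV y = b
        revert a b
        cases qT z Q (κ x) <;> cases qT z Q (κ y) <;> cases bT z Q (κ x) (κ y) <;> decide
    intro x
    have h0 : dq x = (0 : V8 →+ ZMod 2) x := hom_ext (fun a _ => by
      show (if qT z Q (κ (pnt a)) = true then 1 else 0) + qV (pnt a) = (0 : ZMod 2)
      have hq : qT z Q (κ (pnt a)) = false := by
        rw [hκv]
        show qT z Q (ac Q _ v) = false
        rw [H.qT_ac (H'.lift _).choose_spec.1, Bool.eq_false_iff, hvd, Ne, H.qT_cl hmem,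
          (H.st.conj g).zz]
        exact H.zne.symm
      rw [qV_pnt, hq]; rfl) x
    change (if qT z Q (κ x) = true then 1 else 0) + qV x = (0 : ZMod 2) at h0
    revert h0
    generalize qV x = a
    cases qT z Q (κ x) <;> revert a <;> decide
  refine ⟨κ, H', ⟨hbij, hadd, heq, hqV, fun x y => ?_, ?_, ?_⟩, hκ0⟩
  · have := hbV x y
    change (if bT z Q (κ x) (κ y) = true then (1 : ZMod 2) else 0) = bV x y at this
    rw [← this]
    cases bT z Q (κ x) (κ y) <;> decide
  · intro h hhQ hhne
    obtain ⟨s', hs', hA2⟩ := H'.Ap_full hhQ hhne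
    obtain ⟨x, hx⟩ := hbij.2 (cl Q (h * z * h⁻¹))
    choose d hd using fun i => s3_conj (s' i) (hs' i).1 (hs' i).2
    have hfix : ∀ i, act (sgl i tt) (act d x) = act d x := by
      intro i
      obtain ⟨b, hb, hbi⟩ := (H'.mem_Ap hhQ hhne).1 ((hA2 (sgl i (s' i))).2 fun j => by
        by_cases hj : j = i
        · subst hj; exact Or.inr (sgl_self _ _)
        · exact Or.inl (sgl_ne hj _))
      have h1 : act (sgl i (s' i)) x = x := by
        refine hbij.1 ?_
        rw [← hbi, ← heq b hb.2, hx, H.ac_cl hb.2 hhQ,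
          mul_inv_eq_iff_eq_mul.2 ((H.st.conj h).z_comm hb.1)]
      have hco : ∀ m n y, act m (act n y) = act (m * n) y := fun m n y => by
        refine hbij.1 (?_ : κ _ = κ _)
        show Additive.toMul (k1 _) = Additive.toMul (k1 _)
        rw [← hequiv, ← hequiv, ← hequiv, hEm]
      calc act (sgl i tt) (act d x) = act (d * sgl i (s' i)) x := by
            rw [hco]; congr 1; funext j
            simp only [Pi.mul_apply]
            by_cases hj : j = i
            · subst hj; rw [sgl_self, sgl_self, ← hd j]; group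
            · rw [sgl_ne hj, sgl_ne hj]; group
        _ = act d x := by rw [← hco, h1]
    have hx0 : act d x ≠ 0 := by
      intro h0
      refine H'.cl_v_ne hhQ hhne ?_
      rw [← hx]
      obtain ⟨dc, hdc, hdi⟩ := H'.lift d
      refine (H.ac_inj hdc (?_ : ac Q dc (κ x) = ac Q dc 1))
      rw [heq dc hdc, hdi, h0, H.ac_one_t hdc]
      show Additive.toMul (k1 0) = 1
      rw [map_zero]; rfl
    rcases fixed_tt _ (hfix 0) (hfix 1) (hfix 2) with e | e
    · exact absurd e hx0
    · refine ⟨fun i => (d i)⁻¹ 0, ?_⟩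
      rw [← hx, hκm (fun i => (d i)⁻¹) (fun _ => 0)]
      show κ x = H'.actM d⁻¹ (κ (pnt 0))
      rw [← e]
      show Additive.toMul (k1 x) = H'.actM d⁻¹ (Additive.toMul (k1 (act d x)))
      rw [← hequiv]
      have := hEm d⁻¹ d (k1 x)
      rw [inv_mul_cancel, hE1] at this
      exact congrArg Additive.toMul this
  · intro q hq a ha
    obtain ⟨c₀, hc₀, hci⟩ := H'.lift fun i => hsel (a i)
    rw [hκv, ← hci, ← H'.actM_spec hc₀, hvd, H.ac_cl hc₀ hmem,
      H.cl_eq_iff hq (H.conjQ hc₀ hmem)] at ha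
    have hconj : IsConj z (c₀ * (g * z * g⁻¹) * c₀⁻¹) :=
      isConj_iff.2 ⟨c₀ * g, by group⟩
    rcases ha with e | e
    · exact e ▸ hconj
    · obtain ⟨u, hu, hue⟩ := H.st.exists_move (H.conjQ hc₀ hmem)
        (fun e1 => (H.st.conj g).ne_one (by simpa using e1)) (fun e1 => hne (by
          calc g * z * g⁻¹ = c₀⁻¹ * (c₀ * (g * z * g⁻¹) * c₀⁻¹) * c₀ := by group
            _ = c₀⁻¹ * (c₀ * z) := by rw [e1, mem_Cz.1 hc₀]; group
            _ = z := inv_mul_cancel_left _ _))
      exact hconj.trans (isConj_iff.2 ⟨u, by rw [hue, e]⟩)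

end Pre

end CfsgLib.OmegaEightCent
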