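import Mathlib

/-!
`Sym 3 × Sym 3 × Sym 3` acting on the tensor product of three natural modules over the field with two elements.
-/

set_option autoImplicit false
set_option linter.unusedSectionVars false

namespace CfsgLib.OmegaEightCent

open Equiv (Perm swap)

/-- the symmetric group of degree three -/
abbrev S3 : Type := Perm (Fin 3)

/-- three copies of the symmetric group of degree three -/
abbrev M0 : Type := Fin 3 → S3

/-- the transposition fixing the first point -/
def tt : S3 := swap 1 2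

/-- the transposition fixing the second point -/
def tt' : S3 := swap 0 2

/-- the transposition exchanging the first two points -/
def ss : S3 := swap 0 1

/-- the three-cycle -/
def rr : S3 := swap 0 1 * swap 1 2

/-- an element concentrated in one coordinate -/
def sgl (i : Fin 3) (s : S3) : M0 := fun j => if j = i then s else 1

theorem sgl_self (i : Fin 3) (s : S3) : sgl i s i = s := if_pos rfl

theorem sgl_ne {i j : Fin 3} (h : j ≠ i) (s : S3) : sgl i s j = 1 := if_neg h

theorem sgl_mul (i : Fin 3) (s t : S3) : sgl i (s * t) = sgl i s * sgl i t := by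
  funext j
  by_cases h : j = i <;> simp [sgl, h]

theorem sgl_one (i : Fin 3) : sgl i (1 : S3) = 1 := by
  funext j
  simp [sgl]

theorem sgl_inj (i : Fin 3) {s t : S3} (h : sgl i s = sgl i t) : s = t := by
  simpa [sgl_self] using congrFun h i

theorem sgl_comm {i j : Fin 3} (h : i ≠ j) (s t : S3) : sgl i s * sgl j t = sgl j t * sgl i s := by
  funext k
  by_cases hi : k = i
  · subst hi
    simp [sgl, h]
  · simp [sgl, hi]

theorem eq_prod_sgl (m : M0) : m = sgl 0 (m 0) * sgl 1 (m 1) * sgl 2 (m 2) := by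
  funext k
  fin_cases k <;> simp [sgl]

theorem s3_sq : ∀ a : S3, a * a * (a * a) = 1 → a * a = 1 := by decide +kernel

theorem s3_two : ∀ s t : S3, s * s = 1 → t * t = 1 → s * t = t * s → s ≠ 1 → t ≠ 1 → s = t := by
  decide +kernel

theorem s3_self_norm (s y : S3) : s * s = 1 → s ≠ 1 → y * y * y = 1 → y * s * y⁻¹ = s → y = 1 := by
  have h : ∀ s y : S3, (s * s = 1 ∧ s ≠ 1 ∧ y * y * y = 1 ∧ y * s * y⁻¹ = s) → y = 1 := by decide +kernel
  exact fun a b c d => h s y ⟨a, b, c, d⟩

theorem s3_conj : ∀ s : S3, s * s = 1 → s ≠ 1 → ∃ c : S3, c * s * c⁻¹ = tt := by decide +kernel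

theorem s3_odd_inv : ∀ s : S3, s * s = 1 → s ≠ 1 → ∃ y : S3, y * y * y = 1 ∧ y ≠ 1 ∧
    s * y * s = y⁻¹ := by decide +kernel

theorem s3_card : Nat.card S3 = 6 := by rw [Nat.card_perm]; simp [Nat.factorial]

theorem tt_facts : tt * tt = 1 ∧ tt ≠ 1 ∧ tt' * tt' = 1 ∧ tt' ≠ 1 ∧ tt ≠ tt' ∧ tt * tt' * tt = ss ∧
    tt' * tt * tt' = ss ∧ tt * tt' ≠ tt' * tt := by decide +kernel

/-- elementary subgroups are coordinatewise small -/
theorem elem_coord (A : Subgroup M0) (hsq : ∀ a ∈ A, a * a = 1) :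
    ∃ s : M0, (∀ i, s i * s i = 1) ∧ ∀ a ∈ A, ∀ i, a i = 1 ∨ a i = s i := by
  have hc : ∀ a ∈ A, ∀ b ∈ A, a * b = b * a := fun a ha b hb => by
    calc a * b = a⁻¹ * b⁻¹ := by
          rw [inv_eq_of_mul_eq_one_right (hsq a ha), inv_eq_of_mul_eq_one_right (hsq b hb)]
      _ = (b * a)⁻¹ := (mul_inv_rev _ _).symm
      _ = b * a := inv_eq_of_mul_eq_one_right (hsq _ (A.mul_mem hb ha))
  have : ∀ i, ∃ s : S3, s * s = 1 ∧ ∀ a ∈ A, a i = 1 ∨ a i = s := fun i => by
    by_cases h : ∃ a ∈ A, a i ≠ 1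
    · obtain ⟨b, hb, hb1⟩ := h
      refine ⟨b i, congrFun (hsq b hb) i, fun a ha => or_iff_not_imp_left.2 fun ha1 => ?_⟩
      exact s3_two _ _ (congrFun (hsq a ha) i) (congrFun (hsq b hb) i) (congrFun (hc a ha b hb) i) ha1 hb1
    · push Not at h
      exact ⟨1, one_mul 1, fun a ha => Or.inl (h a ha)⟩
  choose s hs using this
  exact ⟨s, fun i => (hs i).1, fun a ha i => (hs i).2 a ha⟩

/-- elementary subgroups have order at most eight -/
theorem card_elem_le (A : Subgroup M0) (hsq : ∀ a ∈ A, a * a = 1) : Nat.card A ≤ 8 := by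
  classical
  obtain ⟨s, -, hs⟩ := elem_coord A hsq
  refine le_trans (Nat.card_le_card_of_injective (β := Fin 3 → Bool)
    (fun a i => decide ((a : M0) i = 1)) fun a b h => Subtype.ext (funext fun i => ?_)) (by simp)
  have e := congrFun h i
  simp only [decide_eq_decide] at e
  rcases hs a a.2 i with h1 | h1 <;> rcases hs b b.2 i with h2 | h2 <;> rw [h1, h2]
  · exact (h2 ▸ e.1 h1).symm
  · exact h1 ▸ e.2 h2

/-- an elementary subgroup of order eight is a product of three subgroups of order two -/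
theorem elem_full (A : Subgroup M0) (hsq : ∀ a ∈ A, a * a = 1) (hA : 8 ≤ Nat.card A) :
    ∃ s : M0, (∀ i, s i * s i = 1 ∧ s i ≠ 1) ∧ ∀ m, m ∈ A ↔ ∀ i, m i = 1 ∨ m i = s i := by
  classical
  obtain ⟨s, hs1, hs⟩ := elem_coord A hsq
  let f : A → (Fin 3 → Bool) := fun a i => decide ((a : M0) i = 1)
  have hf : Function.Injective f := fun a b h => Subtype.ext (funext fun i => by
    have e := congrFun h i
    simp only [f, decide_eq_decide] at e
    rcases hs a a.2 i with h1 | h1 <;> rcases hs b b.2 i with h2 | h2 <;> rw [h1, h2]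
    · exact (h2 ▸ e.1 h1).symm
    · exact h1 ▸ e.2 h2)
  have hb : Function.Bijective f :=
    (Nat.bijective_iff_injective_and_card f).2 ⟨hf, le_antisymm (by simpa using card_elem_le A hsq)
      (by simpa using hA)⟩
  refine ⟨s, fun i => ⟨hs1 i, fun h => ?_⟩, fun m => ⟨fun hm => hs m hm, fun hm => ?_⟩⟩
  · obtain ⟨a, ha⟩ := hb.2 (fun _ => false)
    have := congrFun ha i
    simp only [f, decide_eq_false_iff_not] at this
    rcases hs a a.2 i with h1 | h1
    · exact this h1
    · exact this (h1.trans h)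
  · obtain ⟨a, ha⟩ := hb.2 (fun i => decide (m i = 1))
    have : (a : M0) = m := funext fun i => by
      have e := congrFun ha i
      simp only [f, decide_eq_decide] at e
      rcases hs a a.2 i with h1 | h1 <;> rcases hm i with h2 | h2 <;> rw [h1, h2]
      · exact (h2 ▸ e.1 h1).symm
      · exact h1 ▸ e.2 h2
    exact this ▸ a.2

/-- elements of order three normalising such a subgroup -/
theorem norm_three {A : Subgroup M0} {s : M0} (hs : ∀ i, s i * s i = 1 ∧ s i ≠ 1)
    (hA : ∀ m, m ∈ A ↔ ∀ i, m i = 1 ∨ m i = s i) {y : M0} (hy : y * y * y = 1)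
    (hn : ∀ m ∈ A, y * m * y⁻¹ ∈ A) : y = 1 := by
  funext i
  have hm : sgl i (s i) ∈ A := (hA _).2 fun j => by
    by_cases h : j = i
    · subst h; exact Or.inr (sgl_self _ _)
    · exact Or.inl (sgl_ne h _)
  have h := (hA _).1 (hn _ hm) i
  rw [Pi.mul_apply, Pi.mul_apply, Pi.inv_apply, sgl_self] at h
  refine s3_self_norm (s i) (y i) (hs i).1 (hs i).2 (congrFun hy i) (h.resolve_left fun e => (hs i).2 ?_)
  calc s i = (y i)⁻¹ * (y i * s i * (y i)⁻¹) * y i := by group
    _ = 1 := by rw [e]; group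

end CfsgLib.OmegaEightCent
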