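import Cfsg.Agent.Lib.OmegaEightCent.Basis

/-!
An element of order three attached to two opposite conjugates in `Q`, and the involutions it produces.
-/

set_option autoImplicit false
set_option linter.unusedSectionVars false
set_option linter.style.haveILetI false
set_option maxHeartbeats 1000000
set_option synthInstance.maxSize 2000

open Cfsg CfsgLib.Extraspecial
open Equiv (Perm swap)

namespace CfsgLib.OmegaEightCent

variable {G : Type*} [Group G]

/-- two opposite conjugates, the element of order three and its fixed elements -/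
structure Half (z : G) (Q : Subgroup G) (κ : V8 → T Q) (v u r : G) (a : Fin 3 → G) : Prop where
  vQ : v ∈ Q
  uQ : u ∈ Q
  cv : cl Q v = κ (pnt 0)
  cu : cl Q u = κ (pnt 1)
  uconj : IsConj z u
  u2 : u * u = 1
  uv : u * v * u = z * v
  r3 : r * r * r = 1
  rz : r * z * r⁻¹ = v
  rv : r * v * r⁻¹ = z * v
  ru : u * r * u = r⁻¹
  aQ : ∀ i, a i ∈ Q
  ca : ∀ i, cl Q (a i) = κ (pnt (xA i))
  ar : ∀ i, r * a i * r⁻¹ = a i

/-- the involutions produced -/
abbrev nn (r : G) (c : Fin 3 → G) (i : Fin 3) : G := r * c i * r⁻¹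

/-- the action of the produced involution -/
structure Table (z v u : G) (a c : Fin 3 → G) (p : G) (i : Fin 3) : Prop where
  two : p * p = 1
  conj : IsConj z p
  pz : Commute p z
  pv : Commute p v
  pa : ∀ j, j ≠ i → Commute p (a j)
  pai : p * a i * p = v * a i
  pci : Commute p (c i)
  pu : p * u * p = u * c i
  pc : ∀ j k, j ≠ i → k ≠ i → k ≠ j → p * c j * p = c j * a k

theorem two_of_conj {z x : G} (hz : z * z = 1) (h : IsConj z x) : x * x = 1 := by
  obtain ⟨k, rfl⟩ := isConj_iff.1 h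
  calc k * z * k⁻¹ * (k * z * k⁻¹) = k * (z * z) * k⁻¹ := by group
    _ = 1 := by rw [hz]; group

theorem half_idx : ∀ i : Fin 3, bV (pnt (xA i)) (pnt 1) = 0 ∧ bV (pnt 0 + pnt (xA i)) (pnt 1) = 1 ∧
    bV (pnt (xA i)) (pnt 0) = 0 ∧ bV (pnt (xC i)) (pnt 1) = 0 ∧ bV (pnt (xC i)) (pnt 0) = 0 ∧
    bV (pnt (xA i)) (pnt (xC i)) = 1 ∧ act (sgl i tt) (pnt (xC i)) = pnt (xC i) ∧
    act (sgl i tt) (pnt 1) = pnt 1 + pnt (xC i) := by decide +kernel

theorem idx_two : ∀ i j : Fin 3, j ≠ i → bV (pnt (xA i)) (pnt (xC j)) = 0 ∧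
    bV (pnt (xC i)) (pnt (xC j)) = 0 := by decide +kernel

theorem idx_aa : ∀ i j : Fin 3, bV (pnt (xA i)) (pnt (xA j)) = 0 ∧
    bV (pnt (xC i)) (pnt (xC j)) = 0 := by decide +kernel

theorem idx_three : ∀ i j k : Fin 3, j ≠ i → k ≠ i → k ≠ j →
    act (sgl i tt) (pnt (xC j)) = pnt (xC j) + pnt (xA k) := by decide +kernel

theorem tangent_xA : ∀ i l : Fin 3, act (sgl l tt) (pnt (xA i)) = pnt (xA i) ∨
    act (sgl l tt) (pnt (xA i)) = pnt (xA i) + pnt 0 := by decide +kernel

theorem img_pin : ∀ (i : Fin 3) (m : Fin 3 → Bool),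
    (∀ j, act (fun l => bif m l then tt else 1) (pnt (xA j)) =
      if j = i then pnt 0 + pnt (xA j) else pnt (xA j)) →
    ∀ l, m l = decide (l = i) := by decide +kernel

namespace Pre

variable [Finite G] {z : G} {Q : Subgroup G} {π : ↥(Cz z) →* M0} {κ : V8 → T Q} (H : Pre z Q π)
  (C : Coord z Q π κ)
include H C

theorem exists_half {g : G} (hmem : g * z * g⁻¹ ∈ Q) (hne : g * z * g⁻¹ ≠ z)
    (hv : cl Q (g * z * g⁻¹) = κ (pnt 0)) {u : G} (hu : u ∈ Q) (hcu : cl Q u = κ (pnt 1))
    (huc : IsConj z u) : ∃ r a, Half z Q κ (g * z * g⁻¹) u r a := by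
  have hu2 := two_of_conj H.z2 huc
  have hzg : g⁻¹ * z * g ∈ Q := mem_Qc.1 (H.zQc hmem hne)
  have hzgne : g⁻¹ * z * g ≠ z := fun e => hne (by
    calc g * z * g⁻¹ = g * (g⁻¹ * z * g) * g⁻¹ := by rw [e]
      _ = z := by group)
  obtain ⟨a', ha'⟩ := C.pts g⁻¹ (by rwa [inv_inv]) (by rwa [inv_inv])
  rw [inv_inv] at ha'
  obtain ⟨q, hq, hcq, hqc⟩ := C.exists_root H (fun l => if a' l = 0 then 1 else 0)
  have hq2 := two_of_conj H.z2 hqc
  have hanti : q * (g⁻¹ * z * g) * q⁻¹ = z * (g⁻¹ * z * g) := C.anti H hq hzg hcq ha' (by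
    rw [bV_pnt, if_pos]
    · decide
    · have key : ∀ k : Fin 3, (if k = 0 then (1 : Fin 3) else 0) ≠ k := by decide
      exact ⟨key _, key _, key _⟩)
  set v := g * z * g⁻¹ with hvdef
  set u' := g * q * g⁻¹ with hu'
  have hu'2 : u' * u' = 1 := by
    calc g * q * g⁻¹ * (g * q * g⁻¹) = g * (q * q) * g⁻¹ := by group
      _ = 1 := by rw [hq2]; group
  have hu'Q : u' ∈ Qc Q g := mem_Qc.2 (by
    have : g⁻¹ * u' * g = q := by rw [hu']; group
    rwa [this])
  have hu'z : u' * z * u'⁻¹ = v * z := by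
    calc g * q * g⁻¹ * z * (g * q * g⁻¹)⁻¹ = g * (q * (g⁻¹ * z * g) * q⁻¹) * g⁻¹ := by group
      _ = _ := by rw [hanti, hvdef]; group
  have hu'v : u' * v * u'⁻¹ = v := mul_inv_eq_iff_eq_mul.2 ((H.st.conj g).z_comm hu'Q)
  have hzv : v * z = z * v := H.st.z_comm hmem
  have huz : u * z * u⁻¹ = z := mul_inv_eq_iff_eq_mul.2 (H.st.z_comm hu)
  have huv : u * v * u⁻¹ = z * v := C.anti H hu hmem hcu hv (by rw [bV_pnt, if_pos] <;> decide)
  have hv2 : v * v = 1 := (H.st.conj g).zz
  have hui : u⁻¹ = u := inv_eq_of_mul_eq_one_right hu2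
  have hu'i : u'⁻¹ = u' := inv_eq_of_mul_eq_one_right hu'2
  clear_value v u'
  set x := u * u' with hxdef
  have hxz : x * z * x⁻¹ = v := by
    calc x * z * x⁻¹ = u * (u' * z * u'⁻¹) * u⁻¹ := by rw [hxdef]; group
      _ = (u * v * u⁻¹) * (u * z * u⁻¹) := by rw [hu'z]; group
      _ = z * v * z := by rw [huv, huz]
      _ = v := by rw [mul_assoc, hzv, ← mul_assoc, H.z2, one_mul]
  have hxv : x * v * x⁻¹ = z * v := by
    calc x * v * x⁻¹ = u * (u' * v * u'⁻¹) * u⁻¹ := by rw [hxdef]; group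
      _ = _ := by rw [hu'v, huv]
  have hxw : x * (z * v) * x⁻¹ = z := by
    calc x * (z * v) * x⁻¹ = (x * z * x⁻¹) * (x * v * x⁻¹) := by group
      _ = z := by rw [hxz, hxv, ← mul_assoc, hzv, mul_assoc, hv2, mul_one]
  have h3 : ∀ y, y = z ∨ y = v → x ^ 3 * y * (x ^ 3)⁻¹ = y := by
    intro y hy
    calc x ^ 3 * y * (x ^ 3)⁻¹ = x * (x * (x * y * x⁻¹) * x⁻¹) * x⁻¹ := by
          simp only [pow_succ, pow_zero, one_mul]; group
      _ = y := by rcases hy with rfl | rfl <;> simp only [hxz, hxv, hxw]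
  have hx3C : x ^ 3 ∈ Cz z := mem_Cz.2 (mul_inv_eq_iff_eq_mul.1 (h3 z (Or.inl rfl)))
  have hx24 : x ^ 24 = 1 := by
    have h1 := C.conj_cl H hx3C hmem hv
    rw [h3 v (Or.inr rfl), hv, act_pnt] at h1
    have hm := pnt_inj _ _ (C.bij.1 h1)
    have hsq : img z π (x ^ 3) * img z π (x ^ 3) = 1 := funext fun i => by
      rcases stab_zero _ (congrFun hm i).symm with e | e <;>
        simp only [Pi.mul_apply, Pi.one_apply, e, one_mul, tt_facts.1]
    rw [← H.img_mul hx3C hx3C, H.img_eq_one ((Cz z).mul_mem hx3C hx3C)] at hsq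
    have h4 : ∀ p ∈ Q, p ^ 4 = 1 := fun p hp => by
      rw [show p ^ 4 = p * p * (p * p) by simp only [pow_succ, pow_zero, one_mul, mul_assoc]]
      rcases H.st.sq_cases hp with e | e <;> simp [e, H.z2]
    rw [show x ^ 24 = (x ^ 3 * x ^ 3) ^ 4 by rw [← pow_add, ← pow_mul]]
    exact h4 _ hsq
  set r := x ^ 16 with hr
  have hr3 : r * r * r = 1 := by
    rw [hr, ← pow_add, ← pow_add, show 16 + 16 + 16 = 24 * 2 by rfl, pow_mul, hx24, one_pow]
  have h15 : ∀ y, y = z ∨ y = v → x ^ 15 * y * (x ^ 15)⁻¹ = y := by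
    intro y hy
    have e : Commute (x ^ 3) y := mul_inv_eq_iff_eq_mul.1 (h3 y hy)
    rw [show 15 = 3 * 5 by rfl, pow_mul]
    exact mul_inv_eq_iff_eq_mul.2 (e.pow_left 5).eq
  have hry : ∀ y, y = z ∨ y = v → r * y * r⁻¹ = x * y * x⁻¹ := fun y hy => by
    calc r * y * r⁻¹ = x * (x ^ 15 * y * (x ^ 15)⁻¹) * x⁻¹ := by rw [hr, pow_succ' x 15]; group
      _ = _ := by rw [h15 y hy]
  have hru : u * r * u = r⁻¹ := by
    have e : u * x * u⁻¹ = x⁻¹ := by
      rw [hxdef, mul_inv_rev, hui, hu'i]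
      calc u * (u * u') * u = (u * u) * u' * u := by group
        _ = _ := by rw [hu2, one_mul]
    rw [hr, ← inv_pow, ← e, conj_pow, hui]
  -- the action modulo the two centres
  let W : G → Prop := fun y => y = 1 ∨ y = z ∨ y = v ∨ y = z * v
  have c1 : ∀ t, z * (z * t) = t := fun t => by rw [← mul_assoc, H.z2, one_mul]
  have c2 : ∀ t, v * (v * t) = t := fun t => by rw [← mul_assoc, hv2, one_mul]
  have c3 : ∀ t, v * (z * t) = z * (v * t) := fun t => by rw [← mul_assoc, hzv, mul_assoc]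
  have hWm : ∀ y y', W y → W y' → W (y * y') := by
    rintro y y' (rfl | rfl | rfl | rfl) (rfl | rfl | rfl | rfl) <;>
      simp [W, mul_assoc, c1, c3, H.z2, hv2, hzv]
  let P : G → Prop := fun k => (∀ y, W y → W (k * y * k⁻¹)) ∧
    ∀ e ∈ Ep Q g, ∃ y, W y ∧ k * e * k⁻¹ = y * e
  have hPx : P x := by
    refine ⟨?_, fun e he => ?_⟩
    · rintro y (rfl | rfl | rfl | rfl)
      · left; group
      · exact Or.inr (Or.inr (Or.inl hxz))
      · exact Or.inr (Or.inr (Or.inr hxv))
      · exact Or.inr (Or.inl hxw)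
    · have e0 : x * e * x⁻¹ = u * (u' * e * u'⁻¹) * u⁻¹ := by rw [hxdef]; group
      rcases (H.st.conj g).comm_cases hu'Q he.2 with h | h <;> rw [h] at e0
      · rcases H.st.comm_cases hu he.1 with h' | h' <;> rw [h'] at e0
        · exact ⟨1, Or.inl rfl, by rw [e0, one_mul]⟩
        · exact ⟨z, Or.inr (Or.inl rfl), e0⟩
      · have e1 : x * e * x⁻¹ = (u * v * u⁻¹) * (u * e * u⁻¹) := by rw [e0, hvdef]; group
        rw [huv] at e1
        rcases H.st.comm_cases hu he.1 with h' | h' <;> rw [h'] at e1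
        · exact ⟨z * v, Or.inr (Or.inr (Or.inr rfl)), e1⟩
        · exact ⟨v, Or.inr (Or.inr (Or.inl rfl)), by rw [e1, mul_assoc, c3, c1]⟩
  have hPm : ∀ k l, P k → P l → P (k * l) := by
    intro k l hk hl
    refine ⟨fun y hy => ?_, fun e he => ?_⟩
    · have := hk.1 _ (hl.1 y hy)
      rwa [show k * l * y * (k * l)⁻¹ = k * (l * y * l⁻¹) * k⁻¹ by group]
    · obtain ⟨y, hy, e1⟩ := hl.2 e he
      obtain ⟨y', hy', e2⟩ := hk.2 e he
      exact ⟨_, hWm _ _ (hk.1 y hy) hy', by
        calc k * l * e * (k * l)⁻¹ = k * (l * e * l⁻¹) * k⁻¹ := by group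
          _ = (k * y * k⁻¹) * (k * e * k⁻¹) := by rw [e1]; group
          _ = _ := by rw [e2]; group⟩
  have hPn : ∀ n : ℕ, P (x ^ n) := by
    intro n
    induction n with
    | zero => exact ⟨fun y hy => by simpa using hy, fun e _ => ⟨1, Or.inl rfl, by simp⟩⟩
    | succ n ih => rw [pow_succ]; exact hPm _ _ ih hPx
  have hWE : ∀ y, W y → y ∈ Ep Q g := by
    subst hvdef
    rintro y (rfl | rfl | rfl | rfl)
    exacts [one_mem _, H.z_Ep hmem hne, H.v_Ep hmem hne,
      (Ep Q g).mul_mem (H.z_Ep hmem hne) (H.v_Ep hmem hne)]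
  have hfix : ∀ i, ∃ f ∈ Q, cl Q f = κ (pnt (xA i)) ∧ r * f * r⁻¹ = f := by
    intro i
    obtain ⟨e, heQ, hce, -⟩ := C.exists_root H (xA i)
    subst hvdef
    have he : e ∈ Ep Q g := (C.Ep_iff H hmem hne hv heQ hce).2 (tangent_xA i)
    obtain ⟨y1, hy1, e1⟩ := (hPn 16).2 e he
    obtain ⟨y2, hy2, e2⟩ := (hPm _ _ (hPn 16) (hPn 16)).2 e he
    rw [← hr] at e1 e2
    set f := e * (r * e * r⁻¹) * (r * r * e * (r * r)⁻¹) with hf
    have hmem1 : r * e * r⁻¹ ∈ Ep Q g := e1 ▸ (Ep Q g).mul_mem (hWE _ hy1) he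
    have hmem2 : r * r * e * (r * r)⁻¹ ∈ Ep Q g := e2 ▸ (Ep Q g).mul_mem (hWE _ hy2) he
    have hfE : f ∈ Ep Q g := (Ep Q g).mul_mem ((Ep Q g).mul_mem he hmem1) hmem2
    have hfr : r * f * r⁻¹ = f := by
      have h : r * f * r⁻¹ = (r * e * r⁻¹) * (r * r * e * (r * r)⁻¹) * e := by
        calc r * f * r⁻¹ = (r * e * r⁻¹) * (r * r * e * (r * r)⁻¹) *
              ((r * r * r) * e * (r * r * r)⁻¹) := by rw [hf]; group
          _ = _ := by rw [hr3]; group
      rw [h, hf, H.Ep_comm hmem hne ((Ep Q g).mul_mem hmem1 hmem2) he, mul_assoc e]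
    have hfy : f = (y1 * y2) * e := by
      rw [hf, e1, e2]
      have hc1 := H.Ep_comm hmem hne (hWE _ hy1) he
      have hc2 := H.Ep_comm hmem hne (hWE _ hy2) he
      calc e * (y1 * e) * (y2 * e) = (e * y1) * (e * y2) * e := by group
        _ = (y1 * e) * (y2 * e) * e := by rw [← hc1, ← hc2]
        _ = y1 * (e * y2) * (e * e) := by group
        _ = (y1 * y2 * e) * 1 := by rw [← hc2, H.Ep_sq hmem hne he]; group
        _ = _ := mul_one _
    refine ⟨f, hfE.1, ?_, hfr⟩
    have hcw : cl Q (y1 * y2) = κ 0 ∨ cl Q (y1 * y2) = κ (pnt 0) := by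
      rcases hWm _ _ hy1 hy2 with h | h | h | h <;> rw [h]
      · left; rw [C.zero H, cl_one]
      · left; rw [C.zero H, H.cl_z]
      · right; exact hv
      · right; rw [cl_mul H.zQ hmem, H.cl_z, one_mul, hv]
    have huf : Commute u f := by
      rcases H.st.comm_cases hu hfE.1 with h | h
      · exact mul_inv_eq_iff_eq_mul.1 h
      · exfalso
        have h2 : r * (z * f) * r⁻¹ = z * f := by
          rw [← h]
          calc r * (u * f * u⁻¹) * r⁻¹ = u * ((u * r * u) * f * (u * r * u)⁻¹) * u⁻¹ := by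
                simp only [hui, mul_inv_rev]
                calc r * (u * f * u) * r⁻¹ = (u * u) * r * (u * f * u) * r⁻¹ * (u * u) := by
                      rw [hu2, one_mul, mul_one]
                  _ = _ := by group
            _ = u * f * u⁻¹ := by
              rw [hru, inv_inv]
              congr 2
              calc r⁻¹ * f * r = r⁻¹ * (r * f * r⁻¹) * r := by rw [hfr]
                _ = f := by group
        rw [show r * (z * f) * r⁻¹ = (r * z * r⁻¹) * (r * f * r⁻¹) by group, hfr, hry z (Or.inl rfl),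
          hxz] at h2
        exact hne (mul_right_cancel h2)
    have hb := hfy ▸ cl_mul (hWE _ (hWm _ _ hy1 hy2)).1 heQ
    rcases hcw with h | h <;> rw [h, hce, ← C.add] at hb
    · rwa [zero_add] at hb
    · exact absurd ((half_idx i).2.1.symm.trans
        ((C.comm_iff H hfE.1 hu hb hcu).1 huf.symm.eq)) (by decide)
  choose f hfQ hfc hfr using hfix
  refine ⟨r, f, hmem, hu, hv, hcu, huc, hu2, by rwa [hui] at huv, hr3, ?_, ?_, hru, hfQ, hfc, hfr⟩
  · rw [hry z (Or.inl rfl), hxz]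
  · rw [hry v (Or.inr rfl), hxv]

end Pre

namespace Half

variable [Finite G] {z : G} {Q : Subgroup G} {π : ↥(Cz z) →* M0} {κ : V8 → T Q} {v u r : G}
  {a : Fin 3 → G} (F : Half z Q κ v u r a) (H : Pre z Q π) (C : Coord z Q π κ)
include F H C

theorem v_ne : v ≠ z := fun e => by
  have := F.cv
  rw [e, H.cl_z, ← C.zero H] at this
  exact pnt_ne 0 (C.bij.1 this).symm

theorem rmem : r * z * r⁻¹ ∈ Q := F.rz ▸ F.vQ

theorem rne : r * z * r⁻¹ ≠ z := F.rz ▸ F.v_ne H C

theorem rcl : cl Q (r * z * r⁻¹) = κ (pnt 0) := F.rz ▸ F.cv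

theorem aE (i : Fin 3) : a i ∈ Ep Q r :=
  (C.Ep_iff H (F.rmem H C) (F.rne H C) (F.rcl H C) (F.aQ i) (F.ca i)).2 (tangent_xA i)

theorem a2 (i : Fin 3) : a i * a i = 1 := H.Ep_sq (F.rmem H C) (F.rne H C) (F.aE H C i)

theorem ua (i : Fin 3) : Commute u (a i) := (C.comm' H (F.aQ i) F.uQ (F.ca i) F.cu (half_idx i).1).symm

theorem va (i : Fin 3) : Commute v (a i) :=
  (C.comm' H (F.aQ i) F.vQ (F.ca i) F.cv (half_idx i).2.2.1).symm

variable {c : Fin 3 → G} (hc : ∀ i, c i ∈ Q) (hcc : ∀ i, cl Q (c i) = κ (pnt (xC i)))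
include hc hcc

/-- the produced involution fixes `z`, lies in the conjugate of `Q` and induces a standard transposition -/
theorem nn_img (i : Fin 3) : nn r c i ∈ Bp z Q r ∧ img z π (nn r c i) = sgl i tt := by
  have hrQ : nn r c i ∈ Qc Q r := mem_Qc.2 (by
    have : r⁻¹ * nn r c i * r = c i := by rw [nn]; group
    rw [this]; exact hc i)
  have hzc : Commute (c i) (z * v) := (H.z_commute (hc i)).symm.mul_right
    (C.comm' H (hc i) F.vQ (hcc i) F.cv (half_idx i).2.2.2.2.1)
  have e : r * (z * v) * r⁻¹ = z := by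
    calc r * (z * v) * r⁻¹ = (r * z * r⁻¹) * (r * v * r⁻¹) := by group
      _ = v * (z * v) := by rw [F.rz, F.rv]
      _ = z * (v * v) := by rw [← mul_assoc, H.st.z_comm F.vQ, mul_assoc]
      _ = z := by
        have := (H.st.conj r).zz
        rw [F.rz] at this
        rw [this, mul_one]
  have hnC : nn r c i ∈ Cz z := by
    rw [mem_Cz]
    calc nn r c i * z = r * c i * r⁻¹ * (r * (z * v) * r⁻¹) := by rw [e]
      _ = r * (c i * (z * v)) * r⁻¹ := by group
      _ = r * (z * v) * r⁻¹ * (r * c i * r⁻¹) := by rw [hzc.eq]; group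
      _ = _ := by rw [e]
  refine ⟨⟨hrQ, hnC⟩, ?_⟩
  have hm := (C.Ap_iff H (F.rmem H C) (F.rne H C) (F.rcl H C) (img z π (nn r c i))).1
    ((H.mem_Ap (F.rmem H C) (F.rne H C)).2 ⟨_, ⟨hrQ, hnC⟩, rfl⟩)
  obtain ⟨m, hmeq⟩ : ∃ m : Fin 3 → Bool, img z π (nn r c i) = fun l => bif m l then tt else 1 := by
    refine ⟨fun l => decide (img z π (nn r c i) l = tt), funext fun l => ?_⟩
    rcases hm l with e | e <;> simp [e, Ne.symm tt_facts.2.1]
  have hact : ∀ j, cl Q (nn r c i * a j * (nn r c i)⁻¹) =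
      κ (if j = i then pnt 0 + pnt (xA j) else pnt (xA j)) := by
    intro j
    have e1 : nn r c i * a j * (nn r c i)⁻¹ = r * (c i * a j * (c i)⁻¹) * r⁻¹ := by
      conv_lhs => rw [← F.ar j]
      rw [nn]; group
    by_cases hji : j = i
    · subst hji
      rw [if_pos rfl, e1, C.anti H (hc j) (F.aQ j) (hcc j) (F.ca j)
        (by rw [bV_symm, (half_idx j).2.2.2.2.2.1]; decide),
        show r * (z * a j) * r⁻¹ = (r * z * r⁻¹) * (r * a j * r⁻¹) by group, F.rz, F.ar]
      exact C.cl_mul' H F.vQ (F.aQ j) F.cv (F.ca j)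
    · rw [if_neg hji, e1, mul_inv_eq_iff_eq_mul.2
        (C.comm' H (hc i) (F.aQ j) (hcc i) (F.ca j) (by rw [bV_symm]; exact (idx_two j i (Ne.symm hji)).1)).eq,
        F.ar]
      exact F.ca j
  have hp := img_pin i m (fun j => by
    have h1 := C.conj_cl H hnC (F.aQ j) (F.ca j)
    rw [hact j, hmeq] at h1
    exact (C.bij.1 h1).symm)
  rw [hmeq]
  funext l
  rw [hp l]
  by_cases hl : l = i
  · subst hl; simp [sgl_self]
  · simp [sgl_ne hl, hl]

/-- the exact action of the produced involutions -/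
theorem table (hcconj : ∀ i, IsConj z (c i)) (i : Fin 3) : Table z v u a c (nn r c i) i := by
  have hz2 := H.z2
  have c2 : ∀ l, c l * c l = 1 := fun l => two_of_conj hz2 (hcconj l)
  have n2 : ∀ l, nn r c l * nn r c l = 1 := fun l => by
    rw [nn]
    calc r * c l * r⁻¹ * (r * c l * r⁻¹) = r * (c l * c l) * r⁻¹ := by group
      _ = 1 := by rw [c2]; group
  obtain ⟨hnB, hni⟩ := F.nn_img H C hc hcc i
  have hnv : Commute (nn r c i) v := by
    have := (H.st.conj r).z_comm hnB.1
    rwa [F.rz] at this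
  have rri : r * r = r⁻¹ := eq_inv_of_mul_eq_one_left F.r3
  have uci : ∀ l, u * c l * u = c l := fun l => by
    rw [(C.comm' H F.uQ (hc l) F.cu (hcc l) (by rw [bV_symm]; exact (half_idx l).2.2.2.1)).eq, mul_assoc,
      F.u2, mul_one]
  have hzu : ∀ t, u * (z * t) * u = z * (u * t * u) := fun t => by
    rw [← mul_assoc u z, H.st.z_comm F.uQ]; group
  -- the third element of an orbit
  have hx2 : ∀ l, u * nn r c l * u = r⁻¹ * c l * r := by
    intro l
    have hru' : u * r⁻¹ * u = r := by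
      rw [← F.ru]
      calc u * (u * r * u) * u = (u * u) * r * (u * u) := by group
        _ = r := by rw [F.u2, one_mul, mul_one]
    calc u * nn r c l * u = (u * r * u) * (u * c l * u) * (u * r⁻¹ * u) := by
          calc u * (r * c l * r⁻¹) * u
              = u * r * 1 * c l * 1 * r⁻¹ * u := by group
            _ = u * r * (u * u) * c l * (u * u) * r⁻¹ * u := by rw [F.u2]
            _ = _ := by group
      _ = _ := by rw [F.ru, uci, hru']
  have hx2r : ∀ l, r * nn r c l * r⁻¹ = r⁻¹ * c l * r := fun l => by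
    calc r * (r * c l * r⁻¹) * r⁻¹ = (r * r) * c l * (r * r)⁻¹ := by group
      _ = _ := by rw [rri, inv_inv]
  have hnC := hnB.2
  set p := nn r c i with hpdef
  have hpi : p⁻¹ = p := inv_eq_of_mul_eq_one_right (n2 i)
  have hcls : ∀ q x, q ∈ Q → cl Q q = κ x → cl Q (p * q * p) = κ (act (sgl i tt) x) := fun q x hq hx => by
    have := C.conj_cl H hnC hq hx
    rwa [hni, hpi] at this
  have hQp : ∀ q, q ∈ Q → p * q * p ∈ Q := fun q hq => by
    have := H.conjQ hnC hq; rwa [hpi] at this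
  have hrz' : r * z * r⁻¹ = v := F.rz
  have hvz : v ≠ z := F.v_ne H C
  -- commuting with the starting element
  have hpc : Commute p (c i) := by
    rcases C.eq_or H (hQp _ (hc i)) (hc i) (by rw [hcls _ _ (hc i) (hcc i), (half_idx i).2.2.2.2.2.2.1])
      (hcc i) with e | e
    · show p * c i = c i * p
      calc p * c i = p * c i * (p * p) := by rw [n2, mul_one]
        _ = (p * c i * p) * p := by group
        _ = _ := by rw [e]
    · exfalso
      have d0 : p * c i * (p * c i) = z := by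
        rw [← mul_assoc, e, mul_assoc, c2, mul_one]
      have d1 : (r⁻¹ * c i * r) * c i * ((r⁻¹ * c i * r) * c i) = z := by
        rw [← hx2 i]
        calc u * p * u * c i * (u * p * u * c i) = u * p * (u * c i * u) * p * (u * c i * 1) := by
              rw [mul_one]; group
          _ = u * p * (u * c i * u) * p * (u * c i * (u * u)) := by rw [F.u2]
          _ = u * p * (u * c i * u) * p * (u * c i * u) * u := by group
          _ = u * (p * c i * (p * c i)) * u := by rw [uci]; group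
          _ = z := by rw [d0, H.st.z_comm F.uQ, mul_assoc, F.u2, mul_one]
      have d2 : c i * p * (c i * p) = v := by
        have := congrArg (fun t => r * t * r⁻¹) d1
        simp only [hrz'] at this
        rw [← this, hpdef, nn]; group
      have : v = z := by
        rw [← d2]
        calc c i * p * (c i * p) = c i * (p * c i * (p * c i)) * c i := by
              conv_lhs => rw [show c i * p * (c i * p) = c i * p * c i * p * 1 by group, ← c2 i]
              group
          _ = z := by rw [d0, H.st.z_comm (hc i), mul_assoc, c2, mul_one]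
      exact hvz this
  -- the moved element
  have hpu : p * u * p = u * c i := by
    rcases C.eq_or H (hQp _ F.uQ) (Q.mul_mem F.uQ (hc i))
      (by rw [hcls _ _ F.uQ F.cu, (half_idx i).2.2.2.2.2.2.2])
      (C.cl_mul' H F.uQ (hc i) F.cu (hcc i)) with e | e
    · exact e
    · exfalso
      have d0 : c i * p * (r⁻¹ * c i * r) = z := by
        rw [← hx2 i]
        calc c i * p * (u * p * u) = c i * (p * u * p) * u := by group
          _ = c i * z * (u * c i * u) := by rw [e]; group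
          _ = z := by rw [uci, H.st.z_comm (hc i), mul_assoc, c2, mul_one]
      have d1 : p * (r⁻¹ * c i * r) * c i = v := by
        calc p * (r⁻¹ * c i * r) * c i = (r * c i * r⁻¹) * (r * p * r⁻¹) * c i := by
              rw [hx2r i]
          _ = r * (c i * p * (r⁻¹ * c i * r)) * r⁻¹ := by group
          _ = v := by rw [d0, hrz']
      refine hvz ?_
      calc v = p * (r⁻¹ * c i * r) * c i := d1.symm
        _ = (c i)⁻¹ * (c i * p * (r⁻¹ * c i * r)) * c i := by group
        _ = z := by rw [d0, mul_assoc, ← H.st.z_comm (hc i), inv_mul_cancel_left]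
  refine ⟨n2 i, ?_, mem_Cz.1 hnC, hnv, fun j hj => ?_, ?_, hpc, hpu, fun j k hji hki hkj => ?_⟩
  · obtain ⟨h, hh⟩ := isConj_iff.1 (hcconj i)
    exact isConj_iff.2 ⟨r * h, by rw [hpdef, nn, ← hh]; group⟩
  · show p * a j = a j * p
    rw [hpdef]
    conv_lhs => rw [← F.ar j]
    conv_rhs => rw [← F.ar j]
    rw [nn]
    have := (C.comm' H (hc i) (F.aQ j) (hcc i) (F.ca j)
      (by rw [bV_symm]; exact (idx_two j i (Ne.symm hj)).1)).eq
    calc r * c i * r⁻¹ * (r * a j * r⁻¹) = r * (c i * a j) * r⁻¹ := by group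
      _ = _ := by rw [this]; group
  · have hanti := C.anti H (hc i) (F.aQ i) (hcc i) (F.ca i)
      (by rw [bV_symm, (half_idx i).2.2.2.2.2.1]; decide)
    rw [inv_eq_of_mul_eq_one_right (c2 i)] at hanti
    rw [hpdef, nn]
    conv_lhs => rw [← F.ar i]
    calc r * c i * r⁻¹ * (r * a i * r⁻¹) * (r * c i * r⁻¹) = r * (c i * a i * c i) * r⁻¹ := by group
      _ = (r * z * r⁻¹) * (r * a i * r⁻¹) := by rw [hanti]; group
      _ = _ := by rw [hrz', F.ar]
  · rcases C.eq_or H (hQp _ (hc j)) (Q.mul_mem (hc j) (F.aQ k))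
      (by rw [hcls _ _ (hc j) (hcc j), idx_three i j k hji hki hkj])
      (C.cl_mul' H (hc j) (F.aQ k) (hcc j) (F.ca k)) with e | e
    · exact e
    · exfalso
      have hca : Commute (c j) (a k) := (C.comm' H (F.aQ k) (hc j) (F.ca k) (hcc j)
        (idx_two k j hkj.symm).1).symm
      have d0 : p * c j * (p * c j) = z * a k := by
        rw [← mul_assoc, e, mul_assoc, mul_assoc, ← hca.eq, ← mul_assoc (c j), c2, one_mul]
      have hua : u * (z * a k) * u = z * a k := by
        rw [hzu, (F.ua H C k).eq, mul_assoc (a k), F.u2, mul_one]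
      have d1 : (r⁻¹ * c i * r) * c j * ((r⁻¹ * c i * r) * c j) = z * a k := by
        rw [← hx2 i, ← hpdef]
        calc u * p * u * c j * (u * p * u * c j) = u * p * (u * c j * u) * p * (u * c j * 1) := by
              rw [mul_one]; group
          _ = u * p * (u * c j * u) * p * (u * c j * (u * u)) := by rw [F.u2]
          _ = u * p * (u * c j * u) * p * (u * c j * u) * u := by group
          _ = u * (p * c j * (p * c j)) * u := by rw [uci]; group
          _ = _ := by rw [d0, hua]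
      have d2 : c i * nn r c j * (c i * nn r c j) = v * a k := by
        have := congrArg (fun t => r * t * r⁻¹) d1
        rw [show r * (z * a k) * r⁻¹ = (r * z * r⁻¹) * (r * a k * r⁻¹) by group, hrz', F.ar] at this
        rw [← this, nn]; group
      obtain ⟨hqB, hqi⟩ := F.nn_img H C hc hcc j
      set q := nn r c j with hq
      have hqinv : q⁻¹ = q := inv_eq_of_mul_eq_one_right (n2 j)
      have hcl : cl Q (q * c i * q) = κ (pnt (xC i) + pnt (xA k)) := by
        have := C.conj_cl H hqB.2 (hc i) (hcc i)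
        rwa [hqi, hqinv, idx_three j i k hji.symm hkj hki] at this
      have hqQ : q * c i * q ∈ Q := by have := H.conjQ hqB.2 (hc i); rwa [hqinv] at this
      have h3 : c i * (q * c i * q) = v * a k := by rw [← d2]; group
      have hcl2 := cl_mul (hc i) hqQ
      rw [h3, hcl, hcc i, ← C.add, ← add_assoc, two8, zero_add,
        C.cl_mul' H F.vQ (F.aQ k) F.cv (F.ca k)] at hcl2
      exact pnt_ne 0 (by simpa using C.bij.1 hcl2)

end Half

end CfsgLib.OmegaEightCent
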