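import Cfsg.Agent.Lib.OmegaEightCent.Half

/-!
Both halves together: the Levi relations inside the centraliser.
-/

set_option autoImplicit false
set_option linter.unusedSectionVars false
set_option linter.style.haveILetI false
set_option maxHeartbeats 1000000
set_option linter.unusedSimpArgs false
set_option synthInstance.maxSize 2000

open Cfsg CfsgLib.Extraspecial
open Equiv (Perm swap)

namespace CfsgLib.OmegaEightCent

variable {G : Type*} [Group G]

/-- the full frame -/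
structure Fr (z : G) (Q : Subgroup G) (π : ↥(Cz z) →* M0) (κ : V8 → T Q) (v u r s : G)
    (a c : Fin 3 → G) : Prop where
  H : ∀ [Finite G], Pre z Q π
  C : ∀ [Finite G], Coord z Q π κ
  A : Half z Q κ v u r a
  B : Half z Q (fun x => κ (act sAll x)) u v s c

theorem twist_idx : (∀ i, act sAll (pnt (xA i)) = pnt (xC i)) ∧ (∀ i, act sAll (pnt (xC i)) = pnt (xA i)) ∧
    act sAll (pnt 0) = pnt 1 ∧ act sAll (pnt 1) = pnt 0 := by decide +kernel

theorem zp_not_point : ∀ (i : Fin 3) (b : Fin 3 → Fin 3), pnt 0 + pnt (xC i) ≠ pnt b ∧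
    pnt 0 + pnt (xC i) ≠ 0 := by decide +kernel

theorem zp_not_point' : ∀ (i : Fin 3) (b : Fin 3 → Fin 3), pnt 1 + pnt (xA i) ≠ pnt b ∧
    pnt 1 + pnt (xA i) ≠ 0 := by decide +kernel

theorem third : ∀ i j : Fin 3, j ≠ i → ∃ k : Fin 3, k ≠ i ∧ k ≠ j ∧
    ∀ l, l = i ∨ l = j ∨ l = k := by decide

theorem s3_conj_tt : sAll⁻¹ = sAll ∧ (∀ i, sAll * sgl i tt * sAll = sgl i tt') := by decide +kernel

namespace Pre

variable [Finite G] {z : G} {Q : Subgroup G} {π : ↥(Cz z) →* M0} (H : Pre z Q π)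
include H

/-- a frame exists -/
theorem exists_fr {g : G} (hmem : g * z * g⁻¹ ∈ Q) (hne : g * z * g⁻¹ ≠ z) :
    ∃ π' κ v u r s a c, Fr z Q π' κ v u r s a c := by
  obtain ⟨π', κ, H', C, hv⟩ := H.exists_coord hmem hne
  obtain ⟨u, hu, hcu, huc⟩ := C.exists_root H' 1
  obtain ⟨r, a, A⟩ := H'.exists_half C hmem hne hv.symm hu hcu huc
  obtain ⟨k, hk⟩ := isConj_iff.1 huc
  have hkne : k * z * k⁻¹ ≠ z := fun e => by
    rw [← hk, e, H.cl_z, ← C.zero H'] at hcu
    exact pnt_ne 1 (C.bij.1 hcu).symm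
  obtain ⟨s, c, B⟩ := (H'.twist sAll).exists_half (C.flipped H') (g := k) (by rw [hk]; exact hu) hkne
    (by rw [hk, hcu, twist_idx.2.2.1]) hmem (by rw [← hv, twist_idx.2.2.2]) (isConj_iff.2 ⟨g, rfl⟩)
  rw [hk] at B
  exact ⟨π', κ, _, u, r, s, a, c, ⟨H', C, A, B⟩⟩

end Pre

namespace Fr

variable [Finite G] {z : G} {Q : Subgroup G} {π : ↥(Cz z) →* M0} {κ : V8 → T Q} {v u r s : G}
  {a c : Fin 3 → G} (F : Fr z Q π κ v u r s a c)
include F

theorem H' : Pre z Q ((MulAut.conj sAll).toMonoidHom.comp π) := F.H.twist sAll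

theorem cc (i : Fin 3) : cl Q (c i) = κ (pnt (xC i)) := by rw [F.B.ca, twist_idx.1]

theorem cc' (i : Fin 3) : cl Q (a i) = κ (act sAll (pnt (xC i))) := by rw [F.A.ca, twist_idx.2.1]

theorem aconj (i : Fin 3) : IsConj z (a i) := F.C.root _ (F.A.aQ i) _ (F.A.ca i)

theorem cconj (i : Fin 3) : IsConj z (c i) := F.C.root _ (F.B.aQ i) _ (F.cc i)

theorem vconj : IsConj z v := F.B.uconj

/-- the first involutions -/
theorem tn (i : Fin 3) : Table z v u a c (nn r c i) i := F.A.table F.H F.C F.B.aQ F.cc F.cconj i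

/-- the second involutions -/
theorem tm (i : Fin 3) : Table z u v c a (nn s a i) i :=
  F.B.table F.H' (F.C.flipped F.H) F.A.aQ F.cc' F.aconj i

theorem n_C (i : Fin 3) : nn r c i ∈ Cz z := mem_Cz.2 (F.tn i).pz

theorem m_C (i : Fin 3) : nn s a i ∈ Cz z := mem_Cz.2 (F.tm i).pz

theorem n_img (i : Fin 3) : img z π (nn r c i) = sgl i tt := (F.A.nn_img F.H F.C F.B.aQ F.cc i).2

theorem m_img (i : Fin 3) : img z π (nn s a i) = sgl i tt' := by
  have h := (F.B.nn_img F.H' (F.C.flipped F.H) F.A.aQ F.cc' i).2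
  rw [img, dif_pos (F.m_C i)] at h
  rw [img, dif_pos (F.m_C i), ← s3_conj_tt.2 i, ← h]
  show π _ = sAll * (sAll * π _ * sAll⁻¹) * sAll
  rw [s3_conj_tt.1, ← mul_assoc, ← mul_assoc, sAll_facts.1, one_mul, mul_assoc, sAll_facts.1, mul_one]

theorem v2 : v * v = 1 := F.B.u2

theorem a2 (i : Fin 3) : a i * a i = 1 := two_of_conj F.H.z2 (F.aconj i)

theorem c2 (i : Fin 3) : c i * c i = 1 := two_of_conj F.H.z2 (F.cconj i)

theorem comm_ua (i : Fin 3) : Commute u (a i) := F.A.ua F.H F.C i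

theorem comm_va (i : Fin 3) : Commute v (a i) := F.A.va F.H F.C i

theorem comm_vc (i : Fin 3) : Commute v (c i) := F.B.ua F.H' (F.C.flipped F.H) i

theorem comm_uc (i : Fin 3) : Commute u (c i) := F.B.va F.H' (F.C.flipped F.H) i

theorem comm_aa (i j : Fin 3) : Commute (a i) (a j) :=
  F.C.comm' F.H (F.A.aQ i) (F.A.aQ j) (F.A.ca i) (F.A.ca j) (idx_aa i j).1

theorem comm_cc (i j : Fin 3) : Commute (c i) (c j) :=
  F.C.comm' F.H (F.B.aQ i) (F.B.aQ j) (F.cc i) (F.cc j) (idx_aa i j).2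

theorem comm_ac {i j : Fin 3} (h : j ≠ i) : Commute (a i) (c j) :=
  F.C.comm' F.H (F.A.aQ i) (F.B.aQ j) (F.A.ca i) (F.cc j) (idx_two i j h).1

theorem cac (i : Fin 3) : c i * a i * c i = z * a i := by
  have h := F.C.anti F.H (F.B.aQ i) (F.A.aQ i) (F.cc i) (F.A.ca i)
    (by rw [bV_symm, (half_idx i).2.2.2.2.2.1]; decide)
  rwa [inv_eq_of_mul_eq_one_right (F.c2 i)] at h

/-- the generators of `Q` -/
theorem centralises {d : G} (hv : Commute d v) (hu : Commute d u)
    (ha : ∀ i, Commute d (a i)) (hc : ∀ i, Commute d (c i)) (hz : Commute d z) :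
    ∀ q ∈ Q, q * d = d * q := by
  classical
  let D := Q ⊓ Subgroup.centralizer ({d} : Set G)
  have hmem : ∀ q, q ∈ Q → Commute d q → q ∈ D := fun q hq h =>
    ⟨hq, Subgroup.mem_centralizer_singleton_iff.2 h.eq.symm⟩
  let K : AddSubgroup V8 :=
    { carrier := {x | ∃ q ∈ D, cl Q q = κ x}
      zero_mem' := ⟨1, D.one_mem, by rw [cl_one, F.C.zero F.H]⟩
      add_mem' := fun {x y} ⟨p, hp, hx⟩ ⟨q, hq, hy⟩ => ⟨p * q, D.mul_mem hp hq, F.C.cl_mul' F.H hp.1 hq.1 hx hy⟩
      neg_mem' := fun {x} h => by rwa [neg_eq_of_add_eq_zero_left (two8 x)] }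
  have hK : ∀ x, x ∈ K := fun x => by
    rw [← QuotientAddGroup.eq_zero_iff]
    refine hom_ext (f := QuotientAddGroup.mk' K) (g := 0) (fun b hb => ?_) x
    rw [QuotientAddGroup.mk'_apply, AddMonoidHom.zero_apply, QuotientAddGroup.eq_zero_iff]
    have hcases : ∀ b : Fin 3 → Fin 3, (∀ i, b i ≠ 2) →
        b = 0 ∨ b = 1 ∨ (∃ i, b = xA i) ∨ (∃ i, b = xC i) := by decide +kernel
    rcases hcases b hb with rfl | rfl | ⟨i, rfl⟩ | ⟨i, rfl⟩
    · exact ⟨v, hmem v F.A.vQ hv, F.A.cv⟩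
    · exact ⟨u, hmem u F.A.uQ hu, F.A.cu⟩
    · exact ⟨a i, hmem _ (F.A.aQ i) (ha i), F.A.ca i⟩
    · exact ⟨c i, hmem _ (F.B.aQ i) (hc i), F.cc i⟩
  intro q hq
  obtain ⟨x, hx⟩ := F.C.exists_x F.H (q := q)
  obtain ⟨p, hp, hpx⟩ := hK x
  have hpd := Subgroup.mem_centralizer_singleton_iff.1 hp.2
  rcases F.C.eq_or F.H hq hp.1 hx hpx with e | e <;> rw [e]
  · exact hpd
  · rw [mul_assoc, hpd, ← mul_assoc, hz.symm.eq, mul_assoc]

/-- conjugates with the same action are equal -/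
theorem eq_of {p q : G} (hp : IsConj z p) (hpC : p ∈ Cz z) (hqC : q ∈ Cz z) (hq : ¬ IsConj z (z * q))
    (hv : MulAut.conj p v = MulAut.conj q v) (hu : MulAut.conj p u = MulAut.conj q u)
    (ha : ∀ i, MulAut.conj p (a i) = MulAut.conj q (a i))
    (hc : ∀ i, MulAut.conj p (c i) = MulAut.conj q (c i)) : p = q := by
  have key : ∀ x, MulAut.conj p x = MulAut.conj q x → Commute (q⁻¹ * p) x := fun x h => by
    simp only [MulAut.conj_apply] at h
    calc q⁻¹ * p * x = q⁻¹ * (p * x * p⁻¹) * p := by group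
      _ = q⁻¹ * (q * x * q⁻¹) * p := by rw [h]
      _ = _ := by group
  have hz : Commute (q⁻¹ * p) z :=
    ((show Commute q z from mem_Cz.1 hqC).inv_left).mul_left (mem_Cz.1 hpC)
  have hcen := F.centralises (key _ hv) (key _ hu) (fun i => key _ (ha i)) (fun i => key _ (hc i)) hz
  have hmem : q⁻¹ * p ∈ Subgroup.zpowers z := F.H.st.cQ ▸ Subgroup.mem_centralizer_iff.2 hcen
  rcases F.H.st.mem_zpowers hmem with e | e
  · exact (inv_mul_eq_one.1 e).symm
  · exfalso
    refine hq ?_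
    rwa [← mem_Cz.1 hqC, ← inv_mul_eq_iff_eq_mul.1 e]

theorem not_conj_of_class {q : G} {x : V8} (hq : q ∈ Q) (hx : cl Q q = κ x)
    (h : ∀ b, x ≠ pnt b) (h0 : x ≠ 0) : ¬ IsConj z q := by
  intro hc
  rcases F.C.root_class F.H hq hc with rfl | ⟨b, hb⟩
  · rw [F.H.cl_z, ← F.C.zero F.H] at hx
    exact h0 (F.C.bij.1 hx).symm
  · exact h b (F.C.bij.1 (hx.symm.trans hb))

theorem zn_not (i : Fin 3) : ¬ IsConj z (z * nn r c i) := by
  intro hc
  have e : r⁻¹ * (z * nn r c i) * r = z * v * c i := by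
    have hw : r * (z * v) * r⁻¹ = z := by
      calc r * (z * v) * r⁻¹ = (r * z * r⁻¹) * (r * v * r⁻¹) := by group
        _ = v * (z * v) := by rw [F.A.rz, F.A.rv]
        _ = z := by rw [← mul_assoc, F.H.st.z_comm F.A.vQ, mul_assoc, F.v2, mul_one]
    conv_lhs => rw [← hw]
    rw [nn]; group
  refine F.not_conj_of_class (q := z * v * c i) (x := pnt 0 + pnt (xC i))
    (Q.mul_mem (Q.mul_mem F.H.zQ F.A.vQ) (F.B.aQ i)) ?_ (fun b => (zp_not_point i b).1) (zp_not_point i 0).2 ?_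
  · rw [cl_mul (Q.mul_mem F.H.zQ F.A.vQ) (F.B.aQ i), cl_mul F.H.zQ F.A.vQ, F.H.cl_z, one_mul, F.A.cv,
      F.cc, F.C.add]
  · exact hc.trans (isConj_iff.2 ⟨r⁻¹, by rw [inv_inv, e]⟩)

theorem zm_not (i : Fin 3) : ¬ IsConj z (z * nn s a i) := by
  intro hc
  have e : s⁻¹ * (z * nn s a i) * s = z * u * a i := by
    have hw : s * (z * u) * s⁻¹ = z := by
      calc s * (z * u) * s⁻¹ = (s * z * s⁻¹) * (s * u * s⁻¹) := by group
        _ = u * (z * u) := by rw [F.B.rz, F.B.rv]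
        _ = z := by rw [← mul_assoc, F.H.st.z_comm F.A.uQ, mul_assoc, F.A.u2, mul_one]
    conv_lhs => rw [← hw]
    rw [nn]; group
  refine F.not_conj_of_class (q := z * u * a i) (x := pnt 1 + pnt (xA i))
    (Q.mul_mem (Q.mul_mem F.H.zQ F.A.uQ) (F.A.aQ i)) ?_ (fun b => (zp_not_point' i b).1) (zp_not_point' i 0).2 ?_
  · rw [cl_mul (Q.mul_mem F.H.zQ F.A.uQ) (F.A.aQ i), cl_mul F.H.zQ F.A.uQ, F.H.cl_z, one_mul, F.A.cu,
      F.A.ca, F.C.add]
  · exact hc.trans (isConj_iff.2 ⟨s⁻¹, by rw [inv_inv, e]⟩)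

end Fr

/-- conjugation values read off the table -/
theorem Table.vals {z v u : G} {a c : Fin 3 → G} {p : G} {i j k : Fin 3} (T : Table z v u a c p i)
    (hj : j ≠ i) (hk : k ≠ i) (hkj : k ≠ j) :
    MulAut.conj p v = v ∧ MulAut.conj p u = u * c i ∧ MulAut.conj p (a i) = v * a i ∧
      MulAut.conj p (a j) = a j ∧ MulAut.conj p (a k) = a k ∧ MulAut.conj p (c i) = c i ∧
      MulAut.conj p (c j) = c j * a k ∧ MulAut.conj p (c k) = c k * a j := by
  have hpi : p⁻¹ = p := inv_eq_of_mul_eq_one_right T.two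
  have hc : ∀ x, Commute p x → MulAut.conj p x = x := fun x h => by
    rw [MulAut.conj_apply, h.eq, mul_inv_cancel_right]
  refine ⟨hc _ T.pv, ?_, ?_, hc _ (T.pa j hj), hc _ (T.pa k hk), hc _ T.pci, ?_, ?_⟩ <;>
    rw [MulAut.conj_apply, hpi]
  · exact T.pu
  · exact T.pai
  · exact T.pc j k hj hk hkj
  · exact T.pc k j hk hj hkj.symm

namespace Fr

variable [Finite G] {z : G} {Q : Subgroup G} {π : ↥(Cz z) →* M0} {κ : V8 → T Q} {v u r s : G}
  {a c : Fin 3 → G} (F : Fr z Q π κ v u r s a c)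
include F

theorem conj_isConj {p x : G} (h : IsConj z x) : IsConj z (p * x * p⁻¹) :=
  h.trans (isConj_iff.2 ⟨p, rfl⟩)

theorem not_conj_transfer {p x : G} (hp : p ∈ Cz z) (h : ¬ IsConj z (z * x)) :
    ¬ IsConj z (z * (p * x * p⁻¹)) := fun hc => h (hc.trans (isConj_iff.2 ⟨p⁻¹, by
  calc p⁻¹ * (z * (p * x * p⁻¹)) * p⁻¹⁻¹ = p⁻¹ * (z * p) * x := by group
    _ = p⁻¹ * (p * z) * x := by rw [mem_Cz.1 hp]
    _ = z * x := by group⟩))

/-- the relations inside the centraliser -/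
theorem levi (i j : Fin 3) (hj : j ≠ i) :
    nn r c i * nn s a i * nn r c i = nn s a i * nn r c i * nn s a i ∧
    Commute (nn r c i) (nn r c j) ∧ Commute (nn s a i) (nn s a j) ∧ Commute (nn r c i) (nn s a j) := by
  obtain ⟨k, hk, hkj, hall⟩ := third i j hj
  obtain ⟨n1, n2, n3, n4, n5, n6, n7, n8⟩ := (F.tn i).vals hj hk hkj
  obtain ⟨N1, N2, N3, N4, N5, N6, N7, N8⟩ := (F.tn j).vals hj.symm hkj hk
  obtain ⟨m1, m2, m3, m4, m5, m6, m7, m8⟩ := (F.tm i).vals hj hk hkj
  obtain ⟨M1, M2, M3, M4, M5, M6, M7, M8⟩ := (F.tm j).vals hj.symm hkj hk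
  have i1 := inv_eq_of_mul_eq_one_right (F.tn i).two
  have i2 := inv_eq_of_mul_eq_one_right (F.tn j).two
  have i3 := inv_eq_of_mul_eq_one_right (F.tm i).two
  have i4 := inv_eq_of_mul_eq_one_right (F.tm j).two
  have hcm : ∀ p q x : G, MulAut.conj (p * q) x = MulAut.conj p (MulAut.conj q x) := fun p q x => by
    rw [map_mul]; rfl
  -- rearrangements
  have cv : ∀ {x y : G}, Commute x y → ∀ t, x * (y * t) = y * (x * t) := fun h t => h.left_comm t
  have sq : ∀ {x : G}, x * x = 1 → ∀ t, x * (x * t) = t := fun h t => by rw [← mul_assoc, h, one_mul]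
  have C1 := (F.n_C i)
  have C2 := (F.n_C j)
  have C3 := (F.m_C i)
  have C4 := (F.m_C j)
  have r1 := F.v2
  have r2 := F.A.u2
  have r3 := F.a2
  have r4 := F.c2
  refine ⟨?_, ?_, ?_, ?_⟩
  · refine F.eq_of (by simpa [i1] using F.conj_isConj (p := nn r c i) (F.tm i).conj)
      ((Cz z).mul_mem ((Cz z).mul_mem C1 C3) C1) ((Cz z).mul_mem ((Cz z).mul_mem C3 C1) C3)
      (by simpa [i3] using F.not_conj_transfer C3 (F.zn_not i)) ?_ ?_ (fun l => ?_) (fun l => ?_)
    any_goals (rcases hall l with h | h | h <;> rw [h])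
    all_goals
      try generalize nn r c i = P₁ at *
      try generalize nn r c j = P₂ at *
      try generalize nn s a i = P₃ at *
      try generalize nn s a j = P₄ at *
      simp only [hcm, map_mul, MulAut.mul_apply, n1, n2, n3, n4, n5, n6, n7, n8, m1, m2, m3, m4, m5, m6, m7, m8,
        mul_assoc, sq r1, sq r2, sq (r3 _), sq (r4 _), r1, r2, r3, r4, mul_one,
        cv (F.comm_ac hk), cv (F.comm_ac hj), cv (F.comm_ac hkj), cv (F.comm_ac hkj.symm),
        (F.comm_ac hkj).eq, (F.comm_ac hkj.symm).eq]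
  · have h := F.eq_of (p := nn r c i * nn r c j * nn r c i) (q := nn r c j)
      (by simpa [i1] using F.conj_isConj (p := nn r c i) (F.tn j).conj)
      ((Cz z).mul_mem ((Cz z).mul_mem C1 C2) C1) C2 (F.zn_not j) ?_ ?_ (fun l => ?_) (fun l => ?_)
    any_goals (rcases hall l with h | h | h <;> rw [h])
    · show _ * _ = _ * _
      calc nn r c i * nn r c j = (nn r c i * nn r c j * nn r c i) * (nn r c i)⁻¹ := by group
        _ = _ := by rw [h, i1]
    all_goals
      try generalize nn r c i = P₁ at *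
      try generalize nn r c j = P₂ at *
      try generalize nn s a i = P₃ at *
      try generalize nn s a j = P₄ at *
      simp only [hcm, map_mul, MulAut.mul_apply, n1, n2, n3, n4, n5, n6, n7, n8, N1, N2, N3, N4, N5, N6, N7, N8,
        mul_assoc, sq r1, sq r2, sq (r3 _), sq (r4 _), r1, r2, r3, r4, mul_one,
        cv (F.comm_va _), (F.comm_va _).eq]
    all_goals
      simp only [mul_assoc, sq (r3 _), sq (r4 _), r3, r4, mul_one, cv (F.comm_cc j i),
        cv (F.comm_ac hk.symm), (F.comm_aa i j).eq, (F.comm_cc j i).eq]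
  · have h := F.eq_of (p := nn s a i * nn s a j * nn s a i) (q := nn s a j)
      (by simpa [i3] using F.conj_isConj (p := nn s a i) (F.tm j).conj)
      ((Cz z).mul_mem ((Cz z).mul_mem C3 C4) C3) C4 (F.zm_not j) ?_ ?_ (fun l => ?_) (fun l => ?_)
    any_goals (rcases hall l with h | h | h <;> rw [h])
    · show _ * _ = _ * _
      calc nn s a i * nn s a j = (nn s a i * nn s a j * nn s a i) * (nn s a i)⁻¹ := by group
        _ = _ := by rw [h, i3]
    all_goals
      try generalize nn r c i = P₁ at *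
      try generalize nn r c j = P₂ at *
      try generalize nn s a i = P₃ at *
      try generalize nn s a j = P₄ at *
      simp only [hcm, map_mul, MulAut.mul_apply, m1, m2, m3, m4, m5, m6, m7, m8, M1, M2, M3, M4, M5, M6, M7, M8,
        mul_assoc, sq r1, sq r2, sq (r3 _), sq (r4 _), r1, r2, r3, r4, mul_one]
    all_goals
      simp only [mul_assoc, sq r2, sq (r3 _), sq (r4 _), r3, r4, mul_one, (F.comm_ac hk).eq,
        cv (F.comm_aa j i), (F.comm_aa j i).eq, cv ((F.comm_uc i).symm), (F.comm_cc i j).eq]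
  · have h := F.eq_of (p := nn r c i * nn s a j * nn r c i) (q := nn s a j)
      (by simpa [i1] using F.conj_isConj (p := nn r c i) (F.tm j).conj)
      ((Cz z).mul_mem ((Cz z).mul_mem C1 C4) C1) C4 (F.zm_not j) ?_ ?_ (fun l => ?_) (fun l => ?_)
    any_goals (rcases hall l with h | h | h <;> rw [h])
    · show _ * _ = _ * _
      calc nn r c i * nn s a j = (nn r c i * nn s a j * nn r c i) * (nn r c i)⁻¹ := by group
        _ = _ := by rw [h, i1]
    all_goals
      try generalize nn r c i = P₁ at *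
      try generalize nn r c j = P₂ at *
      try generalize nn s a i = P₃ at *
      try generalize nn s a j = P₄ at *
      simp only [hcm, map_mul, MulAut.mul_apply, n1, n2, n3, n4, n5, n6, n7, n8, M1, M2, M3, M4, M5, M6, M7, M8,
        mul_assoc, sq r1, sq r2, sq (r3 _), sq (r4 _), r1, r2, r3, r4, mul_one]
    all_goals
      simp only [mul_assoc, sq r1, sq (r3 _), sq (r4 _), r3, r4, mul_one, cv ((F.comm_va j).symm),
        cv (F.comm_aa j i), (F.comm_cc j i).eq, (F.comm_ac hkj).symm.eq]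

end Fr

end CfsgLib.OmegaEightCent
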