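import Cfsg.Agent.Lib.OmegaEightCent.Pair
import Cfsg.Agent.Lib.OmegaEightCent.Form

/-!
Conjugates of `z` in the centraliser outside `Q`, when `z` is weakly closed in `Q`: generalities.
-/

set_option autoImplicit false
set_option linter.unusedSectionVars false
set_option linter.style.haveILetI false

open Cfsg CfsgLib.Extraspecial
open Equiv (Perm)

namespace CfsgLib.OmegaEightCent

variable {G : Type*} [Group G]

/-- the other conjugate attached to `g` -/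
abbrev vv (z g : G) : G := g⁻¹ * z * g

/-- the first conjugate attached to `g` -/
abbrev uu (z g : G) : G := g * z * g⁻¹

/-- an element whose conjugate of `z` is in the centraliser, outside `Q`, with `z` weakly closed in `Q` -/
structure Pt (z : G) (Q : Subgroup G) (g : G) : Prop where
  wc : ∀ h : G, h * z * h⁻¹ ∈ Q → h * z * h⁻¹ = z
  uC : uu z g ∈ Cz z
  uQ : uu z g ∉ Q

/-- the images of the conjugates outside `Q` -/
def Om (z : G) (Q : Subgroup G) (π : ↥(Cz z) →* M0) (m : M0) : Prop :=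
  ∃ h, Pt z Q h ∧ img z π (vv z h) = m

/-- the centraliser in `Q` -/
abbrev Aq (z : G) (Q : Subgroup G) (g : G) : Subgroup G :=
  Q ⊓ Subgroup.centralizer ({vv z g} : Set G)

/-- the induced map -/
noncomputable def phi (z : G) (π : ↥(Cz z) →* M0) (g k : G) : M0 := img z π (g * k * g⁻¹)

/-- the commutator with the other conjugate -/
abbrev dlt (z g q : G) : G := vv z g * q * (vv z g)⁻¹ * q⁻¹

namespace Pt

variable [Finite G] {z : G} {Q : Subgroup G} {π : ↥(Cz z) →* M0} (H : Pre z Q π) {g : G}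
  (P : Pt z Q g)
include H P

theorem vC : vv z g ∈ Cz z := by
  rw [mem_Cz]
  calc g⁻¹ * z * g * z = g⁻¹ * (z * (g * z * g⁻¹)) * g := by group
    _ = g⁻¹ * (g * z * g⁻¹ * z) * g := by rw [mem_Cz.1 P.uC]
    _ = _ := by group

theorem vQ : vv z g ∉ Q := fun h => P.uQ (by
  have e := P.wc g⁻¹ (by rwa [inv_inv])
  have : g * z * g⁻¹ = z := by
    calc g * z * g⁻¹ = g * (g⁻¹ * z * g⁻¹⁻¹) * g⁻¹ := by rw [e]
      _ = z := by group
  show g * z * g⁻¹ ∈ Q
  rw [this]; exact H.zQ)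

theorem v_sq : vv z g * vv z g = 1 := by
  calc g⁻¹ * z * g * (g⁻¹ * z * g) = g⁻¹ * (z * z) * g := by group
    _ = 1 := by rw [H.z2]; group

theorem v_inv : (vv z g)⁻¹ = vv z g := inv_eq_of_mul_eq_one_right (P.v_sq H)

theorem symm : Pt z Q g⁻¹ :=
  ⟨P.wc, by show g⁻¹ * z * g⁻¹⁻¹ ∈ Cz z; rw [inv_inv]; exact P.vC H,
    by show g⁻¹ * z * g⁻¹⁻¹ ∉ Q; rw [inv_inv]; exact P.vQ H⟩

omit P in
theorem vv_inv (g : G) : vv z g⁻¹ = uu z g := by rw [vv, inv_inv]

theorem right {c : G} (hc : c ∈ Cz z) : Pt z Q (g * c⁻¹) ∧ vv z (g * c⁻¹) = c * vv z g * c⁻¹ ∧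
    uu z (g * c⁻¹) = uu z g := by
  have e : uu z (g * c⁻¹) = uu z g := by
    calc g * c⁻¹ * z * (g * c⁻¹)⁻¹ = g * (c⁻¹ * z) * c * g⁻¹ := by group
      _ = _ := by rw [show c⁻¹ * z = z * c⁻¹ from mem_Cz.1 ((Cz z).inv_mem hc), uu]; group
  exact ⟨⟨P.wc, e.symm ▸ P.uC, e.symm ▸ P.uQ⟩, by simp [vv, mul_assoc], e⟩

theorem left {c : G} (hc : c ∈ Cz z) : Pt z Q (c * g) ∧ vv z (c * g) = vv z g ∧
    uu z (c * g) = c * uu z g * c⁻¹ := by
  have e : vv z (c * g) = vv z g := by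
    calc (c * g)⁻¹ * z * (c * g) = g⁻¹ * c⁻¹ * (z * c) * g := by group
      _ = _ := by rw [← mem_Cz.1 hc, vv]; group
  have e2 : uu z (c * g) = c * uu z g * c⁻¹ := by simp [uu, mul_assoc]
  refine ⟨⟨P.wc, ?_, fun h => P.uQ ?_⟩, e, e2⟩
  · rw [e2]; exact (Cz z).mul_mem ((Cz z).mul_mem hc P.uC) ((Cz z).inv_mem hc)
  · rw [e2] at h
    convert H.conjQ ((Cz z).inv_mem hc) h using 1; simp only [uu]; group

theorem mv_sq : img z π (vv z g) * img z π (vv z g) = 1 := by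
  rw [← H.img_mul (P.vC H) (P.vC H), P.v_sq H, H.img_one]

theorem mv_ne : img z π (vv z g) ≠ 1 := fun h => P.vQ H ((H.img_eq_one (P.vC H)).1 h)

theorem mu_ne : img z π (uu z g) ≠ 1 := fun h => P.uQ ((H.img_eq_one P.uC).1 h)

theorem mu_sq : img z π (uu z g) * img z π (uu z g) = 1 := by
  have := (P.symm H).mv_sq H (π := π)
  rwa [vv_inv H] at this

theorem om : Om z Q π (img z π (vv z g)) := ⟨g, P, rfl⟩

/-- conjugation by `g` on the centraliser of both -/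
theorem gC {k : G} (hkv : k * vv z g = vv z g * k) : g * k * g⁻¹ ∈ Cz z := by
  rw [mem_Cz]
  calc g * k * g⁻¹ * z = g * (k * (g⁻¹ * z * g)) * g⁻¹ := by group
    _ = _ := by rw [hkv]; group

theorem mem_Aq {k : G} : k ∈ Aq z Q g ↔ k ∈ Q ∧ k * vv z g = vv z g * k := by
  rw [Subgroup.mem_inf, Subgroup.mem_centralizer_singleton_iff]

theorem gA {k : G} (hk : k ∈ Aq z Q g) : g * k * g⁻¹ ∈ Cz z := P.gC H ((P.mem_Aq H).1 hk).2

theorem phi_mul {a b : G} (ha : a * vv z g = vv z g * a) (hb : b * vv z g = vv z g * b) :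
    phi z π g (a * b) = phi z π g a * phi z π g b := by
  rw [phi, phi, phi, ← H.img_mul (P.gC H ha) (P.gC H hb)]
  congr 1; group

theorem phi_inv {a : G} (ha : a * vv z g = vv z g * a) : phi z π g a⁻¹ = (phi z π g a)⁻¹ := by
  rw [phi, phi, ← H.img_inv (P.gC H ha)]
  congr 1; group

theorem z_A : z ∈ Aq z Q g := (P.mem_Aq H).2 ⟨H.zQ, (mem_Cz.1 (P.vC H)).symm⟩

theorem phi_one : phi z π g 1 = 1 := by rw [phi, mul_one, mul_inv_cancel, H.img_one]

omit P in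
theorem phi_z (g : G) : phi z π g z = img z π (uu z g) := rfl

theorem phi_sq {k : G} (hk : k ∈ Aq z Q g) (h : k * k = 1) : phi z π g k * phi z π g k = 1 := by
  rw [← P.phi_mul H ((P.mem_Aq H).1 hk).2 ((P.mem_Aq H).1 hk).2, h, P.phi_one H]

theorem phi_comm {k : G} (hk : k ∈ Aq z Q g) :
    phi z π g k * img z π (uu z g) = img z π (uu z g) * phi z π g k := by
  rw [← phi_z H g, ← P.phi_mul H ((P.mem_Aq H).1 hk).2 ((P.mem_Aq H).1 (P.z_A H)).2,
    ← P.phi_mul H ((P.mem_Aq H).1 (P.z_A H)).2 ((P.mem_Aq H).1 hk).2, H.st.z_comm hk.1]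

theorem dlt_mem {q : G} (hq : q ∈ Q) : dlt z g q ∈ Q :=
  Q.mul_mem (H.conjQ (P.vC H) hq) (Q.inv_mem hq)

theorem cl_dlt {q : G} (hq : q ∈ Q) : cl Q (dlt z g q) = ac Q (vv z g) (cl Q q) * cl Q q := by
  rw [H.ac_cl (P.vC H) hq, dlt, cl_mul (H.conjQ (P.vC H) hq) (Q.inv_mem hq)]
  congr 1
  rw [← H.T_mul_eq_one, ← cl_mul (Q.inv_mem hq) hq, inv_mul_cancel, cl_one]

theorem dlt_fix {q : G} (hq : q ∈ Q) :
    ac Q (vv z g) (cl Q (dlt z g q)) = cl Q (dlt z g q) := by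
  rw [P.cl_dlt H hq, H.ac_mul (P.vC H), ← H.ac_comp (P.vC H) (P.vC H), P.v_sq H,
    H.ac_Q Q.one_mem, H.T_comm]

theorem dlt_conj (q : G) :
    vv z g * dlt z g q * (vv z g)⁻¹ = (dlt z g q)⁻¹ := by
  have h1 := P.v_sq H
  have h2 := P.v_inv H
  show vv z g * (vv z g * q * (vv z g)⁻¹ * q⁻¹) * (vv z g)⁻¹ = (vv z g * q * (vv z g)⁻¹ * q⁻¹)⁻¹
  generalize vv z g = v at h1 h2 ⊢
  calc v * (v * q * v⁻¹ * q⁻¹) * v⁻¹ = (v * v) * q * v⁻¹ * q⁻¹ * v⁻¹ := by group
    _ = q * v⁻¹⁻¹ * q⁻¹ * v⁻¹ := by rw [h1, one_mul, h2, h2]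
    _ = _ := by group

/-- an involution among the commutators centralises, and its image, unless trivial, is again one of a conjugate -/
theorem key {q : G} (hq : q ∈ Q) (h : dlt z g q * dlt z g q = 1) :
    dlt z g q ∈ Aq z Q g ∧ (phi z π g (dlt z g q) = 1 → dlt z g q = 1) ∧
      (phi z π g (dlt z g q) ≠ 1 → Om z Q π (phi z π g (dlt z g q))) := by
  have hk : dlt z g q ∈ Aq z Q g := by
    refine (P.mem_Aq H).2 ⟨P.dlt_mem H hq, ?_⟩
    have := P.dlt_conj H q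
    rw [inv_eq_of_mul_eq_one_right h] at this
    exact (mul_inv_eq_iff_eq_mul.1 this).symm
  set w := z * (g * dlt z g q * g⁻¹) with hw
  set d := g * q * g⁻¹ with hd
  have hwd : w = d * z * d⁻¹ := by
    rw [hw, hd, dlt, P.v_inv H]
    calc z * (g * (vv z g * q * vv z g * q⁻¹) * g⁻¹)
        = g * ((vv z g * vv z g) * q * vv z g * q⁻¹) * g⁻¹ := by simp only [vv]; group
      _ = _ := by rw [P.v_sq H, one_mul]; simp only [vv]; group
  have hwC : w ∈ Cz z := (Cz z).mul_mem H.zC (P.gA H hk)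
  have hwi : img z π w = phi z π g (dlt z g q) := by
    rw [hw, H.img_mul H.zC (P.gA H hk), H.img_Q H.zQ, one_mul]; rfl
  have hwQ : w ∈ Q → dlt z g q = 1 := by
    intro hQ
    have e : w = z := by rw [hwd]; exact P.wc d (hwd ▸ hQ)
    have : g * dlt z g q * g⁻¹ = 1 := by rw [hw] at e; exact mul_eq_left.1 e
    simpa using this
  refine ⟨hk, fun h1 => hwQ ((H.img_eq_one hwC).1 (hwi.trans h1)), fun h1 => ?_⟩
  have Pd : Pt z Q d := ⟨P.wc, by rw [uu, ← hwd]; exact hwC,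
    fun hQ => h1 (by rw [← hwi]; exact H.img_Q (by rwa [uu, ← hwd] at hQ))⟩
  refine ⟨d⁻¹, Pd.symm H, ?_⟩
  rw [vv, inv_inv, ← hwd, hwi]

/-- with an element anticommuting, both signs occur among the commutators -/
theorem dlt_z {q0 q : G} (h0 : q0 ∈ Q) (h : vv z g * q0 * (vv z g)⁻¹ = z * q0) (hq : q ∈ Q) :
    dlt z g (q * q0) = z * dlt z g q := by
  calc vv z g * (q * q0) * (vv z g)⁻¹ * (q * q0)⁻¹
      = (vv z g * q * (vv z g)⁻¹) * (vv z g * q0 * (vv z g)⁻¹) * q0⁻¹ * q⁻¹ := by group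
    _ = (vv z g * q * (vv z g)⁻¹) * z * q⁻¹ := by rw [h]; group
    _ = _ := by rw [H.st.z_comm (H.conjQ (P.vC H) hq), dlt, mul_assoc z]

/-- an element with class of a commutator -/
theorem dlt_or {q e : G} (hq : q ∈ Q) (he : e ∈ Q)
    (h : cl Q e = ac Q (vv z g) (cl Q q) * cl Q q) : e = dlt z g q ∨ e = z * dlt z g q := by
  rw [← P.cl_dlt H hq] at h
  exact (H.cl_eq_iff he (P.dlt_mem H hq)).1 h

/-- with an element anticommuting, each element with the class of a commutator is a commutator -/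
theorem dlt_all {q0 q e : G} (h0 : q0 ∈ Q) (h : vv z g * q0 * (vv z g)⁻¹ = z * q0) (hq : q ∈ Q)
    (he : e ∈ Q) (hcl : cl Q e = ac Q (vv z g) (cl Q q) * cl Q q) :
    ∃ q' ∈ Q, e = dlt z g q' := by
  rcases P.dlt_or H hq he hcl with e1 | e1
  · exact ⟨q, hq, e1⟩
  · exact ⟨q * q0, Q.mul_mem hq h0, by rw [P.dlt_z H h0 h hq, e1]⟩

end Pt

end CfsgLib.OmegaEightCent
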