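import Cfsg.Agent.Lib.OmegaEightCent.Extra
import Cfsg.Agent.Lib.OmegaEightCent.Form

/-!
Two conjugates of `z` in `Q`: the intersection of their extraspecial groups and the induced group.
-/

set_option autoImplicit false
set_option linter.unusedSectionVars false
set_option linter.style.haveILetI false

open Cfsg CfsgLib.Extraspecial

namespace CfsgLib.OmegaEightCent

variable {G : Type*} [Group G]

/-- the conjugate of `Q` -/
abbrev Qc (Q : Subgroup G) (g : G) : Subgroup G := Q.map (MulAut.conj g).toMonoidHom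

/-- the part of the conjugate in the centraliser -/
abbrev Bp (z : G) (Q : Subgroup G) (g : G) : Subgroup G := Qc Q g ⊓ Cz z

/-- the intersection -/
abbrev Ep (Q : Subgroup G) (g : G) : Subgroup G := Q ⊓ Qc Q g

theorem mem_Qc {Q : Subgroup G} {g x : G} : x ∈ Qc Q g ↔ g⁻¹ * x * g ∈ Q := by
  constructor
  · rintro ⟨q, hq, rfl⟩
    simpa [mul_assoc] using hq
  · exact fun h => ⟨_, h, by simp [mul_assoc]⟩

/-- the induced group -/
noncomputable def Apg {z : G} (Q : Subgroup G) (π : ↥(Cz z) →* M0) (g : G) : Subgroup M0 :=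
  ((Bp z Q g).subgroupOf (Cz z)).map π

namespace Pre

variable [Finite G] {z : G} {Q : Subgroup G} {π : ↥(Cz z) →* M0} (H : Pre z Q π)
include H

/-- a lift of a fixing element fixing an element exactly -/
theorem fix_lift {c v : G} (hc : c ∈ Cz z) (hv : v ∈ Q) (hv1 : cl Q v ≠ 1)
    (h : ac Q c (cl Q v) = cl Q v) : ∃ c' ∈ Cz z, img z π c' = img z π c ∧ c' * v * c'⁻¹ = v := by
  rw [H.ac_cl hc hv, H.cl_eq_iff (H.conjQ hc hv) hv] at h
  rcases h with e | e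
  · exact ⟨c, hc, rfl, e⟩
  · obtain ⟨q, hq, hqv⟩ := H.st.exists_move hv (fun h => hv1 (by rw [h, cl_one]))
      (fun h => hv1 (by rw [h, H.cl_z]))
    refine ⟨q * c, (Cz z).mul_mem (H.QC hq) hc, by rw [H.img_mul (H.QC hq) hc, H.img_Q hq, one_mul], ?_⟩
    calc q * c * v * (q * c)⁻¹ = q * (c * v * c⁻¹) * q⁻¹ := by group
      _ = (q * z) * v * q⁻¹ := by rw [e]; group
      _ = z * (q * v * q⁻¹) := by rw [H.st.z_comm hq]; group
      _ = v := by rw [hqv, ← mul_assoc, H.z2, one_mul]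

variable {g : G} (hmem : g * z * g⁻¹ ∈ Q) (hne : g * z * g⁻¹ ≠ z)
include hmem hne

theorem v_ne_one : g * z * g⁻¹ ≠ 1 := (H.st.conj g).ne_one

theorem cl_v_ne : cl Q (g * z * g⁻¹) ≠ 1 := fun h =>
  ((H.cl_eq_one hmem).1 h).elim (H.v_ne_one hmem hne) hne

theorem zQc : z ∈ Qc Q g := H.st.conj_center_mem hmem hne (by rw [H.card]; norm_num)

theorem vQc : g * z * g⁻¹ ∈ Qc Q g := (H.st.conj g).z_mem

theorem card_Bp : Nat.card ↥(Bp z Q g) = 256 := by
  have s' := H.st.conj g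
  have hzc := H.zQc hmem hne
  obtain ⟨u, hu, huz⟩ := s'.exists_move hzc H.zne hne.symm
  have hsub : Nat.card ↥(Qc Q g) = 512 := by
    rw [Qc, Subgroup.card_map_of_injective (MulAut.conj g).injective, H.card]
  have hi : ((Bp z Q g).subgroupOf (Qc Q g)).index = 2 := by
    rw [Subgroup.index_eq_two_iff]
    refine ⟨⟨u, hu⟩, fun b => ?_⟩
    have key : ∀ x : ↥(Qc Q g), x ∈ (Bp z Q g).subgroupOf (Qc Q g) ↔ (x : G) * z * (x : G)⁻¹ = z := fun x => by
      rw [Subgroup.mem_subgroupOf, Subgroup.mem_inf, mem_Cz, mul_inv_eq_iff_eq_mul]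
      exact and_iff_right x.2
    rw [key, key]
    have e2 : ((b * ⟨u, hu⟩ : ↥(Qc Q g)) : G) * z * ((b * ⟨u, hu⟩ : ↥(Qc Q g)) : G)⁻¹ =
        g * z * g⁻¹ * ((b : G) * z * (b : G)⁻¹) := by
      show (b : G) * u * z * ((b : G) * u)⁻¹ = _
      calc (b : G) * u * z * ((b : G) * u)⁻¹ = (b : G) * (u * z * u⁻¹) * (b : G)⁻¹ := by group
        _ = ((b : G) * (g * z * g⁻¹)) * z * (b : G)⁻¹ := by rw [huz]; group
        _ = _ := by rw [s'.z_comm b.2]; group
    rw [e2]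
    rcases s'.comm_cases b.2 hzc with e | e <;> rw [e]
    · exact Or.inr ⟨rfl, fun e' => s'.ne_one (mul_eq_right.mp e')⟩
    · refine Or.inl ⟨by rw [← mul_assoc, s'.zz, one_mul], fun e' => s'.ne_one (mul_eq_right.mp e')⟩
  have h := ((Bp z Q g).subgroupOf (Qc Q g)).card_mul_index
  rw [hi, Nat.card_congr (Subgroup.subgroupOfEquivOfLe (inf_le_left : Bp z Q g ≤ Qc Q g)).toEquiv, hsub] at h
  show Nat.card ↥(Qc Q g ⊓ Cz z) = 256
  omega

theorem Ep_C {e : G} (he : e ∈ Ep Q g) : e ∈ Cz z := H.QC he.1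

theorem z_Ep : z ∈ Ep Q g := ⟨H.zQ, H.zQc hmem hne⟩

theorem v_Ep : g * z * g⁻¹ ∈ Ep Q g := ⟨hmem, H.vQc hmem hne⟩

theorem Ep_sq {e : G} (he : e ∈ Ep Q g) : e * e = 1 := by
  rcases H.st.sq_cases he.1 with h | h
  · exact h
  · rcases (H.st.conj g).sq_cases he.2 with h' | h'
    · exact h'
    · exact absurd (h'.symm.trans h) hne

theorem Ep_comm {a b : G} (ha : a ∈ Ep Q g) (hb : b ∈ Ep Q g) : a * b = b * a := by
  rcases H.st.comm_cases ha.1 hb.1 with h | h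
  · exact mul_inv_eq_iff_eq_mul.mp h
  · rcases (H.st.conj g).comm_cases ha.2 hb.2 with h' | h'
    · exact mul_inv_eq_iff_eq_mul.mp h'
    · exact absurd (mul_right_cancel (h'.symm.trans h)) hne

theorem card_Ep_le : Nat.card ↥(Ep Q g) ≤ 32 :=
  H.card_abelian_le inf_le_left fun _ ha _ hb => H.Ep_comm hmem hne ha hb

theorem mem_Ap {m : M0} : m ∈ Apg Q π g ↔ ∃ b ∈ Bp z Q g, img z π b = m := by
  constructor
  · rintro ⟨⟨b, hb⟩, hbB, rfl⟩
    exact ⟨b, hbB, by rw [img, dif_pos hb]⟩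
  · rintro ⟨b, hb, rfl⟩
    exact ⟨⟨b, hb.2⟩, hb, by rw [img, dif_pos (show b ∈ Cz z from hb.2)]⟩

theorem card_Ap_mul : Nat.card ↥(Apg Q π g) * Nat.card ↥(Ep Q g) = 256 := by
  let f : ↥(Bp z Q g) →* M0 := π.comp (Subgroup.inclusion inf_le_right)
  have hr : f.range = Apg Q π g := by
    ext m
    rw [H.mem_Ap hmem hne]
    constructor
    · rintro ⟨b, rfl⟩
      exact ⟨b, b.2, by rw [img, dif_pos (show (b : G) ∈ Cz z from b.2.2)]; rfl⟩
    · rintro ⟨b, hb, rfl⟩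
      exact ⟨⟨b, hb⟩, by rw [img, dif_pos (show b ∈ Cz z from hb.2)]; rfl⟩
  have hk : f.ker = (Ep Q g).subgroupOf (Bp z Q g) := by
    ext b
    rw [MonoidHom.mem_ker, Subgroup.mem_subgroupOf, Subgroup.mem_inf]
    show π _ = 1 ↔ _
    rw [← MonoidHom.mem_ker, H.ker, Subgroup.mem_subgroupOf]
    exact ⟨fun h => ⟨h, b.2.1⟩, fun h => h.1⟩
  have h := f.ker.card_mul_index
  rw [Subgroup.index_ker, hr, hk, Nat.card_congr (Subgroup.subgroupOfEquivOfLe
    (show Ep Q g ≤ Bp z Q g from fun e he => ⟨he.2, H.Ep_C hmem hne he⟩)).toEquiv, H.card_Bp hmem hne] at h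
  rw [mul_comm]
  exact h

theorem Ap_sq {m : M0} (hm : m ∈ Apg Q π g) : m * m = 1 := by
  obtain ⟨b, hb, rfl⟩ := (H.mem_Ap hmem hne).1 hm
  rw [← H.img_mul hb.2 hb.2]
  rcases (H.st.conj g).sq_cases hb.1 with h | h <;> rw [h]
  · exact H.img_one
  · exact H.img_Q hmem

theorem Ap_comm {m n : M0} (hm : m ∈ Apg Q π g) (hn : n ∈ Apg Q π g) : m * n = n * m := by
  have h1 := H.Ap_sq hmem hne ((Apg Q π g).mul_mem hm hn)
  have h2 := H.Ap_sq hmem hne hm
  have h3 := H.Ap_sq hmem hne hn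
  calc m * n = m⁻¹ * n⁻¹ := by rw [inv_eq_of_mul_eq_one_right h2, inv_eq_of_mul_eq_one_right h3]
    _ = (n * m)⁻¹ := (mul_inv_rev _ _).symm
    _ = n * m := by
      rw [inv_eq_of_mul_eq_one_right]
      have : n * m * (n * m) = n * (m * n * (m * n)) * n⁻¹ := by group
      rw [this, h1, mul_one, mul_inv_cancel]

/-- an element fixing the whole induced group is trivial -/
theorem fixed_cases {e : G} (he : e ∈ Ep Q g)
    (h : ∀ b ∈ Bp z Q g, ac Q b (cl Q e) = cl Q e) : cl Q e = 1 ∨ cl Q e = cl Q (g * z * g⁻¹) := by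
  have s' := H.st.conj g
  have d' : Symm.Zdata (Qc Q g) (g * z * g⁻¹) :=
    Symm.zdata_of s'.ex s'.z_mem s'.ne_one (fun _ hq => (s'.z_comm hq).symm)
  have hfix : ∀ b ∈ Bp z Q g, b * e * b⁻¹ = e := fun b hb => by
    have h1 := h b hb
    rw [H.ac_cl hb.2 he.1, H.cl_eq_iff (H.conjQ hb.2 he.1) he.1] at h1
    rcases h1 with e1 | e1
    · exact e1
    · rcases s'.comm_cases hb.1 he.2 with e2 | e2
      · exact e2
      · exact absurd (mul_right_cancel (e2.symm.trans e1)) hne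
  have hx := Symm.double_centralizer d' (fun q hq => s'.z_comm hq) [z]
    (fun b hb => by rw [List.mem_singleton.1 hb]; exact H.zQc hmem hne) e he.2
    (fun q hq hq2 => hfix q ⟨hq, mem_Cz.2 (mul_inv_eq_iff_eq_mul.1 (hq2 z (List.mem_singleton.2 rfl)))⟩)
  have hle : ∀ y ∈ Subgroup.closure (insert (g * z * g⁻¹) {b | b ∈ [z]}),
      y ∈ Q ∧ (cl Q y = 1 ∨ cl Q y = cl Q (g * z * g⁻¹)) := by
    intro y hy
    induction hy using Subgroup.closure_induction with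
    | mem y hy =>
      rcases hy with rfl | hy
      · exact ⟨hmem, Or.inr rfl⟩
      · rw [Set.mem_ofPred_eq, List.mem_singleton] at hy
        rw [hy]; exact ⟨H.zQ, Or.inl H.cl_z⟩
    | one => exact ⟨Q.one_mem, Or.inl (cl_one Q)⟩
    | mul a b _ _ ha hb =>
      refine ⟨Q.mul_mem ha.1 hb.1, ?_⟩
      rw [cl_mul ha.1 hb.1]
      rcases ha.2 with e1 | e1 <;> rcases hb.2 with e2 | e2 <;> rw [e1, e2]
      · exact Or.inl (one_mul _)
      · exact Or.inr (one_mul _)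
      · exact Or.inr (mul_one _)
      · exact Or.inl (H.T_sq _)
    | inv a _ ha =>
      refine ⟨Q.inv_mem ha.1, ?_⟩
      have : cl Q a⁻¹ = cl Q a := by
        rw [← H.T_mul_eq_one, ← cl_mul (Q.inv_mem ha.1) ha.1, inv_mul_cancel, cl_one]
      rw [this]; exact ha.2
  exact (hle e hx).2

theorem ac_cases {b e : G} (hb : b ∈ Bp z Q g) (he : e ∈ Ep Q g) :
    ac Q b (cl Q e) = cl Q e ∨ ac Q b (cl Q e) = cl Q e * cl Q (g * z * g⁻¹) := by
  rw [H.ac_cl hb.2 he.1]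
  rcases (H.st.conj g).comm_cases hb.1 he.2 with h | h <;> rw [h]
  · exact Or.inl rfl
  · exact Or.inr (by rw [cl_mul hmem he.1, H.T_comm])

theorem conj_Qc {c : G} (hcv : c * (g * z * g⁻¹) * c⁻¹ = g * z * g⁻¹) {x : G} (hx : x ∈ Qc Q g) :
    c * x * c⁻¹ ∈ Qc Q g :=
  (Subgroup.mem_normalizer_iff.1 ((H.st.conj g).cz
    (Subgroup.mem_centralizer_singleton_iff.2 (mul_inv_eq_iff_eq_mul.1 hcv))) x).1 hx

theorem conj_Ap {c : G} (hc : c ∈ Cz z) (hcv : c * (g * z * g⁻¹) * c⁻¹ = g * z * g⁻¹) {m : M0}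
    (hm : m ∈ Apg Q π g) : img z π c * m * (img z π c)⁻¹ ∈ Apg Q π g := by
  obtain ⟨b, hb, rfl⟩ := (H.mem_Ap hmem hne).1 hm
  refine (H.mem_Ap hmem hne).2 ⟨c * b * c⁻¹, ⟨H.conj_Qc hmem hne hcv hb.1,
    (Cz z).mul_mem ((Cz z).mul_mem hc hb.2) ((Cz z).inv_mem hc)⟩, H.img_conj hc hb.2⟩

theorem conj_Ep {c : G} (hc : c ∈ Cz z) (hcv : c * (g * z * g⁻¹) * c⁻¹ = g * z * g⁻¹) {e : G}
    (he : e ∈ Ep Q g) : c * e * c⁻¹ ∈ Ep Q g :=
  ⟨H.conjQ hc he.1, H.conj_Qc hmem hne hcv he.2⟩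

/-- the order of the image of the intersection -/
theorem card_clEp : 2 * Nat.card {t : T Q // ∃ e ∈ Ep Q g, cl Q e = t} = Nat.card ↥(Ep Q g) := by
  let f : ↥(Ep Q g) →* T Q := MonoidHom.mk' (fun e => cl Q e) fun a b => cl_mul a.2.1 b.2.1
  have hk : f.ker = (Subgroup.zpowers z).subgroupOf (Ep Q g) := by
    ext e
    rw [MonoidHom.mem_ker, Subgroup.mem_subgroupOf]
    show cl Q e = 1 ↔ _
    rw [H.cl_eq_one e.2.1]
    refine ⟨?_, H.st.mem_zpowers⟩
    rintro (h | h) <;> rw [h]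
    · exact one_mem _
    · exact Subgroup.mem_zpowers z
  have h := f.ker.card_mul_index
  rw [Subgroup.index_ker, hk, Nat.card_congr (Subgroup.subgroupOfEquivOfLe
    (Subgroup.zpowers_le.2 (H.z_Ep hmem hne))).toEquiv, Nat.card_zpowers, H.st.ordz] at h
  rw [← h]
  congr 1
  refine Nat.card_congr (Equiv.subtypeEquivRight fun t => ?_)
  constructor
  · rintro ⟨e, he, rfl⟩
    exact ⟨⟨e, he⟩, rfl⟩
  · rintro ⟨e, rfl⟩
    exact ⟨e, e.2, rfl⟩

end Pre

end CfsgLib.OmegaEightCent
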