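import Cfsg.Agent.Lib.OmegaEightCent.Braid
import Cfsg.Agent.Lib.CTBond.TypeD
import Cfsg.Agent.Lib.Classical.OrthSimple
import Cfsg.Agent.Lib.Classical.OrthCenter
import Cfsg.Agent.Lib.Classical.OrthForms

/-!
The subgroup generated by the root involutions: it contains the centraliser and is `Ω⁺(8, 2)`.
-/

set_option autoImplicit false
set_option linter.unusedSectionVars false
set_option linter.style.haveILetI false
set_option maxHeartbeats 1000000
set_option synthInstance.maxSize 2000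

open Cfsg CfsgLib.Extraspecial CfsgLib.CTBond
open Equiv (Perm swap)
open scoped MatrixGroups

namespace CfsgLib.OmegaEightCent

/-- the eight-dimensional orthogonal group of plus type over the field with two elements -/
abbrev Om8 : Subgroup ↥(Cfsg.isometryGroup (ZMod 2) (Cfsg.quadFormPlus 4 (ZMod 2))) :=
  Cfsg.Omega (ZMod 2) (Cfsg.quadFormPlus 4 (ZMod 2))

theorem om8_simple : IsSimpleGroup ↥(Cfsg.Omega (ZMod 2) (Cfsg.quadFormPlus 4 (ZMod 2))) := by
  obtain ⟨B, hB, hBn⟩ := CfsgLib.Orth.exists_quadForm_plus (F := ZMod 2) 4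
  have h5 : 5 ≤ Module.finrank (ZMod 2) (Fin 4 ⊕ Fin 4 → ZMod 2) := by simp
  have hs := CfsgLib.Orth.pOmega_simple hBn h5
  have hc := (CfsgLib.Orth.card_center_omega hBn h5).1 fun g _ hg => by
    refine Subtype.ext (Units.ext ?_)
    rw [hg]
    ext i j
    exact CharTwo.neg_eq _
  rw [hB] at hs hc
  haveI := hs
  exact MulEquiv.isSimpleGroup (H := Cfsg.POmega (ZMod 2) (Cfsg.quadFormPlus 4 (ZMod 2)))
    (((QuotientGroup.quotientMulEquivOfEq (Subgroup.card_eq_one.mp hc)).trans QuotientGroup.quotientBot)).symm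

variable {G : Type*} [Group G]

/-- the generators -/
def gens (r s u : G) (a c : Fin 3 → G) : Set G :=
  Set.range (nn r c) ∪ Set.range (nn s a) ∪ {u, ww r u}

/-- the subgroup generated -/
def KK (r s u : G) (a c : Fin 3 → G) : Subgroup G := Subgroup.closure (gens r s u a c)

theorem s3_gen : ∀ σ : S3, σ = 1 ∨ σ = tt ∨ σ = tt' ∨ σ = tt * tt' ∨ σ = tt' * tt ∨ σ = tt * tt' * tt := by
  decide +kernel

namespace Fr

variable [Finite G] {z : G} {Q : Subgroup G} {π : ↥(Cz z) →* M0} {κ : V8 → T Q} {v u r s : G}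
  {a c : Fin 3 → G} (F : Fr z Q π κ v u r s a c)
include F

omit F in
theorem mem_gens (i : Fin 3) : nn r c i ∈ KK r s u a c ∧ nn s a i ∈ KK r s u a c :=
  ⟨Subgroup.subset_closure (Or.inl (Or.inl ⟨i, rfl⟩)), Subgroup.subset_closure (Or.inl (Or.inr ⟨i, rfl⟩))⟩

omit F in
theorem u_mem : u ∈ KK r s u a c ∧ ww r u ∈ KK r s u a c :=
  ⟨Subgroup.subset_closure (Or.inr (Or.inl rfl)), Subgroup.subset_closure (Or.inr (Or.inr rfl))⟩

theorem c_mem (i : Fin 3) : c i ∈ KK r s u a c := by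
  have h := (F.six_rel i).r1
  rw [← h]
  exact mul_mem (mul_mem (mul_mem (mem_gens i).1 u_mem.1) (mem_gens i).1) u_mem.1

theorem a_mem (i : Fin 3) : a i ∈ KK r s u a c := by
  obtain ⟨j, k, hji, hki, hkj⟩ : ∃ j k, j ≠ i ∧ k ≠ i ∧ k ≠ j := by revert i; decide
  have h := (F.tn j).pc k i hkj hji.symm hki.symm
  have e : a i = c k * (nn r c j * c k * nn r c j) := by rw [h, ← mul_assoc, F.c2, one_mul]
  rw [e]
  exact mul_mem (F.c_mem k) (mul_mem (mul_mem (mem_gens j).1 (F.c_mem k)) (mem_gens j).1)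

theorem v_mem : v ∈ KK r s u a c := by
  have h := (F.tn 0).pai
  have e : v = nn r c 0 * a 0 * nn r c 0 * a 0 := by rw [h, mul_assoc, F.a2, mul_one]
  rw [e]
  exact mul_mem (mul_mem (mul_mem (mem_gens 0).1 (F.a_mem 0)) (mem_gens 0).1) (F.a_mem 0)

theorem z_mem : z ∈ KK r s u a c := by
  have e : z = c 0 * a 0 * c 0 * a 0 := by rw [F.cac, mul_assoc, F.a2, mul_one]
  rw [e]
  exact mul_mem (mul_mem (mul_mem (F.c_mem 0) (F.a_mem 0)) (F.c_mem 0)) (F.a_mem 0)

theorem Q_le : Q ≤ KK r s u a c := by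
  classical
  intro q hq
  let K : AddSubgroup V8 :=
    { carrier := {x | ∃ q, (q ∈ Q ∧ q ∈ KK r s u a c) ∧ cl Q q = κ x}
      zero_mem' := ⟨1, ⟨Q.one_mem, one_mem _⟩, by rw [cl_one, F.C.zero F.H]⟩
      add_mem' := fun {x y} ⟨p, hp, hx⟩ ⟨q, hq, hy⟩ =>
        ⟨p * q, ⟨Q.mul_mem hp.1 hq.1, mul_mem hp.2 hq.2⟩, F.C.cl_mul' F.H hp.1 hq.1 hx hy⟩
      neg_mem' := fun {x} h => by rwa [neg_eq_of_add_eq_zero_left (two8 x)] }
  have hK : ∀ x, x ∈ K := fun x => by
    rw [← QuotientAddGroup.eq_zero_iff]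
    refine hom_ext (f := QuotientAddGroup.mk' K) (g := 0) (fun b hb => ?_) x
    rw [QuotientAddGroup.mk'_apply, AddMonoidHom.zero_apply, QuotientAddGroup.eq_zero_iff]
    have hcases : ∀ b : Fin 3 → Fin 3, (∀ i, b i ≠ 2) →
        b = 0 ∨ b = 1 ∨ (∃ i, b = xA i) ∨ (∃ i, b = xC i) := by decide +kernel
    rcases hcases b hb with rfl | rfl | ⟨i, rfl⟩ | ⟨i, rfl⟩
    · exact ⟨v, ⟨F.A.vQ, F.v_mem⟩, F.A.cv⟩
    · exact ⟨u, ⟨F.A.uQ, u_mem.1⟩, F.A.cu⟩
    · exact ⟨a i, ⟨F.A.aQ i, F.a_mem i⟩, F.A.ca i⟩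
    · exact ⟨c i, ⟨F.B.aQ i, F.c_mem i⟩, F.cc i⟩
  obtain ⟨x, hx⟩ := F.C.exists_x F.H (q := q)
  obtain ⟨p, hp, hpx⟩ := hK x
  rcases F.C.eq_or F.H hq hp.1 hx hpx with e | e <;> rw [e]
  · exact hp.2
  · exact mul_mem F.z_mem hp.2

/-- the centraliser is contained -/
theorem C_le : Cz z ≤ KK r s u a c := by
  classical
  intro x hx
  let M : Subgroup M0 :=
    { carrier := {k | ∃ y ∈ KK r s u a c, y ∈ Cz z ∧ img z π y = k}
      one_mem' := ⟨1, one_mem _, one_mem _, F.H.img_one⟩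
      mul_mem' := fun {k l} ⟨y, hy, hyC, e⟩ ⟨y', hy', hyC', e'⟩ =>
        ⟨y * y', mul_mem hy hy', mul_mem hyC hyC', by rw [F.H.img_mul hyC hyC', e, e']⟩
      inv_mem' := fun {k} ⟨y, hy, hyC, e⟩ => ⟨y⁻¹, inv_mem hy, inv_mem hyC, by rw [F.H.img_inv hyC, e]⟩ }
  have hM : ∀ i σ, sgl i σ ∈ M := by
    intro i
    have h1 : sgl i tt ∈ M := ⟨_, (mem_gens i).1, F.n_C i, F.n_img i⟩
    have h2 : sgl i tt' ∈ M := ⟨_, (mem_gens i).2, F.m_C i, F.m_img i⟩
    intro σ
    rcases s3_gen σ with rfl | rfl | rfl | rfl | rfl | rfl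
    · rw [sgl_one]; exact one_mem _
    · exact h1
    · exact h2
    · rw [sgl_mul]; exact mul_mem h1 h2
    · rw [sgl_mul]; exact mul_mem h2 h1
    · rw [sgl_mul, sgl_mul]; exact mul_mem (mul_mem h1 h2) h1
  obtain ⟨y, hy, hyC, e⟩ : img z π x ∈ M := by
    rw [eq_prod_sgl (img z π x)]
    exact mul_mem (mul_mem (hM _ _) (hM _ _)) (hM _ _)
  have hq : y⁻¹ * x ∈ Q := by
    rw [← F.H.img_eq_one ((Cz z).mul_mem ((Cz z).inv_mem hyC) hx), F.H.img_mul ((Cz z).inv_mem hyC) hx,
      F.H.img_inv hyC, e, inv_mul_cancel]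
  have := mul_mem hy (F.Q_le hq)
  rwa [mul_inv_cancel_left] at this

theorem n_ne (i : Fin 3) : nn r c i ≠ 1 := fun e => by
  obtain ⟨k, hk⟩ := isConj_iff.1 (F.tn i).conj
  rw [e, conj_eq_one_iff] at hk
  exact F.H.zne hk

/-- the subgroup is the orthogonal group -/
theorem iso : Nonempty (↥(Cfsg.Omega (ZMod 2) (Cfsg.quadFormPlus 4 (ZMod 2))) ≃* ↥(KK r s u a c)) := by
  classical
  set K := KK r s u a c with hKd
  choose θ hker hn hm hu hw using fun i => exists_theta (F.six_rel i) (F.n_ne i)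
  choose τ hkerT hnT hmT huT hwT using fun i => exists_theta (F.six_rel i).flip
    (show u ≠ 1 from fun e => by
      obtain ⟨k, hk⟩ := isConj_iff.1 F.A.uconj
      rw [e, conj_eq_one_iff] at hk
      exact F.H.zne hk)
  have hθK : ∀ i x, θ i x ∈ K := by
    intro i x
    have hle : (e12 (F := ZMod 2)).range ⊔ e23.range ≤ K.comap (θ i) := by
      refine sup_le ?_ ?_
      · rintro _ ⟨y, rfl⟩
        have : ∀ y, y ∈ K.comap ((θ i).comp e12) := fun y => by
          refine (CfsgLib.Classical.eq_top_of_transvection_mem _ fun a' b' hab t => ?_).ge (Subgroup.mem_top y)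
          rw [Subgroup.mem_comap, transvection_two hab]
          rcases (show t = 0 ∨ t = 1 by revert t; decide) with rfl | rfl
          · split_ifs <;> simp [show tUp (0 : ZMod 2) = 1 by decide +kernel,
              show tLo (0 : ZMod 2) = 1 by decide +kernel, one_mem]
          · split_ifs <;> rw [MonoidHom.comp_apply]
            · rw [hn]; exact (mem_gens i).1
            · rw [hm]; exact (mem_gens i).2
        exact this y
      · rintro _ ⟨y, rfl⟩
        have : ∀ y, y ∈ K.comap ((θ i).comp e23) := fun y => by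
          refine (CfsgLib.Classical.eq_top_of_transvection_mem _ fun a' b' hab t => ?_).ge (Subgroup.mem_top y)
          rw [Subgroup.mem_comap, transvection_two hab]
          rcases (show t = 0 ∨ t = 1 by revert t; decide) with rfl | rfl
          · split_ifs <;> simp [show tUp (0 : ZMod 2) = 1 by decide +kernel,
              show tLo (0 : ZMod 2) = 1 by decide +kernel, one_mem]
          · split_ifs <;> rw [MonoidHom.comp_apply]
            · rw [hu]; exact u_mem.1
            · rw [hw]; exact u_mem.2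
        exact this y
    rw [sup_range] at hle
    exact hle (Subgroup.mem_top x)
  let Θ : Fin 3 → (SL(3, ZMod 2) →* ↥K) := fun i => (θ i).codRestrict K (hθK i)
  let ψo : Fin 3 → (SL(2, ZMod 2) →* ↥K) := fun i => (Θ i).comp e12
  let ψc : SL(2, ZMod 2) →* ↥K := (Θ 0).comp e23
  have hψc : ∀ i, (Θ i).comp e23 = ψc := fun i => sl2_ext
    (Subtype.ext ((hu i).trans (hu 0).symm)) (Subtype.ext ((hw i).trans (hw 0).symm))
  have hkerΘ : ∀ i, (Θ i).ker ≤ Subgroup.center SL(3, ZMod 2) := fun i x hx =>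
    hker i (MonoidHom.mem_ker.2 (congrArg Subtype.val (MonoidHom.mem_ker.1 hx) : θ i x = 1))
  have hE1 : ∀ i, EdgeRel (ψo i) ψc := fun i => ⟨Θ i, hkerΘ i, rfl, hψc i⟩
  have hτK : ∀ i x, τ i x ∈ K := by
    intro i x
    have hle : (e12 (F := ZMod 2)).range ⊔ e23.range ≤ K.comap (τ i) := by
      refine sup_le ?_ ?_
      · rintro _ ⟨y, rfl⟩
        have e : (τ i).comp e12 = (θ i).comp e23 := sl2_ext ((hnT i).trans (hu i).symm) ((hmT i).trans (hw i).symm)
        show τ i (e12 y) ∈ K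
        rw [show τ i (e12 y) = θ i (e23 y) from DFunLike.congr_fun e y]
        exact hθK i _
      · rintro _ ⟨y, rfl⟩
        have e : (τ i).comp e23 = (θ i).comp e12 := sl2_ext ((huT i).trans (hn i).symm) ((hwT i).trans (hm i).symm)
        show τ i (e23 y) ∈ K
        rw [show τ i (e23 y) = θ i (e12 y) from DFunLike.congr_fun e y]
        exact hθK i _
    rw [sup_range] at hle
    exact hle (Subgroup.mem_top x)
  have hE2 : ∀ i, EdgeRel ψc (ψo i) := fun i => by
    refine ⟨(τ i).codRestrict K (hτK i),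
      fun x hx => hkerT i (MonoidHom.mem_ker.2 (congrArg Subtype.val (MonoidHom.mem_ker.1 hx) : τ i x = 1)),
      sl2_ext (Subtype.ext ((hnT i).trans (hu 0).symm)) (Subtype.ext ((hmT i).trans (hw 0).symm)),
      sl2_ext (Subtype.ext ((huT i).trans (hn i).symm)) (Subtype.ext ((hwT i).trans (hm i).symm))⟩
  have hval : ∀ i, ((ψo i (tUp 1) : ↥K) : G) = nn r c i ∧ ((ψo i (tLo 1) : ↥K) : G) = nn s a i :=
    fun i => ⟨hn i, hm i⟩
  have hcomm : ∀ i j, i ≠ j → ∀ x y, ψo i x * ψo j y = ψo j y * ψo i x := by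
    intro i j hij
    have hgen : ∀ (g : ↥K) (k : Fin 3), Commute g (ψo k (tUp 1)) → Commute g (ψo k (tLo 1)) →
        ∀ y, Commute g (ψo k y) := by
      intro g k h1 h2 y
      have hy : y ∈ (Subgroup.centralizer {g}).comap (ψo k) := by
        refine (CfsgLib.Classical.eq_top_of_transvection_mem _ fun a' b' hab t => ?_).ge (Subgroup.mem_top y)
        rw [Subgroup.mem_comap, transvection_two hab]
        rcases (show t = 0 ∨ t = 1 by revert t; decide) with rfl | rfl
        · split_ifs <;> simp [show tUp (0 : ZMod 2) = 1 by decide +kernel,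
            show tLo (0 : ZMod 2) = 1 by decide +kernel, one_mem]
        · split_ifs <;> rw [Subgroup.mem_centralizer_singleton_iff]
          exacts [h1.symm.eq, h2.symm.eq]
      exact (Subgroup.mem_centralizer_singleton_iff.1 (Subgroup.mem_comap.1 hy)).symm
    obtain ⟨-, L2, L3, L4⟩ := F.levi i j hij.symm
    obtain ⟨-, -, -, M4⟩ := F.levi j i hij
    have c1 : Commute (ψo i (tUp 1)) (ψo j (tUp 1)) := Subtype.ext (by
      simp only [Subgroup.coe_mul, (hval i).1, (hval j).1]; exact L2.eq)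
    have c2 : Commute (ψo i (tLo 1)) (ψo j (tLo 1)) := Subtype.ext (by
      simp only [Subgroup.coe_mul, (hval i).2, (hval j).2]; exact L3.eq)
    have c3 : Commute (ψo i (tUp 1)) (ψo j (tLo 1)) := Subtype.ext (by
      simp only [Subgroup.coe_mul, (hval i).1, (hval j).2]; exact L4.eq)
    have c4 : Commute (ψo i (tLo 1)) (ψo j (tUp 1)) := Subtype.ext (by
      simp only [Subgroup.coe_mul, (hval i).2, (hval j).1]; exact M4.symm.eq)
    intro x y
    exact (hgen (ψo j y) i ((hgen _ j c1 c3 y).symm) ((hgen _ j c4 c2 y).symm) x).symm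
  let ψ : ℕ → (SL(2, ZMod 2) →* ↥K) := fun j => if j = 0 then ψo 0 else if j = 1 then ψc else ψo 1
  have hnOne : (nOne : SL(2, ZMod 2)) = 1 := by decide +kernel
  obtain ⟨T, t, R, hK⟩ := exists_sysD (m := 0) ψ (ψo 2)
    (fun j hj => by
      obtain rfl | rfl : j = 0 ∨ j = 1 := by omega
      · exact hE1 0
      · exact hE2 1)
    (fun i j hij hj => by
      obtain ⟨rfl, rfl⟩ : i = 0 ∧ j = 2 := by omega
      exact hcomm 0 1 (by decide))
    (hE2 2)
    (fun j hj hj1 => by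
      obtain rfl | rfl : j = 0 ∨ j = 2 := by omega
      · exact hcomm 0 2 (by decide)
      · exact hcomm 1 2 (by decide))
    (by rw [hnOne, map_one, map_one, one_mul])
  have hgen : Subgroup.closure (Set.range T ∪ {t}) = ⊤ := by
    set L := Subgroup.closure (Set.range T ∪ {t}) with hL
    obtain ⟨hψ, hb⟩ := hK L Subgroup.subset_closure
    have ho : ∀ i x, ψo i x ∈ L := by
      intro i x
      fin_cases i
      · exact hψ 0 (by omega) ⟨x, rfl⟩
      · exact hψ 2 (by omega) ⟨x, rfl⟩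
      · exact hb ⟨x, rfl⟩
    have hc1 : ∀ x, ψc x ∈ L := fun x => hψ 1 (by omega) ⟨x, rfl⟩
    rw [eq_top_iff]
    rintro ⟨x, hx⟩ -
    induction hx using Subgroup.closure_induction with
    | mem y hy =>
      rcases hy with (⟨i, rfl⟩ | ⟨i, rfl⟩) | rfl | rfl
      · have := ho i (tUp 1); rwa [show ψo i (tUp 1) = ⟨_, _⟩ from Subtype.ext (hval i).1] at this
      · have := ho i (tLo 1); rwa [show ψo i (tLo 1) = ⟨_, _⟩ from Subtype.ext (hval i).2] at this
      · have := hc1 (tUp 1); rwa [show ψc (tUp 1) = ⟨_, _⟩ from Subtype.ext (hu 0)] at this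
      · have := hc1 (tLo 1); rwa [show ψc (tLo 1) = ⟨_, _⟩ from Subtype.ext (hw 0)] at this
    | one => exact one_mem L
    | mul p q hp hq h1 h2 => exact mul_mem h1 h2
    | inv p hp h1 => exact inv_mem h1
  obtain ⟨f, hf⟩ := exists_omega_hom R hgen
  haveI : IsSimpleGroup ↥(Cfsg.Omega (ZMod 2) (Cfsg.quadFormPlus (0 + 4) (ZMod 2))) := om8_simple
  refine ⟨MulEquiv.ofBijective f ⟨?_, hf⟩⟩
  rw [← MonoidHom.ker_eq_bot_iff]
  refine ((inferInstance : f.ker.Normal).eq_bot_or_eq_top).resolve_right fun htop => ?_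
  obtain ⟨x, hx⟩ := hf ⟨nn r c 0, (mem_gens 0).1⟩
  rw [MonoidHom.mem_ker.1 (htop ▸ Subgroup.mem_top x)] at hx
  exact F.n_ne 0 (congrArg Subtype.val hx).symm

end Fr

end CfsgLib.OmegaEightCent
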