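import Cfsg.Agent.Lib.OmegaEightCent.OutBase

/-!
`z` is not weakly closed in `Q` unless it is isolated.
-/

set_option autoImplicit false
set_option linter.unusedSectionVars false
set_option linter.style.haveILetI false
set_option maxHeartbeats 1000000

open Cfsg CfsgLib.Extraspecial
open Equiv (Perm swap)

namespace CfsgLib.OmegaEightCent

variable {G : Type*} [Group G] [Finite G] {z : G} {Q : Subgroup G} {π : ↥(Cz z) →* M0}

open scoped Classical in
/-- the preimage in `Q` -/
noncomputable def Pre.preim (H : Pre z Q π) (D : Subgroup (T Q)) : Subgroup G where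
  carrier := {q | q ∈ Q ∧ cl Q q ∈ D}
  one_mem' := ⟨Q.one_mem, by rw [cl_one]; exact D.one_mem⟩
  mul_mem' := fun ha hb => ⟨Q.mul_mem ha.1 hb.1, by rw [cl_mul ha.1 hb.1]; exact D.mul_mem ha.2 hb.2⟩
  inv_mem' := fun {a} ha => ⟨Q.inv_mem ha.1, by
    have : cl Q a⁻¹ = cl Q a := by
      rw [← H.T_mul_eq_one, ← cl_mul (Q.inv_mem ha.1) ha.1, inv_mul_cancel, cl_one]
    rw [this]; exact ha.2⟩

namespace Pre

variable (H : Pre z Q π)
include H

theorem card_preim (D : Subgroup (T Q)) : 2 * Nat.card D ≤ Nat.card ↥(H.preim D) := by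
  classical
  rw [mul_comm, show (2 : ℕ) = Nat.card Bool by simp, ← Nat.card_prod]
  refine Nat.card_le_card_of_injective (fun p : D × Bool =>
    (⟨(bif p.2 then z else 1) * rep Q p.1.1, ?_⟩ : ↥(H.preim D))) ?_
  · obtain ⟨d, b⟩ := p
    cases b
    · exact ⟨by simpa using rep_mem Q d.1, by simp [cl_rep]⟩
    · refine ⟨by simpa using Q.mul_mem H.zQ (rep_mem Q d.1), ?_⟩
      simp [cl_mul H.zQ (rep_mem Q d.1), H.cl_z, cl_rep]
  · rintro ⟨a, b⟩ ⟨c, d⟩ h
    simp only [Subtype.mk.injEq] at h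
    have e := congrArg (cl Q) h
    cases b <;> cases d <;>
      simp [cl_mul H.zQ, rep_mem, H.cl_z, cl_rep] at e h ⊢
    all_goals first
      | exact e
      | (subst e; exact H.zne (by simpa using h))

end Pre

namespace Pt

variable {g : G} (H : Pre z Q π) (P : Pt z Q g)
include H P

/-- the commutator with the other conjugate as a homomorphism -/
noncomputable def del : T Q →* T Q :=
  MonoidHom.mk' (fun t => ac Q (vv z g) t * t) fun a b => by
    show ac Q (vv z g) (a * b) * (a * b) = ac Q (vv z g) a * a * (ac Q (vv z g) b * b)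
    letI : CommGroup (T Q) := { (inferInstance : Group (T Q)) with mul_comm := H.T_comm }
    rw [H.ac_mul (P.vC H)]
    ac_rfl

theorem del_apply (t : T Q) : P.del H t = ac Q (vv z g) t * t := rfl

theorem ac_vv (t : T Q) : ac Q (vv z g) (ac Q (vv z g) t) = t := by
  rw [← H.ac_comp (P.vC H) (P.vC H), P.v_sq H, H.ac_Q Q.one_mem]

theorem del_fix (t : T Q) : ac Q (vv z g) (P.del H t) = P.del H t := by
  rw [del_apply, H.ac_mul (P.vC H), P.ac_vv H, H.T_comm]

theorem del_eq_one {t : T Q} : P.del H t = 1 ↔ ac Q (vv z g) t = t := H.T_mul_eq_one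

theorem del_perp {s t : T Q} (ht : ac Q (vv z g) t = t) : bT z Q (P.del H s) t = false := by
  rw [del_apply, H.bT_mul_left]
  have : bT z Q (ac Q (vv z g) s) t = bT z Q s t := by
    conv_lhs => rw [← ht, H.bT_ac (P.vC H)]
  rw [this, Bool.xor_self]

theorem anti_cases {p : G} (hp : p ∈ Q) (h : ac Q (vv z g) (cl Q p) = cl Q p) :
    p ∈ Aq z Q g ∨ vv z g * p * (vv z g)⁻¹ = z * p := by
  rw [H.ac_cl (P.vC H) hp, H.cl_eq_iff (H.conjQ (P.vC H) hp) hp] at h
  exact h.imp_left fun e => (P.mem_Aq H).2 ⟨hp, (mul_inv_eq_iff_eq_mul.1 e).symm⟩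

/-- the centraliser in `Q` is elementary -/
theorem A_sq {a : G} (ha : a ∈ Aq z Q g) : a * a = 1 := by
  refine (H.st.sq_cases ha.1).resolve_right fun h => ?_
  have ha' := ((P.mem_Aq H).1 ha).2
  have h2 : phi z π g a * phi z π g a = img z π (uu z g) := by
    rw [← P.phi_mul H ha' ha', h]; rfl
  refine P.mu_ne H ?_
  rw [← h2]
  funext i
  exact s3_sq _ (by
    have := congrFun (show phi z π g a * phi z π g a * (phi z π g a * phi z π g a) = 1 by
      rw [h2, P.mu_sq H]) i
    exact this)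

theorem A_comm {a b : G} (ha : a ∈ Aq z Q g) (hb : b ∈ Aq z Q g) : a * b = b * a := by
  calc a * b = a⁻¹ * b⁻¹ := by
        rw [inv_eq_of_mul_eq_one_right (P.A_sq H ha), inv_eq_of_mul_eq_one_right (P.A_sq H hb)]
    _ = (b * a)⁻¹ := (mul_inv_rev _ _).symm
    _ = b * a := inv_eq_of_mul_eq_one_right (P.A_sq H ((Aq z Q g).mul_mem hb ha))

/-- the induced map on the centraliser in `Q` -/
noncomputable def phiA : ↥(Aq z Q g) →* M0 :=
  MonoidHom.mk' (fun a => phi z π g a) fun a b =>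
    P.phi_mul H ((P.mem_Aq H).1 a.2).2 ((P.mem_Aq H).1 b.2).2

theorem phiA_apply (a : ↥(Aq z Q g)) : P.phiA H a = phi z π g a := rfl

theorem range_sq : ∀ m ∈ (P.phiA H).range, m * m = 1 := by
  rintro _ ⟨a, rfl⟩
  exact P.phi_sq H a.2 (P.A_sq H a.2)

/-- no element of `Q` is moved to its product with `z` -/
theorem no_anti {q0 : G} (h0 : q0 ∈ Q) : vv z g * q0 * (vv z g)⁻¹ ≠ z * q0 := by
  classical
  intro hz
  letI : CommGroup (T Q) := { (inferInstance : Group (T Q)) with mul_comm := H.T_comm }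
  set R := (P.del H).range with hR
  have hperp : ∀ a ∈ R, ∀ b ∈ R, bT z Q a b = false := by
    rintro _ ⟨s, rfl⟩ _ ⟨t, rfl⟩
    exact P.del_perp H (P.del_fix H t)
  let R0 : Subgroup (T Q) :=
    { carrier := {t | t ∈ R ∧ qT z Q t = false}
      one_mem' := ⟨R.one_mem, by
        rw [← cl_one Q, Bool.eq_false_iff, Ne, H.qT_cl Q.one_mem, one_mul]; exact H.zne.symm⟩
      mul_mem' := fun {a b} ha hb => ⟨R.mul_mem ha.1 hb.1, by
        rw [H.qT_mul, ha.2, hb.2, hperp a ha.1 b hb.1]; rfl⟩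
      inv_mem' := fun {a} ha => by rw [H.T_inv]; exact ha }
  have hin : ∀ p ∈ H.preim R0, p ∈ Aq z Q g ∧ (phi z π g p = 1 → p = 1) := by
    rintro p ⟨hp, ⟨t, ht⟩, hq⟩
    have h2 : p * p = 1 := (H.st.sq_cases hp).resolve_right fun e => by
      rw [(H.qT_cl hp).2 e] at hq; exact Bool.noConfusion hq
    obtain ⟨q, hq', rfl⟩ : ∃ q ∈ Q, p = dlt z g q := P.dlt_all H h0 hz (rep_mem Q t) hp (by
      rw [cl_rep]; exact ht.symm)
    exact ⟨(P.key H (π := π) hq' h2).1, (P.key H (π := π) hq' h2).2.1⟩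
  have h8 : Nat.card ↥(H.preim R0) ≤ 8 := by
    refine le_trans (Nat.card_le_card_of_injective (β := ↥(P.phiA H).range)
      (fun p => ⟨phi z π g p, ⟨⟨p, (hin p p.2).1⟩, rfl⟩⟩) fun a b h => ?_) (card_elem_le _ (P.range_sq H))
    have e : phi z π g a = phi z π g b := congrArg Subtype.val h
    have ha := ((P.mem_Aq H).1 (hin a a.2).1).2
    have hb := ((P.mem_Aq H).1 (Subgroup.inv_mem _ (hin b b.2).1)).2
    have := (hin _ ((H.preim R0).mul_mem a.2 ((H.preim R0).inv_mem b.2))).2 (by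
      rw [P.phi_mul H ha hb, P.phi_inv H ((P.mem_Aq H).1 (hin b b.2).1).2, e, mul_inv_cancel])
    exact Subtype.ext (mul_inv_eq_one.1 this)
  have h4 : Nat.card R0 ≤ 4 := by have := H.card_preim R0; omega
  have h256 : Nat.card ↥(P.del H).ker * Nat.card R = 256 := by
    have h := (P.del H).ker.card_mul_index
    rwa [Subgroup.index_ker, H.card_T] at h
  set W := H.preim (P.del H).ker with hW
  have hW2 := H.card_preim (P.del H).ker
  have hWc : ∀ p ∈ W, ac Q (vv z g) (cl Q p) = cl Q p := fun p hp => (P.del_eq_one H).1 hp.2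
  by_cases hex : ∃ t ∈ R, qT z Q t = true
  · obtain ⟨t, htR, hqt⟩ := hex
    have hR8 : Nat.card R ≤ 8 := by
      refine le_trans (Nat.card_le_card_of_injective (β := R0 × Bool) (fun x =>
        if h : qT z Q x.1 = false then (⟨x.1, x.2, h⟩, false)
        else (⟨x.1 * t, R.mul_mem x.2 htR, by
          rw [H.qT_mul, hqt, hperp x.1 x.2 t htR, Bool.not_eq_false] at *; simp [h]⟩, true)) ?_) ?_
      · intro a b h
        apply Subtype.ext
        simp only at h
        by_cases ha : qT z Q a.1 = false <;> by_cases hb : qT z Q b.1 = false <;>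
          first
            | rw [dif_pos ha, dif_pos hb] at h | rw [dif_pos ha, dif_neg hb] at h
            | rw [dif_neg ha, dif_pos hb] at h | rw [dif_neg ha, dif_neg hb] at h
        all_goals simp only [Prod.mk.injEq, Subtype.mk.injEq] at h
        · exact h.1
        · exact absurd h.2 (by decide)
        · exact absurd h.2 (by decide)
        · exact mul_right_cancel h.1
      · rw [Nat.card_prod, Nat.card_eq_fintype_card (α := Bool), Fintype.card_bool]; omega
    set k := rep Q t with hk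
    have hkQ : k ∈ Q := rep_mem Q t
    have hk2 : k * k = z := by rwa [← H.qT_cl hkQ, cl_rep]
    obtain ⟨s, hs⟩ := id htR
    obtain ⟨q, hq, hkq⟩ : ∃ q ∈ Q, k = dlt z g q := P.dlt_all H h0 hz (rep_mem Q s) hkQ (by
      rw [hk, cl_rep, cl_rep]; exact hs.symm)
    have hkv : vv z g * k * (vv z g)⁻¹ = z * k := by
      rw [hkq, P.dlt_conj H, inv_eq_iff_mul_eq_one, ← hkq, ← mul_assoc, H.st.z_comm hkQ, mul_assoc, hk2,
        H.z2]
    have hkW : k ∈ W := ⟨hkQ, by rw [hk, cl_rep, ← hs]; exact (P.del_eq_one H).2 (P.del_fix H s)⟩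
    have hkc : ∀ p ∈ W, p * k = k * p := by
      intro p hp
      have : bT z Q (cl Q k) (cl Q p) = false := by
        rw [hk, cl_rep, ← hs]; exact P.del_perp H (hWc p hp)
      rw [Bool.eq_false_iff, Ne, H.bT_cl hkQ hp.1, not_not] at this
      exact this.symm
    have hdec : ∀ p ∈ W, ∃ b ∈ Aq z Q g, b ∈ W ∧ (p = b ∨ p = b * k) := by
      intro p hp
      rcases P.anti_cases H hp.1 (hWc p hp) with h | h
      · exact ⟨p, h, hp, Or.inl rfl⟩
      · refine ⟨p * k⁻¹, (P.mem_Aq H).2 ⟨Q.mul_mem hp.1 (Q.inv_mem hkQ),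
          (mul_inv_eq_iff_eq_mul.1 ?_).symm⟩, W.mul_mem hp (W.inv_mem hkW), Or.inr (by group)⟩
        calc vv z g * (p * k⁻¹) * (vv z g)⁻¹
            = (vv z g * p * (vv z g)⁻¹) * (vv z g * k * (vv z g)⁻¹)⁻¹ := by group
          _ = z * (p * k⁻¹ * z) := by rw [h, hkv, mul_inv_rev, H.st.inv_z]; group
          _ = _ := by rw [H.st.z_comm (Q.mul_mem hp.1 (Q.inv_mem hkQ)), ← mul_assoc, H.z2, one_mul]
    have habel : ∀ a ∈ W, ∀ b ∈ W, a * b = b * a := by
      intro a ha b hb
      obtain ⟨a', ha', haW, hea⟩ := hdec a ha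
      obtain ⟨b', hb', hbW, heb⟩ := hdec b hb
      have h1 : Commute a' b' := P.A_comm H ha' hb'
      have h2 : Commute a' k := hkc a' haW
      have h3 : Commute b' k := hkc b' hbW
      show Commute a b
      rcases hea with rfl | rfl <;> rcases heb with rfl | rfl
      · exact h1
      · exact h1.mul_right h2
      · exact h1.mul_left h3.symm
      · exact (h1.mul_right h2).mul_left (h3.symm.mul_right (Commute.refl k))
    have := H.card_abelian_le (B := W) (fun p hp => hp.1) habel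
    nlinarith
  · push Not at hex
    have hR4 : Nat.card R ≤ 4 :=
      le_trans (Subgroup.card_le_of_le (show R ≤ R0 from fun x hx => ⟨hx, by simpa using hex x hx⟩)) h4
    have hA := H.card_abelian_le (B := Aq z Q g) inf_le_left fun a ha b hb => P.A_comm H ha hb
    have hW64 : Nat.card W ≤ 64 := by
      refine le_trans (Nat.card_le_card_of_injective (β := ↥(Aq z Q g) × Bool) (fun p =>
        if h : (p : G) ∈ Aq z Q g then (⟨p, h⟩, false) else (⟨p * q0, ?_⟩, true)) ?_) ?_
      · have hp := (P.anti_cases H p.2.1 (hWc p p.2)).resolve_left h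
        refine (P.mem_Aq H).2 ⟨Q.mul_mem p.2.1 h0, (mul_inv_eq_iff_eq_mul.1 ?_).symm⟩
        calc vv z g * ((p : G) * q0) * (vv z g)⁻¹
            = (vv z g * p * (vv z g)⁻¹) * (vv z g * q0 * (vv z g)⁻¹) := by group
          _ = z * ((p : G) * z) * q0 := by rw [hp, hz]; group
          _ = _ := by rw [H.st.z_comm p.2.1, ← mul_assoc z, H.z2, one_mul]
      · intro a b h
        apply Subtype.ext
        by_cases ha : (a : G) ∈ Aq z Q g <;> by_cases hb : (b : G) ∈ Aq z Q g <;>
          simp only [ha, hb, ↓reduceDIte, Prod.mk.injEq, Subtype.mk.injEq] at h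
        · exact h.1
        · exact absurd h.2 (by decide)
        · exact absurd h.2 (by decide)
        · exact mul_right_cancel h.1
      · rw [Nat.card_prod, Nat.card_eq_fintype_card (α := Bool), Fintype.card_bool]; omega
    nlinarith

/-- the centraliser in `Q` is the preimage of the fixed space, which is the space of commutators -/
theorem shape : Nat.card ↥(Aq z Q g) = 32 ∧
    ∀ p ∈ Q, ac Q (vv z g) (cl Q p) = cl Q p →
      p ∈ Aq z Q g ∧ ∃ q ∈ Q, p = dlt z g q ∨ p = z * dlt z g q := by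
  classical
  letI : CommGroup (T Q) := { (inferInstance : Group (T Q)) with mul_comm := H.T_comm }
  have hfix : ∀ p ∈ Q, ac Q (vv z g) (cl Q p) = cl Q p → p ∈ Aq z Q g := fun p hp h =>
    (P.anti_cases H hp h).resolve_right (P.no_anti H hp)
  have hle : H.preim (P.del H).ker ≤ Aq z Q g := fun p hp => hfix p hp.1 ((P.del_eq_one H).1 hp.2)
  have hA := H.card_abelian_le (B := Aq z Q g) inf_le_left fun a ha b hb => P.A_comm H ha hb
  have hk := le_trans (H.card_preim (P.del H).ker) (Subgroup.card_le_of_le hle)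
  have hsub : (P.del H).range ≤ (P.del H).ker := by
    rintro _ ⟨t, rfl⟩
    exact (P.del_eq_one H).2 (P.del_fix H t)
  have h256 : Nat.card ↥(P.del H).ker * Nat.card ↥(P.del H).range = 256 := by
    have h := (P.del H).ker.card_mul_index
    rwa [Subgroup.index_ker, H.card_T] at h
  have hrk := Subgroup.card_le_of_le hsub
  have hk16 : Nat.card ↥(P.del H).ker = 16 := by nlinarith
  have heq : (P.del H).range = (P.del H).ker := Subgroup.eq_of_le_of_card_ge hsub (by nlinarith)
  refine ⟨by omega, fun p hp h => ⟨hfix p hp h, ?_⟩⟩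
  obtain ⟨t, ht⟩ := heq.ge ((P.del_eq_one H).2 h)
  refine ⟨rep Q t, rep_mem Q t, P.dlt_or H (rep_mem Q t) hp ?_⟩
  rw [cl_rep]; exact ht.symm

theorem A_dlt {a : G} (ha : a ∈ Aq z Q g) : ∃ q ∈ Q, a = dlt z g q ∨ a = z * dlt z g q := by
  refine ((P.shape H).2 a ha.1 ?_).2
  rw [H.ac_cl (P.vC H) ha.1]
  congr 1
  rw [mul_inv_eq_iff_eq_mul]
  exact ((P.mem_Aq H).1 ha).2.symm

theorem dlt_A {q : G} (hq : q ∈ Q) : dlt z g q ∈ Aq z Q g :=
  ((P.shape H).2 _ (P.dlt_mem H hq) (P.dlt_fix H hq)).1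

/-- the induced group is an elementary group of order eight -/
theorem phi_full : ∃ s : M0, (∀ i, s i * s i = 1 ∧ s i ≠ 1) ∧
    ∀ m, m ∈ (P.phiA H).range ↔ ∀ i, m i = 1 ∨ m i = s i := by
  classical
  refine elem_full _ (P.range_sq H) ?_
  set N := (P.phiA H).ker with hN
  have hrep : ∀ n : ↥(Aq z Q g), n ∈ N → n ≠ 1 → ∃ q ∈ Q, (n : G) = z * dlt z g q := by
    intro n hn hn1
    obtain ⟨q, hq, e | e⟩ := P.A_dlt H n.2
    · exact absurd (Subtype.ext (e.trans ((P.key H (π := π) hq (by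
        rw [← e]; exact P.A_sq H n.2)).2.1 (by rw [← e]; exact hn)))) hn1
    · exact ⟨q, hq, e⟩
  have hanti : ∀ a b : ↥(Aq z Q g), a ∈ N → b ∈ N → a ≠ 1 → b ≠ 1 → a ≠ b → ∀ q ∈ Q,
      (a : G) = z * dlt z g q → q * b ≠ b * q := by
    intro a b ha hb ha1 hb1 hab q hq hqa hc
    obtain ⟨p, hp, hpb⟩ := hrep b hb hb1
    have hd : (a : G) * b = dlt z g (q * p) := by
      calc (a : G) * b = z * dlt z g q * (z * dlt z g p) := by rw [hqa, hpb]
        _ = dlt z g q * dlt z g p := by
          rw [show z * dlt z g q * (z * dlt z g p) = z * (dlt z g q * z) * dlt z g p by group,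
            H.st.z_comm (P.dlt_mem H hq), ← mul_assoc z, H.z2, one_mul]
        _ = _ := by
          have hqd : Commute q (dlt z g p) := by
            have hzq : Commute q z := H.st.z_comm hq
            have hb' : Commute q (z * dlt z g p) := by rw [← hpb]; exact hc
            have := hzq.mul_right hb'
            rwa [← mul_assoc, H.z2, one_mul] at this
          calc dlt z g q * dlt z g p
              = vv z g * q * (vv z g)⁻¹ * q⁻¹ * (dlt z g p * q) * q⁻¹ := by simp only [dlt]; group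
            _ = vv z g * q * (vv z g)⁻¹ * q⁻¹ * (q * dlt z g p) * q⁻¹ := by rw [hqd.eq]
            _ = _ := by simp only [dlt]; group
    have hm : a * b ∈ N := N.mul_mem ha hb
    have h1 : a * b = 1 := Subtype.ext ((hd.trans ((P.key H (π := π) (Q.mul_mem hq hp) (by
      rw [← hd]; exact P.A_sq H (a * b).2)).2.1 (by rw [← hd]; exact hm))) : (a : G) * b = 1)
    refine hab (eq_inv_of_mul_eq_one_left h1 |>.trans ?_)
    exact Subtype.ext (inv_eq_of_mul_eq_one_right (P.A_sq H b.2))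
  have h4 : Nat.card N ≤ 4 := by
    by_contra hlt
    push Not at hlt
    have mem : ∀ T' : Finset ↥(Aq z Q g), T'.card ≤ 4 → ∃ n ∈ N, n ∉ T' := fun T' hT => by
      by_contra h
      push Not at h
      have := Nat.card_le_card_of_injective (fun n : N => (⟨n.1, h n n.2⟩ : {x // x ∈ T'}))
        fun x y e => Subtype.ext (congrArg Subtype.val e :)
      rw [Nat.card_eq_fintype_card (α := {x // x ∈ T'}), Fintype.card_coe] at this
      omega
    obtain ⟨a, ha, hat⟩ := mem {1} (by simp)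
    obtain ⟨b, hb, hbt⟩ := mem {1, a} (le_trans (Finset.card_insert_le _ _) (by simp))
    obtain ⟨d, hd, hdt⟩ := mem {1, a, b, a * b} (le_trans (Finset.card_insert_le _ _)
      (Nat.succ_le_succ (le_trans (Finset.card_insert_le _ _) (Nat.succ_le_succ
        (le_trans (Finset.card_insert_le _ _) (by simp))))))
    simp only [Finset.mem_insert, Finset.mem_singleton, not_or] at hat hbt hdt
    have hab1 : a * b ≠ 1 := fun e => hbt.2 (by
      rw [eq_inv_of_mul_eq_one_right e]
      exact Subtype.ext (inv_eq_of_mul_eq_one_right (P.A_sq H a.2)))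
    obtain ⟨q, hq, hqd⟩ := hrep d hd hdt.1
    have e1 := hanti d a hd ha hdt.1 hat hdt.2.1 q hq hqd
    have e2 := hanti d b hd hb hdt.1 hbt.1 hdt.2.2.1 q hq hqd
    have e3 := hanti d (a * b) hd (N.mul_mem ha hb) hdt.1 hab1 hdt.2.2.2 q hq hqd
    refine e3 ?_
    have f1 := (H.anti_iff hq a.2.1).1 e1
    have f2 := (H.anti_iff hq b.2.1).1 e2
    refine mul_inv_eq_iff_eq_mul.1 ?_
    calc q * ((a : G) * b) * q⁻¹ = (q * a * q⁻¹) * (q * b * q⁻¹) := by group
      _ = z * ((a : G) * z) * b := by rw [f1, f2]; group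
      _ = (a : G) * b := by rw [H.st.z_comm a.2.1, ← mul_assoc z, H.z2, one_mul]
  have h := N.card_mul_index
  rw [Subgroup.index_ker, (P.shape H).1] at h
  nlinarith

/-- the image of the conjugate moves every coordinate -/
theorem full (i : Fin 3) : img z π (vv z g) i ≠ 1 := by
  classical
  intro hi
  obtain ⟨c, hc, hci⟩ := H.lift (sgl i rr)
  have hr3 : sgl i rr * sgl i rr * sgl i rr = 1 ∧ sgl i rr ≠ 1 := by
    refine ⟨?_, fun e => absurd (sgl_inj i (e.trans (sgl_one i).symm)) (by decide +kernel)⟩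
    rw [← sgl_mul, ← sgl_mul, show rr * rr * rr = 1 by decide +kernel, sgl_one]
  set v := vv z g with hv
  have hvC := P.vC H
  have hcv : img z π (c * v * c⁻¹) = img z π v := by
    rw [H.img_conj hc hvC, hci]
    funext j
    simp only [Pi.mul_apply, Pi.inv_apply]
    by_cases hj : j = i
    · subst hj; rw [sgl_self, hi, mul_one, mul_inv_cancel]
    · rw [sgl_ne hj, one_mul, inv_one, mul_one]
  set a := v⁻¹ * (c * v * c⁻¹) with hadef
  have hcC : c * v * c⁻¹ ∈ Cz z := (Cz z).mul_mem ((Cz z).mul_mem hc hvC) ((Cz z).inv_mem hc)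
  have haQ : a ∈ Q := by
    rw [← H.img_eq_one ((Cz z).mul_mem ((Cz z).inv_mem hvC) hcC), H.img_mul ((Cz z).inv_mem hvC) hcC,
      H.img_inv hvC, hcv, inv_mul_cancel]
  have hva : v * a * v⁻¹ = a⁻¹ := by
    rw [eq_inv_iff_mul_eq_one, hadef, P.v_inv H]
    have hv2 : v * v = 1 := P.v_sq H
    have := P.v_inv H
    calc v * (v * (c * v * c⁻¹)) * v * (v * (c * v * c⁻¹))
        = (v * v) * (c * v * c⁻¹) * (v * v) * (c * v * c⁻¹) := by group
      _ = 1 * (c * v * c⁻¹) * 1 * (c * v * c⁻¹) := by rw [hv2]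
      _ = c * (v * v) * c⁻¹ := by group
      _ = 1 := by rw [hv2]; group
  have hfixa : ac Q v (cl Q a) = cl Q a := by
    rw [H.ac_cl hvC haQ, hva]
    rw [← H.T_mul_eq_one, ← cl_mul (Q.inv_mem haQ) haQ, inv_mul_cancel, cl_one]
  obtain ⟨-, q, hq, hqa⟩ := (P.shape H).2 a haQ hfixa
  have hc3Q : ∀ d ∈ Cz z, img z π d = sgl i rr → d * d * d ∈ Q := fun d hd e => by
    rw [← H.img_eq_one ((Cz z).mul_mem ((Cz z).mul_mem hd hd) hd), H.img_mul ((Cz z).mul_mem hd hd) hd,
      H.img_mul hd hd, e, hr3.1]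
  set d := q⁻¹ * c with hd
  have hdC : d ∈ Cz z := (Cz z).mul_mem (H.QC (Q.inv_mem hq)) hc
  have hdi : img z π d = sgl i rr := by
    rw [hd, H.img_mul (H.QC (Q.inv_mem hq)) hc, H.img_Q (Q.inv_mem hq), one_mul, hci]
  have hdv : d * v * d⁻¹ = v := by
    have e1 : d * v * d⁻¹ = q⁻¹ * (v * a) * q := by rw [hd, hadef]; group
    have e2 : q⁻¹ * (v * dlt z g q) * q = v := by
      have hv2 : v * v = 1 := P.v_sq H
      have hvi : v⁻¹ = v := P.v_inv H
      simp only [dlt, ← hv]
      clear_value v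
      calc q⁻¹ * (v * (v * q * v⁻¹ * q⁻¹)) * q = q⁻¹ * (v * v) * q * v⁻¹ := by group
        _ = v := by rw [hv2, hvi]; group
    rcases hqa with e | e
    · rw [e1, e, e2]
    · exfalso
      have e3 : d * v * d⁻¹ = z * v := by
        rw [e1, e]
        calc q⁻¹ * (v * (z * dlt z g q)) * q = q⁻¹ * (v * z) * dlt z g q * q := by group
          _ = (q⁻¹ * z) * v * dlt z g q * q := by rw [show v * z = z * v from mem_Cz.1 hvC]; group
          _ = z * (q⁻¹ * (v * dlt z g q) * q) := by rw [H.st.z_comm (Q.inv_mem hq)]; group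
          _ = _ := by rw [e2]
      have hdz : d * z = z * d := mem_Cz.1 hdC
      have e4 : d * d * d * v * (d * d * d)⁻¹ = z * v := by
        clear_value v d
        have hc1 : ∀ x : G, d * (z * x) * d⁻¹ = z * (d * x * d⁻¹) := fun x => by
          rw [← mul_assoc, hdz]; group
        calc d * d * d * v * (d * d * d)⁻¹ = d * (d * (d * v * d⁻¹) * d⁻¹) * d⁻¹ := by group
          _ = d * (z * (z * v)) * d⁻¹ := by rw [e3, hc1, e3]
          _ = z * (z * (d * v * d⁻¹)) := by rw [hc1, hc1]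
          _ = _ := by rw [e3, ← mul_assoc z z, H.z2, one_mul]
      refine P.no_anti H (hc3Q d hdC hdi) ?_
      have h3 := hc3Q d hdC hdi
      generalize d * d * d = k at e4 h3
      rw [mul_inv_eq_iff_eq_mul, ← hv]
      calc v * k = z * z * (v * k) := by rw [H.z2, one_mul]
        _ = z * (z * v * k) := by group
        _ = z * (k * v) := by rw [← e4]; group
        _ = z * k * v := (mul_assoc _ _ _).symm
  -- an element of order three
  set b := d * d * d * d with hb
  have hdv' : Commute d v := mul_inv_eq_iff_eq_mul.1 hdv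
  have hd3A : d * d * d ∈ Aq z Q g :=
    (P.mem_Aq H).2 ⟨hc3Q d hdC hdi, ((hdv'.mul_left hdv').mul_left hdv').eq⟩
  have hbC : b ∈ Cz z := (Cz z).mul_mem ((Cz z).mul_mem ((Cz z).mul_mem hdC hdC) hdC) hdC
  have hbi : img z π b = sgl i rr := by
    rw [hb, H.img_mul ((Cz z).mul_mem ((Cz z).mul_mem hdC hdC) hdC) hdC, H.img_Q hd3A.1, one_mul, hdi]
  have hbv : Commute b v := ((hdv'.mul_left hdv').mul_left hdv').mul_left hdv'
  have hb3 : b * b * b = 1 := by
    calc b * b * b = (d * d * d) * (d * d * d) * ((d * d * d) * (d * d * d)) := by rw [hb]; group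
      _ = 1 := by rw [P.A_sq H hd3A, one_mul]
  obtain ⟨s, hs, hA⟩ := P.phi_full H
  have hy3 : phi z π g b * phi z π g b * phi z π g b = 1 := by
    rw [← P.phi_mul H hbv.eq hbv.eq, ← P.phi_mul H (hbv.mul_left hbv).eq hbv.eq, hb3, P.phi_one H]
  have hy : phi z π g b = 1 := by
    refine norm_three hs hA hy3 ?_
    rintro _ ⟨x, rfl⟩
    have hx := (P.mem_Aq H).1 x.2
    have hxm : b * x * b⁻¹ ∈ Aq z Q g :=
      (P.mem_Aq H).2 ⟨H.conjQ hbC hx.1, ((hbv.mul_left hx.2).mul_left hbv.inv_left).eq⟩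
    refine ⟨⟨_, hxm⟩, ?_⟩
    show phi z π g (b * x * b⁻¹) = _
    rw [P.phi_mul H (hbv.mul_left hx.2).eq hbv.inv_left.eq, P.phi_mul H hbv.eq hx.2, P.phi_inv H hbv.eq]
    rfl
  have hgb : g * b * g⁻¹ ∈ Q := (H.img_eq_one (P.gC H hbv.eq)).1 hy
  have hb1 : g * b * g⁻¹ = 1 := by
    have h3 : (g * b * g⁻¹) * (g * b * g⁻¹) * (g * b * g⁻¹) = 1 := by
      calc _ = g * (b * b * b) * g⁻¹ := by group
        _ = 1 := by rw [hb3]; group
    generalize g * b * g⁻¹ = x at h3 hgb
    rcases H.st.sq_cases hgb with e | e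
    · rwa [e, one_mul] at h3
    · rw [e] at h3
      have hxz : x = z := by rw [← H.st.inv_z]; exact eq_inv_of_mul_eq_one_right h3
      rw [hxz, H.z2] at e
      exact absurd e.symm H.zne
  refine hr3.2 ?_
  rw [← hbi, show b = 1 by simpa using hb1, H.img_one]

/-- no such element exists -/
theorem absurd_pt : False := by
  classical
  obtain ⟨s, hs, hA⟩ := P.phi_full H
  have hΩ : ∀ m, Om z Q π m → ∀ i, m i ≠ 1 := by
    rintro _ ⟨h, Ph, rfl⟩ i
    exact Ph.full H i
  have hu : ∀ i, img z π (uu z g) i = s i := by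
    intro i
    have hm : img z π (uu z g) ∈ (P.phiA H).range := ⟨⟨z, P.z_A H⟩, rfl⟩
    refine ((hA _).1 hm i).resolve_left ?_
    have := (P.symm H).full H (π := π) i
    rwa [vv_inv H] at this
  obtain ⟨a, ha⟩ : sgl 0 (s 0) ∈ (P.phiA H).range := (hA _).2 fun j => by
    by_cases h : j = 0
    · subst h; exact Or.inr (sgl_self _ _)
    · exact Or.inl (sgl_ne h _)
  obtain ⟨q, hq, e⟩ := P.A_dlt H a.2
  have hd := P.dlt_A H hq
  obtain ⟨-, -, hk⟩ := P.key H (π := π) hq (P.A_sq H hd)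
  have hval : phi z π g (dlt z g q) = sgl 0 (s 0) ∨
      phi z π g (dlt z g q) = img z π (uu z g) * sgl 0 (s 0) := by
    rcases e with e | e
    · left; rw [← e]; exact ha
    · right
      rw [← ha, P.phiA_apply H, e, P.phi_mul H ((P.mem_Aq H).1 (P.z_A H)).2 ((P.mem_Aq H).1 hd).2,
        ← mul_assoc, phi_z H, P.mu_sq H, one_mul]
  rcases hval with h | h <;> rw [h] at hk
  · have h1 : sgl 0 (s 0) ≠ 1 := fun e => (hs 0).2 (sgl_inj 0 (e.trans (sgl_one 0).symm))
    exact hΩ _ (hk h1) 1 (sgl_ne (by decide) _)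
  · have h1 : img z π (uu z g) * sgl 0 (s 0) ≠ 1 := fun e => (hs 1).2 (by
      have := congrFun e 1
      rwa [Pi.mul_apply, sgl_ne (by decide), mul_one, hu] at this)
    refine hΩ _ (hk h1) 0 ?_
    rw [Pi.mul_apply, sgl_self, hu]
    exact (hs 0).1

end Pt

namespace Pre

variable (H : Pre z Q π)
include H

/-- `z` has another conjugate in `Q` unless it is isolated -/
theorem exists_pair {g : G} (hC : g * z * g⁻¹ ∈ Cz z) (hne : g * z * g⁻¹ ≠ z) :
    ∃ h : G, h * z * h⁻¹ ∈ Q ∧ h * z * h⁻¹ ≠ z := by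
  by_contra hno
  push Not at hno
  exact Pt.absurd_pt H (g := g) ⟨hno, hC, fun hQ => hne (hno g hQ)⟩

end Pre

end CfsgLib.OmegaEightCent
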